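import Cfsg.Agent.Lib.Inter10.Defs
import Cfsg.Agent.Lib.Coprime.HyperplaneGeneration
import Cfsg.Agent.Lib.TwoGroups.OneInvolution
import Cfsg.Agent.Lib.PCore.Basic

/-!
Groups with unique Sylow 2-subgroups over four-groups: pairs, rank one, and the action on the core.
-/

set_option autoImplicit false
set_option linter.style.haveILetI false
set_option linter.unusedSectionVars false

namespace CfsgLib.Inter10

open Subgroup Pointwise CfsgLib.Involutions

universe u

variable {G : Type u} [Group G] [Finite G]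

theorem exists_pair_of_card {A : Subgroup G} (hc : IsMulCommutative A) (h2 : ∀ a ∈ A, a * a = 1)
    (h4 : 2 < Nat.card A) :
    ∃ s ∈ A, ∃ t ∈ A, orderOf s = 2 ∧ orderOf t = 2 ∧ s ≠ t ∧ Commute s t := by
  have hord : ∀ a ∈ A, a ≠ 1 → orderOf a = 2 := fun a ha ha1 => orderOf_eq_two_iff_mul.2 ⟨ha1, h2 a ha⟩
  obtain ⟨s, hs, hs1⟩ : ∃ s ∈ A, s ≠ 1 := by
    by_contra hh
    push Not at hh
    have : A = ⊥ := (eq_bot_iff_forall A).2 hh
    rw [this, card_bot] at h4
    omega
  obtain ⟨t, ht, ht1⟩ : ∃ t ∈ A, t ∉ zpowers s := by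
    by_contra hh
    push Not at hh
    have := card_le_of_le (show A ≤ zpowers s from hh)
    rw [Nat.card_zpowers, hord s hs hs1] at this
    omega
  refine ⟨s, hs, t, ht, hord s hs hs1, hord t ht fun e => ht1 (e ▸ one_mem _), fun e => ?_, ?_⟩
  · exact ht1 (e ▸ mem_zpowers s)
  · exact congrArg Subtype.val (hc.is_comm.comm ⟨s, hs⟩ ⟨t, ht⟩)

theorem exists_pair_of_not_rank {P : Subgroup G} (h : ¬ Cfsg.PRankLE 2 1 P) :
    ∃ s ∈ P, ∃ t ∈ P, orderOf s = 2 ∧ orderOf t = 2 ∧ s ≠ t ∧ Commute s t := by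
  unfold Cfsg.PRankLE at h
  push Not at h
  obtain ⟨A, hA, hA2, hcard⟩ := h
  obtain ⟨s, -, t, -, hs, ht, hne, hc⟩ :=
    exists_pair_of_card hA (fun a ha => by rw [← pow_two]; exact hA2 a ha) (by simpa using hcard)
  exact ⟨s, s.2, t, t.2, by rwa [Subgroup.orderOf_coe], by rwa [Subgroup.orderOf_coe],
    fun e => hne (Subtype.ext e), congrArg Subtype.val hc.eq⟩

theorem not_rank_of_pair {P : Subgroup G} {s t : G} (hs : s ∈ P) (ht : t ∈ P) (hs2 : orderOf s = 2)
    (ht2 : orderOf t = 2) (hne : s ≠ t) (hc : Commute s t) : ¬ Cfsg.PRankLE 2 1 P := fun h =>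
  hne (congrArg Subtype.val (CfsgLib.GWCons.RankOneCover.eq_of_rankLE h ⟨s, hs⟩ ⟨t, ht⟩
    ((Subgroup.orderOf_mk s hs).trans hs2) ((Subgroup.orderOf_mk t ht).trans ht2) (Subtype.ext hc.eq)))

/-- A 2-group without commuting involutions is cyclic or quaternion. -/
theorem cyclic_or_quaternion {P : Subgroup G} (hP : IsPGroup 2 P) (h : Cfsg.PRankLE 2 1 P) :
    IsCyclic P ∨ ∃ n : ℕ, Nonempty (P ≃* QuaternionGroup (2 ^ (n + 1))) := by
  refine (CfsgLib.TwoGroups.OneInvolution.isCyclic_or_quaternion hP ?_).imp id ?_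
  · have h1 := unique_involution_of_rank_one (CfsgLib.GWCons.RankOneCover.eq_of_rankLE h)
      (hP.of_equiv Subgroup.topEquiv.symm)
    intro a b ha hb
    exact congrArg Subtype.val (h1 ⟨a, mem_top a⟩ ⟨b, mem_top b⟩ ((Subgroup.orderOf_mk a (mem_top a)).trans ha)
      ((Subgroup.orderOf_mk b (mem_top b)).trans hb))
  · rintro ⟨n, hn, he⟩
    exact ⟨n - 1, by rwa [Nat.sub_add_cancel hn]⟩

/-- An element centralising a four-group of `S` normalises `S`. -/
theorem FourUnique.mem_normalizer (h : FourUnique G) {S : Sylow 2 G} {s t g : G}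
    (hs : orderOf s = 2) (ht : orderOf t = 2) (hne : s ≠ t) (hc : Commute s t)
    (hsS : s ∈ (S : Subgroup G)) (htS : t ∈ (S : Subgroup G)) (hgs : Commute g s) (hgt : Commute g t) :
    g ∈ normalizer ((S : Subgroup G) : Set G) := by
  refine Sylow.smul_eq_iff_mem_normalizer.1 (h (g • S) S s t hs ht hne hc ?_ ?_ hsS htS)
  · rw [CentralSylow.mem_smul_iff]
    simpa [mul_assoc, hgs.inv_left.eq] using hsS
  · rw [CentralSylow.mem_smul_iff]
    simpa [mul_assoc, hgt.inv_left.eq] using htS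

/-- An element of an odd normal subgroup normalising `S` centralises it. -/
theorem commute_of_odd_normal {S : Sylow 2 G} {O : Subgroup G} [O.Normal] (hO : Odd (Nat.card O)) {o s : G}
    (ho : o ∈ O) (hoS : o ∈ normalizer ((S : Subgroup G) : Set G)) (hs : s ∈ (S : Subgroup G)) :
    Commute o s := by
  have h1 : o * s * o⁻¹ * s⁻¹ ∈ (S : Subgroup G) :=
    mul_mem ((mem_set_normalizer_iff.1 hoS s).1 hs) (inv_mem hs)
  have h2 : o * s * o⁻¹ * s⁻¹ ∈ O := by
    have := mul_mem ho (Subgroup.Normal.conj_mem inferInstance _ (inv_mem ho) s)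
    simpa [mul_assoc] using this
  haveI : Fact (Nat.Prime 2) := ⟨Nat.prime_two⟩
  obtain ⟨k, hk⟩ := IsPGroup.iff_orderOf.1 S.2 ⟨_, h1⟩
  rw [Subgroup.orderOf_mk] at hk
  exact commutatorElement_eq_one_iff_mul_comm.1 (orderOf_eq_one_iff.1 (Nat.eq_one_of_dvd_coprimes
    ((Nat.coprime_two_left.2 hO).pow_left k) (hk ▸ dvd_rfl) (Subgroup.orderOf_dvd_natCard O h2)))

/-- With an elementary subgroup of order eight the Sylow 2-subgroup centralises every odd normal
subgroup. -/
theorem FourUnique.commute_odd (h : FourUnique G) {S : Sylow 2 G} {E : Subgroup G}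
    (hES : E ≤ (S : Subgroup G)) (hc : IsMulCommutative E) (h2 : ∀ e ∈ E, e * e = 1)
    (h8 : 8 ≤ Nat.card E) {O : Subgroup G} [hOn : O.Normal] (hO : Odd (Nat.card O)) {o s : G}
    (ho : o ∈ O) (hs : s ∈ (S : Subgroup G)) : Commute o s := by
  haveI : Fact (Nat.Prime 2) := ⟨Nat.prime_two⟩
  have hE : Cfsg.IsElementaryAbelian 2 E := ⟨hc, fun e he => by rw [pow_two]; exact h2 e he⟩
  have hgen := CfsgLib.Coprime39.eq_hyperCent (p := 2) (X := O) hE
    (fun e => by rw [e, card_bot] at h8; omega) (Nat.coprime_two_right.2 hO)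
    (by rw [normalizer_eq_top_iff.2 hOn]; exact le_top)
  have hle : CfsgLib.Coprime39.hyperCent 2 E O ≤
      centralizer ((S : Subgroup G) : Set G) := by
    refine iSup_le fun ⟨B, hBE, hB⟩ x hx => mem_centralizer_iff.2 fun y hy => ?_
    have hBc : Nat.card E = Nat.card B * 2 := by
      rw [← relIndex_bot_left E, ← relIndex_mul_relIndex ⊥ B E bot_le hBE, hB, relIndex_bot_left]
    haveI := hc
    obtain ⟨a, ha, b, hb, ha2, hb2, hne, hab⟩ := exists_pair_of_card (A := B)
      ⟨⟨fun p q => Subtype.ext (congrArg Subtype.val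
        (hc.is_comm.comm ⟨p.1, hBE p.2⟩ ⟨q.1, hBE q.2⟩) : (p.1 : G) * q.1 = q.1 * p.1)⟩⟩
      (fun e he => h2 e (hBE he)) (by omega)
    exact (commute_of_odd_normal hO hx.1 (h.mem_normalizer ha2 hb2 hne hab (hES (hBE ha))
      (hES (hBE hb)) (mem_centralizer_iff.1 hx.2 a ha).symm (mem_centralizer_iff.1 hx.2 b hb).symm) hy).eq.symm
  exact (mem_centralizer_iff.1 (hle (hgen.symm ▸ ho)) s hs).symm

end CfsgLib.Inter10
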