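import Cfsg.Agent.Lib.Inter10.Basic
import Cfsg.Agent.Lib.BinaryUnitary.Main
import Cfsg.Agent.Lib.RootSz.Models

/-!
An involution of a Suzuki group or of `PSU(3,2^n)` lies in one Sylow 2-subgroup only.
-/

set_option autoImplicit false
set_option linter.style.haveILetI false
set_option linter.unusedSectionVars false

namespace CfsgLib.Inter10

open Subgroup CfsgLib.Involutions

universe u

/-- An involution lies in one Sylow 2-subgroup only. -/
def OneSylow (W : Type u) [Group W] : Prop :=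
  ∀ (S T : Sylow 2 W) (x : W), orderOf x = 2 → x ∈ (S : Subgroup W) → x ∈ (T : Subgroup W) → S = T

theorem oneSylow_of_szType {W : Type u} [Group W] [Finite W] {j : ℕ} (h : RootSz.SzType W (2 ^ j)) :
    OneSylow W := by
  haveI : Fact (Nat.Prime 2) := ⟨Nat.prime_two⟩
  have key : ∀ (S : Sylow 2 W) (x : W), orderOf x = 2 → x ∈ (S : Subgroup W) →
      (S : Subgroup W) = centralizer ({x} : Set W) := by
    intro S x hx hxS
    haveI : Nontrivial (S : Subgroup W) :=
      (nontrivial_iff_ne_bot _).2 fun e => ne_one_of_involution hx (mem_bot.1 (e ▸ hxS))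
    haveI := S.2.center_nontrivial
    obtain ⟨m, hm⟩ := (S.2.to_subgroup (center (S : Subgroup W))).exists_card_eq
    have hd : 2 ∣ Nat.card (center (S : Subgroup W)) := by
      rcases m with _ | m
      · rw [pow_zero] at hm
        exact absurd hm (Finite.one_lt_card (α := center (S : Subgroup W))).ne'
      · exact hm ▸ dvd_pow_self 2 (Nat.succ_ne_zero m)
    obtain ⟨⟨z, hzc⟩, hz⟩ := exists_prime_orderOf_dvd_card' 2 hd
    have hz2 : orderOf (z : W) = 2 := by
      rw [Subgroup.orderOf_coe]; exact (Subgroup.orderOf_mk z hzc).symm.trans hz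
    have hzS : ∀ s ∈ (S : Subgroup W), Commute s z := fun s hs =>
      congrArg Subtype.val (mem_center_iff.1 hzc ⟨s, hs⟩)
    have hle : (S : Subgroup W) ≤ centralizer ({x} : Set W) := fun s hs =>
      mem_centralizer_singleton_iff.2 (h.cent_eq z x hz2 ⟨hx, hzS x hxS⟩ s (hzS s hs)).eq
    refine eq_of_le_of_card_ge hle (Nat.le_of_dvd Nat.card_pos ?_)
    rw [h.cent_card x hx, ← pow_mul, S.card_eq_multiplicity]
    refine (Nat.pow_dvd_pow_iff_le_right' (b := 0)).2 ((Nat.prime_two.pow_dvd_iff_le_factorization Nat.card_pos.ne').1 ?_)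
    rw [h.card]
    exact dvd_mul_of_dvd_left (dvd_mul_of_dvd_left (dvd_of_eq (pow_mul 2 j 2)) _) _
  intro S T x hx hxS hxT
  exact Sylow.ext ((key S x hx hxS).trans (key T x hx hxT).symm)

theorem oneSylow_psu {F : Type} [Field F] [Fintype F] {n : ℕ} (hn : 2 ≤ n)
    (hF : Fintype.card F = (2 ^ n) ^ 2) : OneSylow (Cfsg.PSU 3 F (2 ^ n)) := by
  haveI : Fact (Nat.Prime 2) := ⟨Nat.prime_two⟩
  haveI : CharP F 2 := charP_of_card_eq_prime_pow (show Fintype.card F = 2 ^ (n * 2) by rw [hF, ← pow_mul])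
  intro S T x hx hxS hxT
  have hcen : ∀ (P : Sylow 2 (Cfsg.PSU 3 F (2 ^ n))) (hP : x ∈ (P : Subgroup _)),
      x ∈ (center ↥(P : Subgroup (Cfsg.PSU 3 F (2 ^ n)))).map
        (P : Subgroup (Cfsg.PSU 3 F (2 ^ n))).subtype := fun P hP =>
    ⟨⟨x, hP⟩, (UThreeSylow.ut_psu (by omega) rfl hF P).sq_one ⟨x, hP⟩ (Subtype.ext (mul_self_eq_one hx)),
      rfl⟩
  obtain ⟨c, hc, hScen, hS⟩ := BinaryUnitary.sylow_center hF S
  obtain ⟨e, he, hTcen, hT⟩ := BinaryUnitary.sylow_center hF T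
  obtain ⟨A, hA, hA'⟩ := (BinaryUnitary.eq_one_or_isT hF hc (hScen ▸ hcen S hxS)).resolve_left
    (ne_one_of_involution hx)
  obtain ⟨B, hB, hB'⟩ := (BinaryUnitary.eq_one_or_isT hF he (hTcen ▸ hcen T hxT)).resolve_left
    (ne_one_of_involution hx)
  obtain ⟨k, hk⟩ := BinaryUnitary.dep_of_orth hF hc he.2
    (BinaryUnitary.isT_unique_centre hF hA hB (hA'.trans hB'.symm))
  have hk0 : k ≠ 0 := fun e0 => he.1 (by rw [hk, e0, zero_smul])
  refine Sylow.ext ((S.3 T.2 ?_).symm)
  rw [hS, hT]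
  refine map_mono fun M hM => ⟨?_, fun v hv => ?_⟩
  · rw [hk, BinaryUnitary.ap_smul, hM.1]
  · obtain ⟨a, ha⟩ := hM.2 v (by
      rw [hk, ClassicalGroups.hermForm_smul_right] at hv
      exact (mul_eq_zero.1 hv).resolve_left (by simp [hk0]))
    exact ⟨a * k⁻¹, by rw [ha, hk, smul_smul, mul_assoc, inv_mul_cancel₀ hk0, mul_one]⟩

theorem OneSylow.of_equiv {W V : Type u} [Group W] [Group V] [Finite W] (e : W ≃* V) (h : OneSylow V) :
    OneSylow W := by
  haveI : Fact (Nat.Prime 2) := ⟨Nat.prime_two⟩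
  intro S T x hx hxS hxT
  have h1 := h (S.mapSurjective (f := e.toMonoidHom) e.surjective) (T.mapSurjective (f := e.toMonoidHom)
    e.surjective) (e x) ((e.orderOf_eq x).trans hx) ⟨x, hxS, rfl⟩ ⟨x, hxT, rfl⟩
  refine Sylow.ext (map_injective (f := e.toMonoidHom) e.injective ?_)
  exact congrArg (fun P : Sylow 2 V => (P : Subgroup V)) h1

end CfsgLib.Inter10
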