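import Cfsg.Agent.Lib.Inter10.OuterInvol

/-!
S3310: an element of odd order of a core-free quasisimple group of 2-rank one centralising a Sylow
2-subgroup is trivial.
-/

set_option autoImplicit false
set_option linter.style.haveILetI false
set_option linter.unusedSectionVars false

namespace CfsgLib.Inter10

open Subgroup

universe u

section Two

variable {F : Type*} [Field F]

/-- The traceless part of `X` is `l` times the one of `Y`. -/
theorem exists_parallel {X Y : Matrix (Fin 2) (Fin 2) F} (h : X * Y = Y * X)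
    (hY : Y 0 1 ≠ 0 ∨ Y 1 0 ≠ 0 ∨ Y 0 0 - Y 1 1 ≠ 0) :
    ∃ l : F, X 0 1 = l * Y 0 1 ∧ X 1 0 = l * Y 1 0 ∧ X 0 0 - X 1 1 = l * (Y 0 0 - Y 1 1) := by
  have e00 := congrFun (congrFun h 0) 0
  have e01 := congrFun (congrFun h 0) 1
  have e10 := congrFun (congrFun h 1) 0
  simp [Matrix.mul_apply, Fin.sum_univ_two] at e00 e01 e10
  rcases hY with hY | hY | hY
  · refine ⟨X 0 1 / Y 0 1, ?_, ?_, ?_⟩ <;> field_simp
    · linear_combination -e00
    · linear_combination e01
  · refine ⟨X 1 0 / Y 1 0, ?_, ?_, ?_⟩ <;> field_simp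
    · linear_combination e00
    · linear_combination -e10
  · refine ⟨(X 0 0 - X 1 1) / (Y 0 0 - Y 1 1), ?_, ?_, ?_⟩ <;> field_simp
    · linear_combination -e01
    · linear_combination e10

theorem commute_of_commute_nonscalar {X X' Y : Matrix (Fin 2) (Fin 2) F} (h : X * Y = Y * X)
    (h' : X' * Y = Y * X') (hY : Y 0 1 ≠ 0 ∨ Y 1 0 ≠ 0 ∨ Y 0 0 - Y 1 1 ≠ 0) : X * X' = X' * X := by
  obtain ⟨l, a1, a2, a3⟩ := exists_parallel h hY
  obtain ⟨r, b1, b2, b3⟩ := exists_parallel h' hY
  have a4 : X 0 0 = X 1 1 + l * (Y 0 0 - Y 1 1) := by linear_combination a3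
  have b4 : X' 0 0 = X' 1 1 + r * (Y 0 0 - Y 1 1) := by linear_combination b3
  ext i j
  fin_cases i <;> fin_cases j <;>
    simp [Matrix.mul_apply, Fin.sum_univ_two, a1, a2, a4, b1, b2, b4] <;> ring

/-- In `SL₂`, an element commuting with two noncommuting elements is central. -/
theorem mem_center_of_commute_two {s t y : Matrix.SpecialLinearGroup (Fin 2) F} (hst : ¬ Commute s t)
    (hs : Commute y s) (ht : Commute y t) : y ∈ center (Matrix.SpecialLinearGroup (Fin 2) F) := by
  rw [mem_center_iff]
  intro g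
  by_contra hg
  have hY : y.1 0 1 ≠ 0 ∨ y.1 1 0 ≠ 0 ∨ y.1 0 0 - y.1 1 1 ≠ 0 := by
    by_contra h
    push Not at h
    obtain ⟨h1, h2, h3⟩ := h
    refine hg (Subtype.ext ?_)
    show g.1 * y.1 = y.1 * g.1
    ext i j
    fin_cases i <;> fin_cases j <;>
      simp [Matrix.mul_apply, Fin.sum_univ_two, h1, h2, sub_eq_zero.1 h3] <;> ring
  exact hst (Subtype.ext (commute_of_commute_nonscalar
    (congrArg Subtype.val hs.eq.symm) (congrArg Subtype.val ht.eq.symm) hY))

end Two

section Seven

open Equiv

/-- An element of odd order of `A₇` centralising a Sylow 2-subgroup is trivial. -/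
theorem eq_one_of_centralizes_seven (P : Sylow 2 (alternatingGroup (Fin 7)))
    {y : alternatingGroup (Fin 7)} (hy : Odd (orderOf y))
    (hc : ∀ x ∈ (P : Subgroup (alternatingGroup (Fin 7))), Commute y x) : y = 1 := by
  haveI : Fact (Nat.Prime 2) := ⟨Nat.prime_two⟩
  let a : alternatingGroup (Fin 7) :=
    ⟨swap 0 1 * swap 1 2 * swap 2 3 * swap 4 5, Perm.mem_alternatingGroup.2 (by decide)⟩
  let b : alternatingGroup (Fin 7) := ⟨swap 0 2 * swap 4 5, Perm.mem_alternatingGroup.2 (by decide)⟩
  have ha : IsPGroup 2 (zpowers a) := by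
    intro x
    refine ⟨2, ?_⟩
    obtain ⟨n, hn⟩ := mem_zpowers_iff.1 x.2
    apply Subtype.ext
    rw [SubmonoidClass.coe_pow, ← hn, OneMemClass.coe_one, ← zpow_natCast, ← zpow_mul, mul_comm,
      zpow_mul, zpow_natCast, show a ^ (2 ^ 2) = 1 by decide, one_zpow]
  have hb : IsPGroup 2 (zpowers b) := by
    intro x
    refine ⟨1, ?_⟩
    obtain ⟨n, hn⟩ := mem_zpowers_iff.1 x.2
    apply Subtype.ext
    rw [SubmonoidClass.coe_pow, ← hn, OneMemClass.coe_one, ← zpow_natCast, ← zpow_mul, mul_comm,
      zpow_mul, zpow_natCast, show b ^ (2 ^ 1) = 1 by decide, one_zpow]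
  have hn : zpowers b ≤ normalizer ((zpowers a : Subgroup (alternatingGroup (Fin 7))) : Set _) := by
    rw [zpowers_le]
    have key : ∀ g ∈ zpowers a, b * g * b⁻¹ ∈ zpowers a := by
      intro g hg
      obtain ⟨n, rfl⟩ := mem_zpowers_iff.1 hg
      refine mem_zpowers_iff.2 ⟨-n, ?_⟩
      rw [← conj_zpow, show b * a * b⁻¹ = a⁻¹ by decide, inv_zpow, zpow_neg]
    refine mem_normalizer_iff.2 fun g => ⟨key g, fun h => ?_⟩
    have := key _ h
    rwa [show b * (b * g * b⁻¹) * b⁻¹ = g by
      rw [show b * (b * g * b⁻¹) * b⁻¹ = (b * b) * g * (b * b)⁻¹ by group,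
        show b * b = 1 by decide]
      group] at this
  obtain ⟨Q, hQ⟩ := (hb.to_sup_of_normal_right' ha hn).exists_le_sylow
  obtain ⟨g, hg⟩ := MulAction.exists_smul_eq (alternatingGroup (Fin 7)) P Q
  have hQc : ∀ x ∈ (Q : Subgroup (alternatingGroup (Fin 7))), Commute (MulAut.conj g y) x := by
    intro x hx
    rw [← hg, Sylow.coe_subgroup_smul] at hx
    obtain ⟨x', hx', rfl⟩ := hx
    exact (hc x' hx').map (MulAut.conj g).toMonoidHom
  have hca := congrArg Subtype.val (hQc a (hQ (mem_sup_right (mem_zpowers a)))).eq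
  have hcb := congrArg Subtype.val (hQc b (hQ (mem_sup_left (mem_zpowers b)))).eq
  rw [Subgroup.coe_mul, Subgroup.coe_mul] at hca hcb
  have hodd : Odd (orderOf ((MulAut.conj g y : alternatingGroup (Fin 7)) : Perm (Fin 7))) := by
    rw [Subgroup.orderOf_coe]
    rwa [show orderOf (MulAut.conj g y) = orderOf y from
      orderOf_injective (MulAut.conj g).toMonoidHom (MulAut.conj g).injective y]
  have hsuff : ((MulAut.conj g y : alternatingGroup (Fin 7)) : Perm (Fin 7)) = 1 := by
    generalize ((MulAut.conj g y : alternatingGroup (Fin 7)) : Perm (Fin 7)) = w at hca hcb hodd ⊢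
    set A : Perm (Fin 7) := swap 0 1 * swap 1 2 * swap 2 3 * swap 4 5
    set B : Perm (Fin 7) := swap 0 2 * swap 4 5
    have cA : ∀ i, A (w i) = w (A i) := fun i => (Equiv.congr_fun hca i).symm
    have cB : ∀ i, B (w i) = w (B i) := fun i => (Equiv.congr_fun hcb i).symm
    have h6 : w 6 = 6 :=
      (show ∀ v, A v = v → v = 6 by decide) _ (by rw [cA, show A 6 = 6 by decide])
    have h4 : w 4 = 4 ∨ w 4 = 5 := by
      have h : A (A (w 4)) = w 4 := by rw [cA, cA, show A (A 4) = 4 by decide]
      have h' : A (w 4) ≠ w 4 := by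
        rw [cA]
        exact w.injective.ne (by decide)
      exact (show ∀ v, A (A v) = v → A v ≠ v → v = 4 ∨ v = 5 by decide) _ h h'
    have h1 : w 1 = 1 ∨ w 1 = 3 := by
      have h : B (w 1) = w 1 := by rw [cB, show B 1 = 1 by decide]
      have h' : A (w 1) ≠ w 1 := by
        rw [cA]
        exact w.injective.ne (by decide)
      exact (show ∀ v, B v = v → A v ≠ v → v = 1 ∨ v = 3 by decide) _ h h'
    have q6 : (w * w) 6 = 6 := by rw [Perm.mul_apply, h6, h6]
    have q4 : (w * w) 4 = 4 := by
      rw [Perm.mul_apply]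
      rcases h4 with h | h
      · rw [h, h]
      · rw [h, show (5 : Fin 7) = A 4 by decide, ← cA, h]
        decide
    have q1 : (w * w) 1 = 1 := by
      rw [Perm.mul_apply]
      rcases h1 with h | h
      · rw [h, h]
      · rw [h, show (3 : Fin 7) = A (A 1) by decide, ← cA, ← cA, h]
        decide
    have cq : ∀ i, (w * w) i = i → (w * w) (A i) = A i := by
      intro i hi
      rw [Perm.mul_apply] at hi ⊢
      rw [← cA, ← cA, hi]
    have hsq : w * w = 1 := by
      apply Perm.ext
      intro i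
      rw [Perm.one_apply]
      have q2 : (w * w) 2 = 2 := (show A 1 = 2 by decide) ▸ cq 1 q1
      have q3 : (w * w) 3 = 3 := (show A 2 = 3 by decide) ▸ cq 2 q2
      have q0 : (w * w) 0 = 0 := (show A 3 = 0 by decide) ▸ cq 3 q3
      have q5 : (w * w) 5 = 5 := (show A 4 = 5 by decide) ▸ cq 4 q4
      fin_cases i
      exacts [q0, q1, q2, q3, q4, q5, q6]
    exact orderOf_eq_one_iff.1 ((Nat.dvd_prime Nat.prime_two).1
      (orderOf_dvd_of_pow_eq_one (by rw [pow_two, hsq])) |>.resolve_right fun h => by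
        rw [h] at hodd; exact absurd hodd (by decide))
  exact (MulAut.conj g).map_eq_one_iff.1 (Subtype.ext hsuff)

end Seven

/-- An element of odd order centralising a Sylow 2-subgroup of a core-free quasisimple group of 2-rank
one is trivial. -/
theorem eq_one_of_centralizes_sylow {L : Type u} [Group L] [Finite L] (hq : Cfsg.IsQuasisimple L)
    (hO : Cfsg.oddCore L = ⊥) (hr : Cfsg.PRankLE 2 1 L) (P : Sylow 2 L) {y : L} (hy : Odd (orderOf y))
    (hc : ∀ x ∈ (P : Subgroup L), Commute y x) : y = 1 := by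
  haveI : Fact (Nat.Prime 2) := ⟨Nat.prime_two⟩
  haveI := hq.1
  haveI := hq.2
  have hy2 : y * y = 1 → y = 1 := fun h => orderOf_eq_one_iff.1
    (((Nat.dvd_prime Nat.prime_two).1 (orderOf_dvd_of_pow_eq_one (by rw [pow_two, h]))).resolve_right
      fun h' => by rw [h'] at hy; exact absurd hy (by decide))
  have heven : Even (Nat.card L) := by
    by_contra h
    rw [Nat.not_even_iff_odd] at h
    haveI := CfsgLib.PF.oddSolvable L h
    have hne : Nontrivial L := (QuotientGroup.mk_surjective (s := center L)).nontrivial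
    exact (Group.IsSolvable.commutator_lt_top_of_nontrivial L).ne Group.IsPerfect.commutator_eq_top
  let eO : L ⧸ Cfsg.oddCore L ≃* L :=
    (QuotientGroup.quotientMulEquivOfEq hO).trans QuotientGroup.quotientBot
  rcases CfsgLib.GWCons.RankOneCover.main CfsgLib.GW.Done.classification hq.1 hr heven with
    ⟨F, _, _, hodd, -, ⟨e⟩⟩ | ⟨hcard, ⟨e⟩, -⟩
  · have hnc : ¬ IsCyclic (P : Subgroup L) := fun h => by
      obtain ⟨H, hH⟩ := Cfsg.Agent.S0219.result heven P h
      exact CfsgLib.GWCons.RankOneCover.index_ne_two H hH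
    have hnab : ¬ ∀ s ∈ (P : Subgroup L), ∀ t ∈ (P : Subgroup L), Commute s t := by
      intro hab
      rcases CfsgLib.TwoGroups.OneInvolution.isCyclic_or_quaternion P.2
        (CfsgLib.Involutions.unique_involution_of_rank_one
          (CfsgLib.GWCons.RankOneCover.eq_of_rankLE hr) P.2) with h | ⟨n, hn, ⟨f⟩⟩
      · exact hnc h
      · have h : (QuaternionGroup.a 1 : QuaternionGroup (2 ^ n)) * QuaternionGroup.xa 0 =
            QuaternionGroup.xa 0 * QuaternionGroup.a 1 := by
          refine f.symm.injective ?_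
          rw [map_mul, map_mul]
          exact Subtype.ext (hab _ (f.symm _).2 _ (f.symm _).2).eq
        simp only [QuaternionGroup.a_mul_xa, QuaternionGroup.xa_mul_a, QuaternionGroup.xa.injEq] at h
        have h2 : ((2 : ℕ) : ZMod (2 * 2 ^ n)) = 0 := by
          push_cast
          linear_combination -h
        rw [ZMod.natCast_eq_zero_iff] at h2
        have := Nat.le_of_dvd two_pos h2
        have : 2 ≤ 2 ^ n := by
          calc 2 = 2 ^ 1 := rfl
            _ ≤ 2 ^ n := Nat.pow_le_pow_right two_pos (by omega)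
        omega
    push Not at hnab
    obtain ⟨s, hs, t, ht, hst⟩ := hnab
    set f : L ≃* Matrix.SpecialLinearGroup (Fin 2) F := eO.symm.trans e
    have hmem : f y ∈ center (Matrix.SpecialLinearGroup (Fin 2) F) :=
      mem_center_of_commute_two (fun h => hst (f.injective (by rw [map_mul, map_mul]; exact h)))
        ((hc s hs).map f.toMonoidHom) ((hc t ht).map f.toMonoidHom)
    have h2F : (2 : F) ≠ 0 := by
      intro h
      haveI : CharP F 2 := CharTwo.of_one_ne_zero_of_two_eq_zero one_ne_zero h
      obtain ⟨n, -, hn⟩ := FiniteField.card F 2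
      rw [hn] at hodd
      exact (Nat.not_even_iff_odd.2 hodd) (Nat.even_pow.2 ⟨even_two, n.ne_zero⟩)
    refine hy2 (f.injective ?_)
    have := pow_card_eq_one' (x := (⟨f y, hmem⟩ : center (Matrix.SpecialLinearGroup (Fin 2) F)))
    rw [CfsgLib.PSL2.card_center_sl h2F, pow_two] at this
    rw [map_mul, map_one]
    exact congrArg Subtype.val this
  · set E : L ⧸ center L ≃* alternatingGroup (Fin 7) :=
      (QuotientGroup.congr (center L) (center _) eO.symm (map_center_iso _)).trans e
    set f : L →* alternatingGroup (Fin 7) := E.toMonoidHom.comp (QuotientGroup.mk' (center L))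
    have hf : Function.Surjective f :=
      E.surjective.comp (QuotientGroup.mk'_surjective (center L))
    have hcard' : Nat.card (center L) = 2 :=
      (Nat.card_congr (Subgroup.centerCongr eO.symm).toEquiv).trans hcard
    have h1 : f y = 1 := by
      refine eq_one_of_centralizes_seven (P.mapSurjective hf) (hy.of_dvd_nat (orderOf_map_dvd f y)) ?_
      intro x hx
      rw [Sylow.coe_mapSurjective] at hx
      obtain ⟨x', hx', rfl⟩ := hx
      exact (hc x' hx').map f
    have hmem : y ∈ center L := by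
      rw [← QuotientGroup.eq_one_iff]
      exact E.map_eq_one_iff.1 h1
    refine hy2 ?_
    have := pow_card_eq_one' (x := (⟨y, hmem⟩ : center L))
    rw [hcard', pow_two] at this
    exact congrArg Subtype.val this

end CfsgLib.Inter10
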