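import Cfsg.Agent.Lib.Inter10.CoreBasic
import Cfsg.Agent.Lib.StrongCrit.SecOdd
import Cfsg.Agent.Lib.StrongCrit.Closed
import Cfsg.Agent.Lib.StrongCrit.Basic
import Cfsg.Agent.Lib.BenderQ.Bender
import Cfsg.Agent.Lib.BenderQ.RankOne

/-!
A normal elementary abelian subgroup `A` of a Sylow 2-subgroup, invariant under its normaliser and
central modulo `z`, gives members of the criterion for strong embedding in the permutation group on
the Sylow 2-subgroups: the group is of Bender type modulo the centre and `A` has order at least eight.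
-/

set_option autoImplicit false
set_option linter.style.haveILetI false
set_option linter.unusedSectionVars false

namespace CfsgLib.Inter10

open Subgroup CfsgLib.Involutions CfsgLib.StrongCrit MulAction

universe u

variable {L : Type u} [Group L]

/-- An elementary abelian subgroup of `S`, invariant under `N(S)`, central in `S` modulo `z`. -/
structure AData (z : L) (S : Sylow 2 L) (A : Subgroup L) : Prop where
  le : A ≤ (S : Subgroup L)
  comm : ∀ a ∈ A, ∀ b ∈ A, Commute a b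
  sq : ∀ a ∈ A, a * a = 1
  zmem : z ∈ A
  invar : ∀ n ∈ normalizer ((S : Subgroup L) : Set L), ∀ a ∈ A, n * a * n⁻¹ ∈ A
  cent : ∀ a ∈ A, ∀ s ∈ (S : Subgroup L), s * a * s⁻¹ = a ∨ s * a * s⁻¹ = z * a
  big : ∃ a ∈ A, a ≠ 1 ∧ a ≠ z

/-- The permutation group on the Sylow 2-subgroups. -/
abbrev Pm (L : Type u) [Group L] : Subgroup (Equiv.Perm (Sylow 2 L)) :=
  (toPermHom L (Sylow 2 L)).range

/-- The projection. -/
abbrev pp (L : Type u) [Group L] : L →* Pm L := (toPermHom L (Sylow 2 L)).rangeRestrict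

theorem pp_smul (g : L) (T : Sylow 2 L) : pp L g • T = g • T := rfl

theorem pp_surjective : Function.Surjective (pp L) := MonoidHom.rangeRestrict_surjective _

theorem pm_faithful (g : Pm L) (h : ∀ T : Sylow 2 L, g • T = T) : g = 1 :=
  Subtype.ext (Equiv.ext h)

/-- The members. -/
def aMemb (z : L) (A : Subgroup L) : Set (Pm L) :=
  {x | ∃ c a : L, a ∈ A ∧ a ≠ 1 ∧ a ≠ z ∧ pp L (c * a * c⁻¹) = x}

variable [Finite L] {z : L}

theorem Ctx.pp_center (h : Ctx L z) {x : L} (hx : x ∈ center L) : pp L x = 1 :=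
  pm_faithful _ fun T => by
    rw [pp_smul]
    exact Sylow.smul_eq_iff_mem_normalizer.2 (le_normalizer (h.center_le T hx))

theorem Ctx.ker_pp (h : Ctx L z) : (pp L).ker = center L := by
  obtain ⟨S⟩ : Nonempty (Sylow 2 L) := inferInstance
  refine le_antisymm (h.normal_le_center fun e => h.normalizer_ne_top S (eq_top_iff.2 fun g _ => ?_))
    fun x hx => h.pp_center hx
  refine Sylow.smul_eq_iff_mem_normalizer.1 ?_
  rw [← pp_smul]
  rw [MonoidHom.mem_ker.1 (show g ∈ (pp L).ker by rw [e]; exact mem_top g), one_smul]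

/-- The permutation group is the central quotient. -/
noncomputable def Ctx.pmEquiv (h : Ctx L z) : L ⧸ center L ≃* Pm L :=
  (QuotientGroup.quotientMulEquivOfEq h.ker_pp.symm).trans
    (QuotientGroup.quotientKerEquivOfSurjective (pp L) pp_surjective)

/-- A non-abelian simple group of even order has two commuting involutions. -/
theorem hasFour_simple {X : Type u} [Group X] [Finite X] [IsSimpleGroup X]
    (hna : ∃ a b : X, a * b ≠ b * a) {t : X} (ht : orderOf t = 2) : BenderTrans.HasFour X := by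
  by_contra hf
  have huniq : ∀ a b : X, orderOf a = 2 → orderOf b = 2 → Commute a b → a = b :=
    fun a b ha hb hc => by_contra fun hne => hf ⟨a, b, ha, hb, hne, hc⟩
  have hcore : Cfsg.oddCore X = ⊥ := by
    have : (Cfsg.oddCore X).Normal := Cfsg.pPrimeCore_normal 2 X
    refine (IsSimpleGroup.eq_bot_or_eq_top_of_normal _ this).resolve_right fun e => ?_
    have h1 : ¬ 2 ∣ Nat.card (Cfsg.oddCore X) := PCore.not_dvd_card_pPrimeCore
    rw [e, Subgroup.card_top] at h1
    exact h1 (ht ▸ orderOf_dvd_natCard t)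
  have hcen : t ∈ Subgroup.center X := Subgroup.mem_center_iff.2 fun g => by
    have h1 : g * t * g⁻¹ * t ∈ Cfsg.oddCore X := by
      have h1 := inZStar_of_rank_one huniq ht g
      simpa [inv_eq_self_of_involution ht, mul_assoc] using h1
    rw [hcore, Subgroup.mem_bot, mul_eq_one_iff_eq_inv, inv_eq_self_of_involution ht,
      mul_inv_eq_iff_eq_mul] at h1
    exact h1
  rcases IsSimpleGroup.eq_bot_or_eq_top_of_normal (Subgroup.center X) inferInstance with e | e
  · rw [e, Subgroup.mem_bot] at hcen; simp [hcen] at ht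
  · obtain ⟨a, b, hab⟩ := hna
    exact hab ((Subgroup.mem_center_iff.1 (e ▸ Subgroup.mem_top a) b).symm)

theorem Ctx.pm_simple (h : Ctx L z) : IsSimpleGroup (Pm L) :=
  haveI := h.simple
  haveI : Nontrivial (Pm L) := h.pmEquiv.symm.toEquiv.nontrivial
  IsSimpleGroup.isSimpleGroup_of_surjective h.pmEquiv.toMonoidHom h.pmEquiv.surjective

theorem Ctx.pm_noncomm (h : Ctx L z) : ∃ a b : Pm L, a * b ≠ b * a := by
  obtain ⟨a, b, hab⟩ := h.quot_noncomm
  exact ⟨h.pmEquiv a, h.pmEquiv b, fun e => hab (h.pmEquiv.injective (by rwa [map_mul, map_mul]))⟩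

namespace AData

variable {S : Sylow 2 L} {A : Subgroup L} (h : Ctx L z) (hA : AData z S A)
include h hA

theorem orderOf_mem {a : L} (ha : a ∈ A) (h1 : a ≠ 1) : orderOf a = 2 :=
  orderOf_eq_two_iff_mul.2 ⟨h1, hA.sq a ha⟩

theorem conj_ne_z {a : L} (h2 : a ≠ z) (c : L) : c * a * c⁻¹ ≠ z := fun e => h2 (by
  rw [show a = c⁻¹ * (c * a * c⁻¹) * c by group, e, mul_assoc, (h.z_comm c).eq, inv_mul_cancel_left])

/-- A member fixes exactly one point. -/
theorem memb_fix {c a : L} (ha : a ∈ A) (h1 : a ≠ 1) (h2 : a ≠ z) (T : Sylow 2 L) :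
    pp L (c * a * c⁻¹) • T = T ↔ T = c • S := by
  have ho : orderOf (c * a * c⁻¹) = 2 := (orderOf_conj_eq c a).trans (hA.orderOf_mem h ha h1)
  have hmem : c * a * c⁻¹ ∈ ((c • S : Sylow 2 L) : Subgroup L) := CentralSylow.conj_mem_smul (hA.le ha)
  rw [pp_smul]
  constructor
  · intro hT
    exact h.uniq ho (hA.conj_ne_z h h2 c) (SylInter.mem_sylow_of_normalizer T ⟨1, by rw [ho, pow_one]⟩
      (Sylow.smul_eq_iff_mem_normalizer.1 hT)) hmem
  · intro hT
    exact Sylow.smul_eq_iff_mem_normalizer.2 (le_normalizer (hT ▸ hmem))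

theorem pp_ne_one {a : L} (ha : a ∈ A) (h1 : a ≠ 1) (h2 : a ≠ z) (c : L) :
    pp L (c * a * c⁻¹) ≠ 1 := by
  intro e
  obtain ⟨T, hT⟩ := h.exists_ne_sylow (c • S)
  exact hT ((hA.memb_fix h ha h1 h2 T).1 (by rw [e, one_smul]))

theorem memb_orderOf {x : Pm L} (hx : x ∈ aMemb z A) : orderOf x = 2 := by
  obtain ⟨c, a, ha, h1, h2, rfl⟩ := hx
  exact orderOf_eq_two_iff_mul.2 ⟨hA.pp_ne_one h ha h1 h2 c, by
    rw [← map_mul, conj_mul, hA.sq a ha, mul_one, mul_inv_cancel, map_one]⟩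

theorem memb_conj (g : Pm L) {x : Pm L} (hx : x ∈ aMemb z A) : g * x * g⁻¹ ∈ aMemb z A := by
  obtain ⟨c, a, ha, h1, h2, rfl⟩ := hx
  obtain ⟨d, rfl⟩ := pp_surjective g
  exact ⟨d * c, a, ha, h1, h2, by simp [map_mul, mul_assoc]⟩

/-- The members fixing `S` come from `A`. -/
theorem exists_of_memb_pt {x : Pm L} (hx : x ∈ aMemb z A) (hp : x • S = S) :
    ∃ a ∈ A, a ≠ 1 ∧ a ≠ z ∧ pp L a = x := by
  obtain ⟨c, a, ha, h1, h2, rfl⟩ := hx
  have hc : c ∈ normalizer ((S : Subgroup L) : Set L) :=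
    Sylow.smul_eq_iff_mem_normalizer.1 ((hA.memb_fix h ha h1 h2 S).1 hp).symm
  exact ⟨_, hA.invar c hc a ha, fun e => h1 (by simpa using e), hA.conj_ne_z h h2 c, rfl⟩

theorem setting : Setting (Sylow 2 L) (aMemb z A) := by
  haveI : Fact (Nat.Prime 2) := ⟨Nat.prime_two⟩
  refine ⟨fun x hx => hA.memb_orderOf h hx, fun g x hx => hA.memb_conj h g hx, fun T U => ?_,
    fun T => h.exists_ne_sylow T, ?_, ?_, ?_, ?_⟩
  · obtain ⟨c, hc⟩ := MulAction.exists_smul_eq L T U
    exact ⟨pp L c, by rw [pp_smul, hc]⟩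
  · rintro _ ⟨c, a, ha, h1, h2, rfl⟩
    exact ⟨c • S, (hA.memb_fix h ha h1 h2 _).2 rfl⟩
  · rintro _ ⟨c, a, ha, h1, h2, rfl⟩ T U hT hU
    rw [(hA.memb_fix h ha h1 h2 T).1 hT, (hA.memb_fix h ha h1 h2 U).1 hU]
  · intro s hs t ht hst hne x y hx hy
    obtain ⟨c, a, ha, h1, h2, rfl⟩ := hs
    have hp : t • c • S = c • S := by
      refine (hA.memb_fix h ha h1 h2 _).1 ?_
      rw [smul_smul, hst.eq, mul_smul, (hA.memb_fix h ha h1 h2 _).2 rfl]
    have ht' : (pp L c)⁻¹ * t * pp L c ∈ aMemb z A := by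
      simpa using hA.memb_conj h (pp L c)⁻¹ ht
    obtain ⟨f, hf, hf1, hf2, hft⟩ := hA.exists_of_memb_pt h ht' (by
      rw [mul_smul, mul_smul, pp_smul c, hp, ← pp_smul c, inv_smul_smul])
    have hprod : pp L (c * a * c⁻¹) * t = pp L (c * (a * f) * c⁻¹) := by
      simp only [map_mul, map_inv]
      rw [hft]
      group
    rw [hprod] at hx hy
    have hsame : pp L f = pp L a → False := fun e => hne (by
      rw [e] at hft
      simp only [map_mul, map_inv]
      rw [hft]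
      group)
    have hef1 : a * f ≠ 1 := fun e => hsame (by
      rw [(eq_inv_of_mul_eq_one_right e).trans (inv_eq_of_mul_eq_one_right (hA.sq a ha))])
    have hef2 : a * f ≠ z := fun e => hsame (by
      rw [show f = a * z by rw [← e, ← mul_assoc, hA.sq a ha, one_mul], map_mul, h.pp_center h.cen, mul_one])
    rw [(hA.memb_fix h (mul_mem ha hf) hef1 hef2 x).1 hx, (hA.memb_fix h (mul_mem ha hf) hef1 hef2 y).1 hy]
  · intro T P hP hPT
    obtain ⟨c, rfl⟩ := MulAction.exists_smul_eq L S T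
    obtain ⟨a, ha, ha1, ha2⟩ := hA.big
    refine ⟨_, ⟨c, a, ha, ha1, ha2, rfl⟩, (hA.memb_fix h ha ha1 ha2 _).2 rfl, fun g hg => ?_⟩
    obtain ⟨k, hk⟩ := IsPGroup.iff_orderOf.1 hP ⟨g, hg⟩
    rw [← Subgroup.orderOf_coe] at hk
    obtain ⟨d, rfl⟩ := pp_surjective g
    obtain ⟨j, hj, b, hb⟩ := SylInter.exists_two_lift (pp L) hk
    have hfix : (c⁻¹ * d ^ j * c) • S = S := by
      have := hPT hg
      rw [mem_stabilizer_iff, ← hj, pp_smul] at this
      rw [mul_smul, mul_smul, this, inv_smul_smul]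
    have hS : c⁻¹ * d ^ j * c ∈ (S : Subgroup L) := by
      refine SylInter.mem_sylow_of_normalizer S ⟨b, ?_⟩ (Sylow.smul_eq_iff_mem_normalizer.1 hfix)
      have e1 := orderOf_conj_eq c⁻¹ (d ^ j)
      rw [inv_inv] at e1
      rw [e1]; exact hb
    have hcomm : Commute (pp L (c⁻¹ * d ^ j * c)) (pp L a) := by
      refine mul_inv_eq_iff_eq_mul.1 ?_
      rw [← map_inv, ← map_mul, ← map_mul]
      rcases hA.cent a ha _ hS with e | e <;> rw [e]
      rw [map_mul, h.pp_center h.cen, one_mul]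
    rw [← hj]
    have h3 := hcomm.map (MulAut.conj (pp L c)).toMonoidHom
    simpa [MulAut.conj_apply, mul_assoc] using h3

theorem closure_memb : closure (aMemb z A) = ⊤ := by
  haveI := h.pm_simple
  have hn : (closure (aMemb z A)).Normal := ⟨fun x hx g => by
    induction hx using closure_induction with
    | mem y hy => exact subset_closure (hA.memb_conj h g hy)
    | one => rw [mul_one, mul_inv_cancel]; exact one_mem _
    | mul p q _ _ hp hq =>
      rw [show g * (p * q) * g⁻¹ = (g * p * g⁻¹) * (g * q * g⁻¹) by group]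
      exact mul_mem hp hq
    | inv p _ hp =>
      rw [show g * p⁻¹ * g⁻¹ = (g * p * g⁻¹)⁻¹ by group]
      exact inv_mem hp⟩
  obtain ⟨a, ha, ha1, ha2⟩ := hA.big
  refine (IsSimpleGroup.eq_bot_or_eq_top_of_normal _ hn).resolve_left fun e => hA.pp_ne_one h ha ha1 ha2 1 ?_
  exact mem_bot.1 (e ▸ subset_closure ⟨1, a, ha, ha1, ha2, rfl⟩)

theorem oneFix : BenderTrans.OneFix (Pm L) (Sylow 2 L) := by
  haveI : Fact (Nat.Prime 2) := ⟨Nat.prime_two⟩
  have hset := hA.setting h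
  obtain ⟨a, ha, ha1, ha2⟩ := hA.big
  refine ⟨hset.trans, hset.nontriv, ⟨_, hA.memb_orderOf h ⟨1, a, ha, ha1, ha2, rfl⟩⟩,
    fun t ht => ?_, fun t ht T U hT hU => ?_⟩
  · have hodd : ¬ 2 ∣ Nat.card (Sylow 2 L) := not_dvd_card_sylow 2 L
    have hP : IsPGroup 2 (zpowers t) :=
      IsPGroup.of_card (n := 1) (by rw [Nat.card_zpowers, ht, pow_one])
    obtain ⟨T, hT⟩ := hP.nonempty_fixed_point_of_prime_not_dvd_card (Sylow 2 L) hodd
    exact ⟨T, hT ⟨t, mem_zpowers t⟩⟩
  · by_contra hne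
    exact hset.notMem_closure_of_bad criterionMain pm_faithful (w := t) ⟨ht, T, U, hne, hT, hU⟩
      (hA.closure_memb h ▸ mem_top t)

theorem isBender : BenderQ.IsBenderType (L ⧸ center L) := by
  haveI := h.pm_simple
  obtain ⟨a, ha, ha1, ha2⟩ := hA.big
  obtain ⟨N, hN, hNodd, hNt⟩ := BenderQ.exists_normal_benderType BenderQ.benderKernel
    BenderQ.rankOneClass (hA.oneFix h) pm_faithful
    (hasFour_simple h.pm_noncomm (hA.memb_orderOf h ⟨1, a, ha, ha1, ha2, rfl⟩))
  have : N = ⊤ := (IsSimpleGroup.eq_bot_or_eq_top_of_normal N hN).resolve_left fun e => by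
    subst e
    have := hNt.isSimple
    exact not_nontrivial (⊥ : Subgroup (Pm L)) inferInstance
  subst this
  exact (hNt.of_equiv Subgroup.topEquiv.symm).of_equiv h.pmEquiv

theorem exists_avoid (a : L) : ∃ f ∈ A, f ≠ 1 ∧ f ≠ z ∧ f ≠ a ∧ f ≠ z * a := by
  haveI := h.pm_simple
  by_contra hcon
  push Not at hcon
  have hone : ∀ w : Pm L, orderOf w = 2 → w • S = S → w = pp L a := by
    intro w hw hwS
    obtain ⟨b, hb, hb1, hb2⟩ := hA.big
    obtain ⟨g, hg⟩ := isConj_iff.1 ((hA.oneFix h).isConj_involutions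
      (hA.memb_orderOf h ⟨1, b, hb, hb1, hb2, rfl⟩) hw)
    obtain ⟨f, hf, hf1, hf2, hfw⟩ := hA.exists_of_memb_pt h
      (hg ▸ hA.memb_conj h g ⟨1, b, hb, hb1, hb2, rfl⟩) hwS
    rw [← hfw]
    by_cases hfa : f = a
    · rw [hfa]
    · rw [hcon f hf hf1 hf2 hfa, map_mul, h.pp_center h.cen, one_mul]
  obtain ⟨b, hb, hb1, hb2⟩ := hA.big
  obtain ⟨s, t, hs, ht, hne, hc⟩ :=
    hasFour_simple h.pm_noncomm (hA.memb_orderOf h ⟨1, b, hb, hb1, hb2, rfl⟩)
  obtain ⟨T, hT⟩ := (hA.oneFix h).exists_fix s hs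
  obtain ⟨g, hg⟩ := (hA.oneFix h).trans T S
  have hg' : g⁻¹ • S = T := by rw [← hg, inv_smul_smul]
  have htT : t • T = T := (hA.oneFix h).fix_of_commute ⟨hs, hT⟩ hc.symm
  have e1 := hone (g * s * g⁻¹) ((orderOf_conj_eq g s).trans hs) (by rw [mul_smul, mul_smul, hg', hT, hg])
  have e2 := hone (g * t * g⁻¹) ((orderOf_conj_eq g t).trans ht) (by rw [mul_smul, mul_smul, hg', htT, hg])
  exact hne (mul_left_cancel (mul_right_cancel (e1.trans e2.symm)))

theorem hasEight : HasEight (S : Subgroup L) z := by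
  classical
  obtain ⟨a, ha, ha1, haz⟩ := hA.big
  obtain ⟨f, hf, hf1, hfz, hfa, hfza⟩ := hA.exists_avoid h a
  refine ⟨A, hA.le, hA.zmem, ⟨⟨fun x y => Subtype.ext (hA.comm x x.2 y y.2).eq⟩⟩, hA.sq, ?_⟩
  haveI : Fact (Nat.Prime 2) := ⟨Nat.prime_two⟩
  obtain ⟨k, hk⟩ := IsPGroup.iff_card.1 (S.2.to_le hA.le)
  have hza := h.mul_z_ne (hA.orderOf_mem h ha ha1) haz
  letI : Fintype A := Fintype.ofFinite _
  let V : Finset A := {1, ⟨z, hA.zmem⟩, ⟨a, ha⟩, ⟨z * a, mul_mem hA.zmem ha⟩, ⟨f, hf⟩}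
  have hV : V.card = 5 := by
    have q1 : z * a ≠ 1 := ne_one_of_involution hza.1
    have q2 : z * a ≠ a := fun e => h.z_ne (mul_eq_right.1 e)
    simp [V, Subtype.ext_iff, h.z_ne.symm, ha1.symm, q1.symm, hf1.symm, haz.symm, hza.2.symm, hfz.symm,
      q2.symm, hfa.symm, hfza.symm]
  have h5 := V.card_le_univ
  rw [hV, ← Nat.card_eq_fintype_card, hk] at h5
  rw [hk]
  have h3 : 3 ≤ k := by
    by_contra hlt
    have : 2 ^ k ≤ 2 ^ 2 := Nat.pow_le_pow_right (by norm_num) (by omega)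
    omega
  exact (show 8 = 2 ^ 3 by norm_num).le.trans (Nat.pow_le_pow_right (by norm_num) h3)

end AData

end CfsgLib.Inter10
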