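import Cfsg.Agent.Lib.Inter10.Defs
import Cfsg.Agent.Lib.SylInter.Local
import Cfsg.Agent.Lib.Components.Basic
import Cfsg.Agent.Lib.Schur.Basic
import Cfsg.Agent.Lib.PCore.Basic

/-!
Quasisimple groups with a central involution in which a Klein four-group lies in one Sylow
2-subgroup only: the involutions other than the central one lie in one Sylow 2-subgroup each.
-/

set_option autoImplicit false
set_option linter.style.haveILetI false
set_option linter.unusedSectionVars false

namespace CfsgLib.Inter10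

open Subgroup CfsgLib.Involutions

universe u

/-- The hypothesis of the core argument. -/
structure Ctx (L : Type u) [Group L] (z : L) : Prop where
  four : FourUnique L
  core : Cfsg.oddCore L = ⊥
  qs : Cfsg.IsQuasisimple L
  ord : orderOf z = 2
  cen : z ∈ center L
  rank : ¬ Cfsg.PRankLE 2 1 L

namespace Ctx

variable {L : Type u} [Group L] [Finite L] {z : L} (h : Ctx L z)
include h

theorem zz : z * z = 1 := mul_self_eq_one h.ord

theorem z_ne : z ≠ 1 := ne_one_of_involution h.ord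

theorem z_comm (x : L) : Commute z x := (mem_center_iff.1 h.cen x).symm

theorem conj_z (x : L) : x * z * x⁻¹ = z := by rw [← (h.z_comm x).eq, mul_inv_cancel_right]

theorem mem (S : Sylow 2 L) : z ∈ (S : Subgroup L) :=
  SylInter.mem_sylow_of_normalizer S ⟨1, by rw [h.ord, pow_one]⟩
    (mem_normalizer_iff.2 fun s => by rw [(h.z_comm s).eq, mul_inv_cancel_right])

theorem perfect : commutator L = ⊤ := h.qs.1.commutator_eq_top

theorem normal_le_center {N : Subgroup L} [N.Normal] (hN : N ≠ ⊤) : N ≤ center L :=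
  (Components.quasisimple_normal_eq_top_or_le_center h.qs N).resolve_left hN

/-- An involution other than `z` lies in one Sylow subgroup. -/
theorem uniq {S T : Sylow 2 L} {t : L} (ht : orderOf t = 2) (htz : t ≠ z)
    (hS : t ∈ (S : Subgroup L)) (hT : t ∈ (T : Subgroup L)) : S = T :=
  h.four S T z t h.ord ht (Ne.symm htz) (h.z_comm t) (h.mem S) hS (h.mem T) hT

theorem exists_sylow {x : L} {k : ℕ} (hx : orderOf x ∣ 2 ^ k) : ∃ S : Sylow 2 L, x ∈ (S : Subgroup L) := by
  haveI : Fact (Nat.Prime 2) := ⟨Nat.prime_two⟩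
  obtain ⟨b, -, hb⟩ := (Nat.dvd_prime_pow Nat.prime_two).1 hx
  have h3 : IsPGroup 2 (zpowers x) := IsPGroup.of_card (n := b) (by rw [Nat.card_zpowers, hb])
  obtain ⟨S, hS⟩ := h3.exists_le_sylow
  exact ⟨S, hS (mem_zpowers x)⟩

theorem exists_inv_ne : ∃ t : L, orderOf t = 2 ∧ t ≠ z := by
  by_contra hcon
  push Not at hcon
  refine h.rank fun A _ hA => ?_
  have hsub : (A : Set L) ⊆ {1, z} := fun a ha => by
    rcases eq_or_ne a 1 with e | e
    · exact Or.inl e
    · exact Or.inr (hcon a (orderOf_eq_two_iff_mul.2 ⟨e, by rw [← pow_two]; exact hA a ha⟩))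
  calc Nat.card A ≤ ({1, z} : Set L).ncard := by
        rw [← Nat.card_coe_set_eq]; exact Nat.card_mono (Set.toFinite _) hsub
    _ ≤ 2 := (Set.ncard_insert_le _ _).trans (by simp)
    _ = 2 ^ 1 := (pow_one 2).symm

theorem exists_inv_mem (S : Sylow 2 L) : ∃ t ∈ (S : Subgroup L), orderOf t = 2 ∧ t ≠ z := by
  haveI : Fact (Nat.Prime 2) := ⟨Nat.prime_two⟩
  obtain ⟨t, ht, htz⟩ := h.exists_inv_ne
  obtain ⟨T, hT⟩ := h.exists_sylow (k := 1) (x := t) (by rw [ht, pow_one])
  obtain ⟨g, hg⟩ := MulAction.exists_smul_eq L T S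
  refine ⟨g * t * g⁻¹, hg ▸ CentralSylow.conj_mem_smul hT, (orderOf_conj_eq g t).trans ht, fun e => htz ?_⟩
  rw [show t = g⁻¹ * (g * t * g⁻¹) * g by group, e, mul_assoc, (h.z_comm g).eq, inv_mul_cancel_left]

theorem exists_ne_sylow (S : Sylow 2 L) : ∃ T : Sylow 2 L, T ≠ S := by
  by_contra hcon
  push Not at hcon
  haveI : Fact (Nat.Prime 2) := ⟨Nat.prime_two⟩
  haveI hn : (S : Subgroup L).Normal := ⟨fun x hx g => by
    have := hcon (g • S)
    rw [← this]
    exact CentralSylow.conj_mem_smul hx⟩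
  by_cases htop : (S : Subgroup L) = ⊤
  · haveI : Group.IsNilpotent L := by
      have hP : IsPGroup 2 L := fun g => by
        obtain ⟨k, hk⟩ := S.2 ⟨g, htop ▸ mem_top g⟩
        exact ⟨k, by simpa using congrArg Subtype.val hk⟩
      exact hP.isNilpotent
    haveI : Nontrivial L := ⟨⟨z, 1, h.z_ne⟩⟩
    haveI : Group.IsSolvable L := inferInstance
    exact absurd h.perfect (Group.IsSolvable.commutator_lt_top_of_nontrivial L).ne
  · have hc := h.normal_le_center htop
    have hz := Schur.center_commutator_sylow S (hc (h.mem S)) (h.perfect ▸ mem_top z) (h.mem S)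
    have : ⁅(S : Subgroup L), (S : Subgroup L)⁆ ≤ ⊥ :=
      Subgroup.commutator_le.2 fun a ha b hb => mem_bot.2
        (commutatorElement_eq_one_iff_mul_comm.2 (mem_center_iff.1 (hc hb) a))
    exact h.z_ne (mem_bot.1 (this hz))

theorem normalizer_ne_top (S : Sylow 2 L) : normalizer ((S : Subgroup L) : Set L) ≠ ⊤ := by
  intro e
  haveI : Fact (Nat.Prime 2) := ⟨Nat.prime_two⟩
  obtain ⟨T, hT⟩ := h.exists_ne_sylow S
  obtain ⟨g, hg⟩ := MulAction.exists_smul_eq L S T
  exact hT (hg ▸ Sylow.smul_eq_iff_mem_normalizer.2 (e ▸ mem_top g))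

theorem center_pow {x : L} (hx : x ∈ center L) : ∃ k : ℕ, orderOf x ∣ 2 ^ k := by
  haveI : Fact (Nat.Prime 2) := ⟨Nat.prime_two⟩
  obtain ⟨a, m, hm, ham⟩ := Nat.exists_eq_pow_mul_and_not_dvd (orderOf_pos x).ne' 2 (by norm_num)
  have hy : x ^ 2 ^ a ∈ center L := pow_mem hx _
  haveI : (zpowers (x ^ 2 ^ a)).Normal := ⟨fun w hw g => by
    have hwc : w ∈ center L := zpowers_le.2 hy hw
    rwa [mem_center_iff.1 hwc g, mul_inv_cancel_right]⟩
  have hle : zpowers (x ^ 2 ^ a) ≤ Cfsg.oddCore L := PCore.le_pPrimeCore_of_not_dvd inferInstance (by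
    rw [Nat.card_zpowers]
    intro h2
    refine hm (h2.trans ?_)
    refine orderOf_dvd_of_pow_eq_one ?_
    rw [← pow_mul, ← ham, pow_orderOf_eq_one])
  rw [h.core, le_bot_iff, zpowers_eq_bot] at hle
  exact ⟨a, orderOf_dvd_of_pow_eq_one hle⟩

theorem center_le (S : Sylow 2 L) : center L ≤ (S : Subgroup L) := fun x hx =>
  SylInter.mem_sylow_of_normalizer S (h.center_pow hx)
    (mem_normalizer_iff.2 fun s => by rw [← mem_center_iff.1 hx s, mul_inv_cancel_right])

theorem eq_z {x : L} (hx : x ∈ center L) (hx2 : x * x = 1) : x = 1 ∨ x = z := by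
  by_contra hcon
  push Not at hcon
  have ho := orderOf_eq_two_iff_mul.2 ⟨hcon.1, hx2⟩
  obtain ⟨S⟩ : Nonempty (Sylow 2 L) := inferInstance
  obtain ⟨T, hT⟩ := h.exists_ne_sylow S
  exact hT (h.uniq ho hcon.2 (h.center_le T hx) (h.center_le S hx))

/-- A conjugate of an involution which differs by a central element differs by `z`. -/
theorem conj_cases {g a : L} (ha : a * a = 1) (hc : g * a * g⁻¹ * a⁻¹ ∈ center L) :
    g * a * g⁻¹ = a ∨ g * a * g⁻¹ = z * a := by
  set c := g * a * g⁻¹ * a⁻¹ with hcdef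
  have e : g * a * g⁻¹ = c * a := by rw [hcdef]; group
  have hca : Commute c a := (mem_center_iff.1 hc a).symm
  have h2 : c * c = 1 := by
    have h1 : (g * a * g⁻¹) * (g * a * g⁻¹) = 1 := by rw [conj_mul, ha, mul_one, mul_inv_cancel]
    rwa [e, hca.symm.mul_mul_mul_comm, ha, mul_one] at h1
  rcases h.eq_z hc h2 with e1 | e1
  · left; rw [e, e1, one_mul]
  · right; rw [e, e1]

theorem mul_z_ne {t : L} (ht : orderOf t = 2) (htz : t ≠ z) : orderOf (z * t) = 2 ∧ z * t ≠ z := by
  refine ⟨orderOf_eq_two_iff_mul.2 ⟨fun e => htz ?_, ?_⟩, fun e => ne_one_of_involution ht (mul_eq_left.1 e)⟩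
  · rw [mul_eq_one_iff_eq_inv, inv_eq_self_of_involution ht] at e
    exact e.symm
  · rw [(h.z_comm t).symm.mul_mul_mul_comm, h.zz, mul_self_eq_one ht, one_mul]

/-- An element centralising an involution modulo the centre normalises its Sylow subgroup. -/
theorem mem_normalizer_of_conj {S : Sylow 2 L} {t c : L} (ht : orderOf t = 2) (htz : t ≠ z)
    (hS : t ∈ (S : Subgroup L)) (hc : c * t * c⁻¹ = t ∨ c * t * c⁻¹ = z * t) :
    c ∈ normalizer ((S : Subgroup L) : Set L) := by
  refine Sylow.smul_eq_iff_mem_normalizer.1 (h.uniq (t := c * t * c⁻¹) ((orderOf_conj_eq c t).trans ht)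
    (fun e => htz ?_) (CentralSylow.conj_mem_smul hS) ?_)
  · rw [show t = c⁻¹ * (c * t * c⁻¹) * c by group, e, mul_assoc, (h.z_comm c).eq, inv_mul_cancel_left]
  · rcases hc with e | e <;> rw [e]
    · exact hS
    · exact mul_mem (h.mem S) hS

theorem mk_eq_one {x : L} : ((x : L) : L ⧸ center L) = 1 ↔ x ∈ center L := QuotientGroup.eq_one_iff x

theorem simple : IsSimpleGroup (L ⧸ center L) := h.qs.2

theorem quot_perfect : commutator (L ⧸ center L) = ⊤ := by
  rw [_root_.commutator_def, ← Subgroup.map_top_of_surjective (QuotientGroup.mk' (center L))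
    (QuotientGroup.mk'_surjective _), ← Subgroup.map_commutator, ← _root_.commutator_def, h.perfect]

theorem quot_noncomm : ∃ a b : L ⧸ center L, a * b ≠ b * a := by
  haveI := h.simple
  haveI : Nontrivial (L ⧸ center L) := IsSimpleGroup.toNontrivial
  by_contra hcon
  push Not at hcon
  obtain ⟨x, hx⟩ := exists_ne (1 : L ⧸ center L)
  have h1 : x ∈ commutator (L ⧸ center L) := h.quot_perfect ▸ mem_top x
  rw [_root_.commutator_def] at h1
  have h2 : ⁅(⊤ : Subgroup (L ⧸ center L)), ⊤⁆ ≤ ⊥ :=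
    Subgroup.commutator_le.2 fun a _ b _ => mem_bot.2 (commutatorElement_eq_one_iff_mul_comm.2 (hcon a b))
  exact hx (mem_bot.1 (h2 h1))

end Ctx

end CfsgLib.Inter10
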