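import Cfsg.Agent.Lib.Inter10.CoreWhole

/-!
If `z` is the only central involution of `K`, the centraliser `C` of a nondegenerate part `E` is
cyclic, and central elements of order four are killed by transfer: `K` is the Sylow 2-subgroup.
-/

set_option autoImplicit false
set_option linter.style.haveILetI false
set_option linter.unusedSectionVars false

namespace CfsgLib.Inter10

open Subgroup CfsgLib.Involutions
open scoped commutatorElement

universe u

variable {L : Type u} [Group L] [Finite L] {z : L}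

namespace Ctx

variable (h : Ctx L z) {S : Sylow 2 L}
include h

theorem eq_z_of_centralized (hK : KSmall z S) {E : Subgroup L} (hEK : E ≤ Ksub z S)
    (hdec : ∀ s ∈ (S : Subgroup L), ∃ e ∈ E, ∀ x ∈ E, Commute (e⁻¹ * s) x)
    (hab : ∀ a ∈ Ksub z S, ∀ b ∈ Ksub z S, (∀ x ∈ E, Commute a x) → (∀ x ∈ E, Commute b x) → Commute a b)
    {y : L} (hy : y ∈ Iset z S) (hyE : ∀ e ∈ E, Commute y e) : y = 1 ∨ y = z :=
  (h.eq_of_iset hK hEK hdec hab (subset_closure hy) hyE).2 hy.2.1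

/-- `C = C_S(E)`. -/
theorem frame_comm (hK : KSmall z S) {E : Subgroup L} (hEK : E ≤ Ksub z S)
    (hdec : ∀ s ∈ (S : Subgroup L), ∃ e ∈ E, ∀ x ∈ E, Commute (e⁻¹ * s) x)
    (hab : ∀ a ∈ Ksub z S, ∀ b ∈ Ksub z S, (∀ x ∈ E, Commute a x) → (∀ x ∈ E, Commute b x) → Commute a b)
    {k₀ : L} (hk₀ : k₀ ∈ E) (hk₀2 : k₀ * k₀ = z) :
    ∀ a ∈ (S : Subgroup L) ⊓ centralizer (E : Set L), ∀ b ∈ (S : Subgroup L) ⊓ centralizer (E : Set L),
      Commute a b := by
  haveI : Fact (Nat.Prime 2) := ⟨Nat.prime_two⟩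
  set C := (S : Subgroup L) ⊓ centralizer (E : Set L) with hC
  have hmemC : ∀ {x : L}, x ∈ C ↔ x ∈ (S : Subgroup L) ∧ ∀ e ∈ E, Commute x e := fun {x} => by
    rw [hC, mem_inf, mem_centralizer_iff]
    exact ⟨fun hx => ⟨hx.1, fun e he => (hx.2 e he).symm⟩, fun hx => ⟨hx.1, fun e he => (hx.2 e he).symm.eq⟩⟩
  have hCn : ∀ s ∈ (S : Subgroup L), ∀ x ∈ C, s * x * s⁻¹ ∈ C := by
    intro s hs x hx
    obtain ⟨e, he, hec⟩ := hdec s hs
    have hcC : e⁻¹ * s ∈ C := hmemC.2 ⟨mul_mem (inv_mem (h.ksub_le (hEK he))) hs, hec⟩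
    set w := (e⁻¹ * s) * x * (e⁻¹ * s)⁻¹ with hw
    have hwC : w ∈ C := mul_mem (mul_mem hcC hx) (inv_mem hcC)
    have : s * x * s⁻¹ = e * w * e⁻¹ := by rw [hw]; group
    rw [this, ((hmemC.1 hwC).2 e he).symm.eq, mul_inv_cancel_right]
    exact hwC
  by_contra hnc
  have hTn : (C.subgroupOf (S : Subgroup L)).Normal :=
    ⟨fun x hx g => hCn g g.2 x hx⟩
  -- the data for `false_of_inverted`
  suffices hdata : ∃ a y : L, a ∈ C ∧ y ∈ C ∧ (∀ t ∈ C, t ∈ zpowers a ∨ t * y⁻¹ ∈ zpowers a) ∧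
      ∃ i ∈ zpowers a, i * i = z ∧ (y * i * y⁻¹ = z * i) ∧ (y * y = 1 ∨ y * y = z) by
    obtain ⟨a, y, haC, hyC, hcov, i, hia, hi2, hyi, hy2⟩ := hdata
    have hiC : i ∈ C := zpowers_le.2 haC hia
    refine h.false_of_inverted hK hEK hdec hab hk₀ hk₀2 (hmemC.1 hiC).1 (hmemC.1 hiC).2 hi2
      (fun s hs hsE => ?_) (hmemC.1 hyC).1 (hmemC.1 hyC).2 hy2 hyi
    obtain ⟨r, rfl⟩ := mem_zpowers_iff.1 hia
    rcases hcov s (hmemC.2 ⟨hs, hsE⟩) with ht | ht
    · obtain ⟨q, rfl⟩ := mem_zpowers_iff.1 ht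
      exact Or.inl (by rw [← zpow_add, ← zpow_neg, ← zpow_add]; congr 1; ring)
    · obtain ⟨q, hq⟩ := mem_zpowers_iff.1 ht
      have e : s = a ^ q * y := by rw [hq]; group
      right
      rw [e, show a ^ q * y * a ^ r * (a ^ q * y)⁻¹ = a ^ q * (y * a ^ r * y⁻¹) * (a ^ q)⁻¹ by group, hyi,
        show a ^ q * (z * a ^ r) * (a ^ q)⁻¹ = (a ^ q * z * (a ^ q)⁻¹) * (a ^ q * a ^ r * (a ^ q)⁻¹) by group,
        h.conj_z]
      congr 1
      rw [← zpow_add, ← zpow_neg, ← zpow_add]; congr 1; ring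
  have hzC : z ∈ C := hmemC.2 ⟨h.mem S, fun e _ => h.z_comm e⟩
  rcases @GammaRankOne.structure_or_four _ _ _ S.2 (C.subgroupOf (S : Subgroup L)) hTn with
    ⟨w, y, hwC, hyC, hwc, hw2, hy2, hw1, hy1, hyw, hy⟩ | hone | ⟨k, m, y, c, hm, hmC, hyC, hyM, hmn, hy2, hcy, hc, hcov⟩
  · exfalso
    have hwS : ∀ s ∈ (S : Subgroup L), s * (w : L) * s⁻¹ = w := fun s hs => by
      have := congrArg Subtype.val (mem_center_iff.1 hwc ⟨s, hs⟩)
      simp only [Subgroup.coe_mul] at this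
      rw [this, mul_inv_cancel_right]
    have hwz : (w : L) = z := (h.eq_z_of_centralized hK hEK hdec hab
      ⟨w.2, congrArg Subtype.val hw2, fun s hs => Or.inl (hwS s hs)⟩ (hmemC.1 hwC).2).resolve_left
        fun e => hw1 (Subtype.ext e)
    rcases h.eq_z_of_centralized hK hEK hdec hab ⟨y.2, congrArg Subtype.val hy2, fun s hs => (hy ⟨s, hs⟩).imp
        (congrArg Subtype.val) (fun e => hwz ▸ congrArg Subtype.val e)⟩ (hmemC.1 hyC).2 with e | e
    · exact hy1 (Subtype.ext e)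
    · exact hyw (Subtype.ext (e.trans hwz.symm))
  · have hinv : ∀ u : C, orderOf u = 2 → (u : L) = z := fun u hu => by
      have hu' := Subgroup.orderOf_coe u ▸ hu
      exact congrArg Subtype.val (hone ⟨u, (hmemC.1 u.2).1⟩ u.2 ⟨z, h.mem S⟩ hzC
        (Subtype.ext (mul_self_eq_one hu')) (fun e => ne_one_of_involution hu' (congrArg Subtype.val e))
        (Subtype.ext h.zz) (fun e => h.z_ne (congrArg Subtype.val e)) (Subtype.ext (h.z_comm u).symm.eq))
    obtain ⟨a, m, hm2, ha, hai, hout⟩ := InvChar.exists_cyclic_index_two (S.2.to_le (inf_le_left : C ≤ (S : Subgroup L)))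
      (fun hc => hnc fun a ha b hb => congrArg Subtype.val (hc.is_comm.comm (⟨a, ha⟩ : C) ⟨b, hb⟩))
      fun u v hu hv => Subtype.ext ((hinv u hu).trans (hinv v hv).symm)
    obtain ⟨y, hy⟩ : ∃ y, y ∉ zpowers a := by
      by_contra hall
      push Not at hall
      rw [show zpowers a = ⊤ from eq_top_iff.2 fun x _ => hall x, index_top] at hai
      exact absurd hai (by norm_num)
    have hzo : (((a ^ 2 ^ (m - 1) : C)) : L) = z := hinv _ (by
      rw [orderOf_pow' _ (pow_ne_zero _ two_ne_zero), ha, Nat.gcd_eq_right (pow_dvd_pow 2 (by omega)),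
        Nat.pow_div (by omega) two_pos, show m - (m - 1) = 1 by omega, pow_one])
    set i := (a : C) ^ 2 ^ (m - 2) with hidef
    have hi2 : i * i = a ^ 2 ^ (m - 1) := by
      rw [hidef, ← pow_add, ← two_mul, ← pow_succ', show m - 2 + 1 = m - 1 by omega]
    refine ⟨a, y, a.2, y.2, fun t ht => ?_, i, ?_, by rw [← hzo, ← hi2]; rfl, ?_, Or.inr ?_⟩
    · by_cases hta : (⟨t, ht⟩ : C) ∈ zpowers a
      · obtain ⟨q, hq⟩ := mem_zpowers_iff.1 hta
        exact Or.inl ⟨q, by simpa using congrArg Subtype.val hq⟩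
      · have : (⟨t, ht⟩ : C) * y⁻¹ ∈ zpowers a :=
          (mul_mem_iff_of_index_two hai).2 (iff_of_false hta fun h1 => hy (by simpa using inv_mem h1))
        obtain ⟨q, hq⟩ := mem_zpowers_iff.1 this
        exact Or.inr ⟨q, by simpa using congrArg Subtype.val hq⟩
    · rw [hidef, SubgroupClass.coe_pow]
      exact pow_mem (mem_zpowers (a : L)) _
    · have e1 : y * i * y⁻¹ = i⁻¹ := inverts_pow (hout y hy).1 _
      have e2 : i⁻¹ = (⟨z, hzC⟩ : C) * i := by
        refine inv_eq_of_mul_eq_one_right (Subtype.ext ?_)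
        show (i : L) * (z * i) = 1
        rw [← mul_assoc, ← (h.z_comm i).eq, mul_assoc, show (i : L) * i = z by rw [← hzo, ← hi2]; rfl, h.zz]
      exact congrArg Subtype.val (e1.trans e2)
    · rw [← hzo, ← (hout y hy).2, pow_two]; rfl
  · have hw : ((m : (S : Subgroup L)) : L) ^ 2 ^ (k + 1) = z := by
      have hmo : orderOf ((m : (S : Subgroup L)) : L) = 2 ^ (k + 2) := (Subgroup.orderOf_coe m).trans hm
      have hwo : orderOf (((m : (S : Subgroup L)) : L) ^ 2 ^ (k + 1)) = 2 := by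
        rw [orderOf_pow' _ (pow_ne_zero _ two_ne_zero), hmo, Nat.gcd_eq_right (pow_dvd_pow 2 (by omega)),
          Nat.pow_div (by omega) two_pos, show k + 2 - (k + 1) = 1 by omega, pow_one]
      refine (h.eq_z_of_centralized hK hEK hdec hab ⟨(S : Subgroup L).pow_mem m.2 _, mul_self_eq_one hwo, fun s hs => Or.inl ?_⟩
        ((hmemC.1 (C.pow_mem hmC _)).2)).resolve_left (ne_one_of_involution hwo)
      obtain ⟨q, hq⟩ := mem_zpowers_iff.1 (hmn.conj_mem m (mem_zpowers m) ⟨s, hs⟩)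
      have hq' : s * (m : L) * s⁻¹ = (m : L) ^ q := by simpa using (congrArg Subtype.val hq).symm
      have hqo : Odd q := by
        by_contra he
        rw [Int.not_odd_iff_even] at he
        obtain ⟨r, rfl⟩ := he
        have h1 : (((m : (S : Subgroup L)) : L) ^ (r + r)) ^ 2 ^ (k + 1) = 1 := by
          rw [← zpow_natCast, ← zpow_mul, ← orderOf_dvd_iff_zpow_eq_one, hmo]
          exact ⟨r, by push_cast; ring⟩
        rw [← hq', conj_pow] at h1
        exact ne_one_of_involution hwo (by simpa using h1)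
      obtain ⟨r, rfl⟩ := hqo
      rw [← conj_pow, hq', ← zpow_natCast ((m : L) ^ (2 * r + 1)), ← zpow_mul, ← zpow_natCast (m : L) (2 ^ (k + 1))]
      refine (GammaRankOne.zp hmo).2 ⟨-r, ?_⟩
      push_cast; ring
    set i := ((m : (S : Subgroup L)) : L) ^ 2 ^ k with hidef
    have hi2 : i * i = z := by rw [hidef, ← pow_add, ← two_mul, ← pow_succ', hw]
    refine ⟨m, y, hmC, hyC, fun t ht => ?_, i, pow_mem (mem_zpowers ((m : (S : Subgroup L)) : L)) _, hi2, ?_, Or.inl (congrArg Subtype.val hy2)⟩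
    · rcases hcov ⟨t, (hmemC.1 ht).1⟩ ht with h1 | h1 <;> obtain ⟨q, hq⟩ := mem_zpowers_iff.1 h1
      · exact Or.inl ⟨q, by simpa using congrArg Subtype.val hq⟩
      · exact Or.inr ⟨q, by simpa using congrArg Subtype.val hq⟩
    · have e1 : (y : L) * (m : L) * (y : L)⁻¹ = (m : L) ^ c := by simpa using congrArg Subtype.val hcy
      have e2 : z * i = (m : L) ^ ((2 ^ (k + 1) : ℕ) + (2 ^ k : ℕ) : ℤ) := by
        rw [zpow_add, zpow_natCast, zpow_natCast, hw]
      rw [e2, hidef, ← conj_pow, e1, ← zpow_natCast ((m : L) ^ c), ← zpow_mul,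
        GammaRankOne.zp ((Subgroup.orderOf_coe m).trans hm)]
      push_cast
      rcases hc with rfl | ⟨hk, rfl⟩
      · exact ⟨1, by ring⟩
      · refine ⟨1 - 2 ^ (k - 1), ?_⟩
        obtain ⟨d, rfl⟩ : ∃ d, k = d + 1 := ⟨k - 1, by omega⟩
        simp only [Nat.add_sub_cancel]
        ring

end Ctx

end CfsgLib.Inter10
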