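import Cfsg.Agent.Lib.Inter10.CoreShape
import Cfsg.Agent.Lib.ProductFusion.Main

/-!
The extraspecial case: the Sylow 2-subgroup is generated by involutions central modulo `z` and has
centre `⟨z⟩`. No involution of `S` other than `z` centralises `S ∩ T` if this is larger than `⟨z⟩`, so
`S ∩ T` is quaternion with quaternion centraliser, and the product fusion theorem gives a
contradiction. Without such intersections all involutions of the quotient are conjugate.
-/

set_option autoImplicit false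
set_option linter.style.haveILetI false
set_option linter.unusedSectionVars false

namespace CfsgLib.Inter10

open Subgroup CfsgLib.Involutions
open scoped commutatorElement

universe u

variable {L : Type u} [Group L]

/-- Every Sylow 2-subgroup is generated by involutions central modulo `z`, with centre `⟨z⟩`. -/
structure Extra (z : L) : Prop where
  sq : ∀ (T : Sylow 2 L), ∀ x ∈ (T : Subgroup L), x * x = 1 ∨ x * x = z
  conj : ∀ (T : Sylow 2 L), ∀ x ∈ (T : Subgroup L), ∀ s ∈ (T : Subgroup L),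
    s * x * s⁻¹ = x ∨ s * x * s⁻¹ = z * x
  centre : ∀ (T : Sylow 2 L), ∀ x ∈ (T : Subgroup L),
    (∀ s ∈ (T : Subgroup L), Commute s x) → x = 1 ∨ x = z
  gen : ∀ (T : Sylow 2 L), (T : Subgroup L) ≤ closure {x | x ∈ (T : Subgroup L) ∧ x * x = 1}

variable [Finite L] {z : L}

theorem Ctx.extra_of_whole (h : Ctx L z) (S : Sylow 2 L) (hS : Ksub z S = (S : Subgroup L))
    (hcen : ∀ x ∈ (S : Subgroup L), (∀ s ∈ (S : Subgroup L), Commute s x) → x = 1 ∨ x = z) : Extra z := by
  haveI : Fact (Nat.Prime 2) := ⟨Nat.prime_two⟩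
  have back : ∀ (g : L) (x : L), x ∈ ((g • S : Sylow 2 L) : Subgroup L) → g⁻¹ * x * g ∈ (S : Subgroup L) :=
    fun g x hx => CentralSylow.mem_smul_iff.1 hx
  refine ⟨fun T x hx => ?_, fun T x hx s hs => ?_, fun T x hx hc => ?_, fun T x hx => ?_⟩ <;>
    obtain ⟨g, rfl⟩ := MulAction.exists_smul_eq L S T
  · have e : x * x = g * ((g⁻¹ * x * g) * (g⁻¹ * x * g)) * g⁻¹ := by group
    rcases h.ksub_sq (hS.symm ▸ back g x hx) with e1 | e1 <;> rw [e, e1]
    · left; group
    · right; exact h.conj_z g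
  · have e : s * x * s⁻¹ = g * ((g⁻¹ * s * g) * (g⁻¹ * x * g) * (g⁻¹ * s * g)⁻¹) * g⁻¹ := by group
    rcases h.ksub_conj (hS.symm ▸ back g x hx) _ (back g s hs) with e1 | e1 <;> rw [e, e1]
    · left; group
    · right
      rw [show g * (z * (g⁻¹ * x * g)) * g⁻¹ = (g * z * g⁻¹) * x by group, h.conj_z]
  · have hx' : x = g * (g⁻¹ * x * g) * g⁻¹ := by group
    rcases hcen _ (back g x hx) (fun s hs => by
      have h1 := (hc _ (CentralSylow.conj_mem_smul hs)).map (MulAut.conj g⁻¹).toMonoidHom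
      simpa [MulAut.conj_apply, mul_assoc] using h1) with e | e <;> rw [hx', e]
    · left; group
    · right; exact h.conj_z g
  · have h1 : g⁻¹ * x * g ∈ Ksub z S := hS.symm ▸ back g x hx
    have h2 : g * (g⁻¹ * x * g) * g⁻¹ ∈ (Ksub z S).map (MulAut.conj g).toMonoidHom :=
      ⟨_, h1, by simp [MulAut.conj_apply, mul_assoc]⟩
    rw [show g * (g⁻¹ * x * g) * g⁻¹ = x by group, Ksub, MonoidHom.map_closure] at h2
    refine closure_mono ?_ h2
    rintro _ ⟨y, hy, rfl⟩
    simp only [MulEquiv.coe_toMonoidHom, MulAut.conj_apply]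
    exact ⟨CentralSylow.conj_mem_smul hy.1, by rw [conj_mul, hy.2.1, mul_one, mul_inv_cancel]⟩

namespace Ctx

variable (h : Ctx L z) (hX : Extra z)
include h hX

theorem center_cases {x : L} (hx : x ∈ center L) : x = 1 ∨ x = z := by
  obtain ⟨S⟩ : Nonempty (Sylow 2 L) := inferInstance
  exact hX.centre S x (h.center_le S hx) fun s _ => mem_center_iff.1 hx s

theorem mk_eq {x y : L} (e : (x : L ⧸ center L) = y) : y = x ∨ y = z * x := by
  rcases h.center_cases hX (QuotientGroup.eq.1 e) with e1 | e1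
  · exact Or.inl (inv_mul_eq_one.1 e1).symm
  · right; rw [(h.z_comm x).eq, ← e1, mul_inv_cancel_left]

omit hX in
theorem mk_mul_z (x : L) : ((z * x : L) : L ⧸ center L) = x := by
  rw [QuotientGroup.mk_mul, (QuotientGroup.eq_one_iff z).2 h.cen, one_mul]

omit hX in
theorem mk_commute_iff {x y : L} : Commute (x : L ⧸ center L) y ↔ x * y * x⁻¹ * y⁻¹ ∈ center L := by
  rw [← QuotientGroup.eq_one_iff]
  show _ ↔ QuotientGroup.mk' (center L) (x * y * x⁻¹ * y⁻¹) = 1
  rw [map_mul, map_mul, map_mul, map_inv, map_inv, mul_inv_eq_one, mul_inv_eq_iff_eq_mul]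
  rfl

/-- Commuting modulo the centre. -/
theorem mk_commute_cases {x y : L} (hc : Commute (x : L ⧸ center L) y) :
    x * y * x⁻¹ = y ∨ x * y * x⁻¹ = z * y := by
  rcases h.center_cases hX (h.mk_commute_iff.1 hc) with e | e
  · exact Or.inl (mul_inv_eq_one.1 e)
  · exact Or.inr (mul_inv_eq_iff_eq_mul.1 e)

theorem mk_commute_of_mem {T : Sylow 2 L} {x y : L} (hx : x ∈ (T : Subgroup L)) (hy : y ∈ (T : Subgroup L)) :
    Commute (x : L ⧸ center L) y := by
  rw [h.mk_commute_iff]
  rcases hX.conj T y hy x hx with e | e <;> rw [e]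
  · rw [mul_inv_cancel]; exact one_mem _
  · rw [mul_inv_cancel_right]; exact h.cen

theorem mk_sq {T : Sylow 2 L} {x : L} (hx : x ∈ (T : Subgroup L)) : (x : L ⧸ center L) * x = 1 := by
  rw [← QuotientGroup.mk_mul, QuotientGroup.eq_one_iff]
  rcases hX.sq T x hx with e | e <;> rw [e]
  · exact one_mem _
  · exact h.cen

theorem mk_order {T : Sylow 2 L} {x : L} (hx : x ∈ (T : Subgroup L)) (hc : x ≠ 1) (hz : x ≠ z) :
    orderOf (x : L ⧸ center L) = 2 :=
  orderOf_eq_two_iff_mul.2 ⟨fun e => (h.center_cases hX ((QuotientGroup.eq_one_iff x).1 e)).elim hc hz,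
    h.mk_sq hX hx⟩

/-- A lift of an element of order dividing four squares into the centre. -/
theorem quot_exponent {w : L ⧸ center L} (hw : w ^ 4 = 1) : w * w = 1 := by
  obtain ⟨x, rfl⟩ := QuotientGroup.mk'_surjective (center L) w
  have h4 : x ^ 4 ∈ center L := by
    rw [← QuotientGroup.eq_one_iff]
    exact (map_pow (QuotientGroup.mk' (center L)) x 4).trans hw
  have h8 : orderOf x ∣ 2 ^ 3 := orderOf_dvd_of_pow_eq_one (by
    rw [show 2 ^ 3 = 4 * 2 by norm_num, pow_mul]
    rcases h.center_cases hX h4 with e | e <;> rw [e]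
    · exact one_pow 2
    · rw [pow_two, h.zz])
  obtain ⟨T, hT⟩ := h.exists_sylow h8
  exact h.mk_sq hX hT

/-- A lift of a common involution lies in both Sylow subgroups. -/
theorem lift_mem {S : Sylow 2 L} {a x : L} (haS : a ∈ (S : Subgroup L)) (ha : orderOf a = 2) (haz : a ≠ z)
    (hx2 : (x : L ⧸ center L) * x = 1) (hc : Commute (x : L ⧸ center L) a) : x ∈ (S : Subgroup L) := by
  refine SylInter.mem_sylow_of_normalizer S ⟨2, orderOf_dvd_of_pow_eq_one ?_⟩
    (h.mem_normalizer_of_conj ha haz haS (h.mk_commute_cases hX hc))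
  rw [← QuotientGroup.mk_mul, QuotientGroup.eq_one_iff] at hx2
  rw [show 2 ^ 2 = 2 * 2 by norm_num, pow_mul, pow_two, pow_two]
  rcases h.center_cases hX hx2 with e | e <;> rw [e]
  · exact one_mul 1
  · exact h.zz

/-- Involutions of two Sylow subgroups are conjugate up to an element of the intersection. -/
theorem exists_link {S T : Sylow 2 L} (hne : S ≠ T) {a b : L} (haS : a ∈ (S : Subgroup L))
    (ha : orderOf a = 2) (haz : a ≠ z) (hbT : b ∈ (T : Subgroup L)) (hb : orderOf b = 2) (hbz : b ≠ z) :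
    ∃ g i : L, i ∈ (S : Subgroup L) ⊓ (T : Subgroup L) ∧
      (∀ l ∈ (S : Subgroup L) ⊓ (T : Subgroup L), Commute (g : L ⧸ center L) l) ∧
      ((g * a * g⁻¹ : L) : L ⧸ center L) = ((b * i : L) : L ⧸ center L) := by
  classical
  have ha' := h.mk_order hX haS (ne_one_of_involution ha) haz
  have hb' := h.mk_order hX hbT (ne_one_of_involution hb) hbz
  have hcomm : ∀ (c : L ⧸ center L) (A : Set (L ⧸ center L)), c ∈ closure A →
      ∀ l : L, (∀ y ∈ A, Commute y l) → Commute c l := by
    intro c A hc l hl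
    have hle : closure A ≤ centralizer ({(l : L ⧸ center L)} : Set (L ⧸ center L)) :=
      (closure_le _).2 fun y hy => mem_centralizer_singleton_iff.2 (hl y hy).eq
    exact mem_centralizer_singleton_iff.1 (hle hc)
  have fin : ∀ (b' : L ⧸ center L) (i : L), i ∈ (S : Subgroup L) ⊓ (T : Subgroup L) →
      orderOf b' = 2 → b' = ((b * i : L) : L ⧸ center L) → Odd (orderOf ((a : L ⧸ center L) * b')) →
      ∃ g i : L, i ∈ (S : Subgroup L) ⊓ (T : Subgroup L) ∧
        (∀ l ∈ (S : Subgroup L) ⊓ (T : Subgroup L), Commute (g : L ⧸ center L) l) ∧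
        ((g * a * g⁻¹ : L) : L ⧸ center L) = ((b * i : L) : L ⧸ center L) := by
    intro b' i hi hb'2 hb'e hodd
    obtain ⟨d, hd, hde⟩ := conj_of_odd_order ha' hb'2 hodd
    obtain ⟨g, rfl⟩ := QuotientGroup.mk'_surjective (center L) d
    refine ⟨g, i, hi, fun l hl => hcomm _ _ hd l ?_, ?_⟩
    · rintro y (rfl | rfl)
      · exact h.mk_commute_of_mem hX haS hl.1
      · rw [hb'e]; exact h.mk_commute_of_mem hX (mul_mem hbT hi.2) hl.2
    · rw [QuotientGroup.mk_mul, QuotientGroup.mk_mul, QuotientGroup.mk_inv, ← hb'e]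
      exact hde
  rcases Nat.even_or_odd (orderOf ((a : L ⧸ center L) * b)) with he | ho
  swap
  · exact fin (b : L ⧸ center L) 1 (one_mem _) hb' (by rw [mul_one]) ho
  obtain ⟨hu, hua, hub⟩ := central_involution ha' hb' he
  set p := (a : L ⧸ center L) * b with hp
  set r := orderOf p / 2 with hr
  have hr2 : orderOf p = 2 * r := by obtain ⟨m, hm⟩ := he; omega
  obtain ⟨x, hx⟩ := QuotientGroup.mk'_surjective (center L) (p ^ r)
  have hx' : (x : L ⧸ center L) = p ^ r := hx
  have hx2 : (x : L ⧸ center L) * x = 1 := by rw [hx']; exact mul_self_eq_one hu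
  have hxS : x ∈ (S : Subgroup L) := h.lift_mem hX haS ha haz hx2 (hx' ▸ hua)
  have hxT : x ∈ (T : Subgroup L) := h.lift_mem hX hbT hb hbz hx2 (hx' ▸ hub)
  have hrodd : Odd r := by
    by_contra hev
    rw [Nat.not_odd_iff_even] at hev
    obtain ⟨m, hm⟩ := hev
    have h4 : (p ^ m) ^ 4 = 1 := by
      rw [← pow_mul, show m * 4 = orderOf p by omega, pow_orderOf_eq_one]
    have h2 := h.quot_exponent hX h4
    rw [← pow_add, ← hm] at h2
    exact ne_one_of_involution hu h2
  have hb'2 : orderOf ((b : L ⧸ center L) * x) = 2 := by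
    refine orderOf_eq_two_iff_mul.2 ⟨fun e => ?_, ?_⟩
    · -- otherwise `b` lies in both Sylow subgroups
      rw [mul_eq_one_iff_eq_inv, inv_eq_of_mul_eq_one_right hx2] at e
      refine hne (h.uniq hb hbz ?_ hbT)
      rcases h.mk_eq hX e.symm with e1 | e1 <;> rw [e1]
      · exact hxS
      · exact mul_mem (h.mem S) hxS
    · have hcx : Commute (x : L ⧸ center L) b := hx' ▸ hub
      rw [hcx.mul_mul_mul_comm, mul_self_eq_one hb', hx2, one_mul]
  refine fin ((b : L ⧸ center L) * x) x ⟨hxS, hxT⟩ hb'2 (QuotientGroup.mk_mul _ _ _).symm ?_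
  rw [← mul_assoc, ← hp, hx', ← pow_succ']
  obtain ⟨m, hm⟩ := hrodd
  refine (show Odd r from ⟨m, hm⟩).of_dvd_nat (orderOf_dvd_of_pow_eq_one ?_)
  rw [← pow_mul, show (r + 1) * r = orderOf p * (m + 1) by rw [hr2, hm]; ring, pow_mul,
    pow_orderOf_eq_one, one_pow]

/-- An intersection larger than `⟨z⟩` is centralised by no involution other than `z`. -/
theorem inter_no_inv {S T : Sylow 2 L} (hne : S ≠ T) {u : L} (huS : u ∈ (S : Subgroup L))
    (huT : u ∈ (T : Subgroup L)) (hu1 : u ≠ 1) (huz : u ≠ z) {a : L} (haS : a ∈ (S : Subgroup L))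
    (ha : a * a = 1) (hc : ∀ l ∈ (S : Subgroup L) ⊓ (T : Subgroup L), Commute a l) : a = 1 ∨ a = z := by
  by_contra hcon
  push Not at hcon
  have hao := orderOf_eq_two_iff_mul.2 ⟨hcon.1, ha⟩
  obtain ⟨b, hbT, hbo, hbz⟩ := h.exists_inv_mem T
  refine (hX.centre S u huS fun s hs => ?_).elim hu1 huz
  have hall : ∀ a' ∈ (S : Subgroup L), a' * a' = 1 → ∀ l ∈ (S : Subgroup L) ⊓ (T : Subgroup L), Commute a' l := by
    intro a' ha'S ha' l hl
    by_cases ha'1 : a' = 1
    · rw [ha'1]; exact Commute.one_left l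
    by_cases ha'z : a' = z
    · rw [ha'z]; exact h.z_comm l
    obtain ⟨g, i, hi, hgc, hge⟩ := h.exists_link hX hne haS hao hcon.2 hbT hbo hbz
    obtain ⟨g', i', hi', hgc', hge'⟩ :=
      h.exists_link hX hne ha'S (orderOf_eq_two_iff_mul.2 ⟨ha'1, ha'⟩) ha'z hbT hbo hbz
    set n := g'⁻¹ * g with hn
    set j := i'⁻¹ * i with hj
    have hjI : j ∈ (S : Subgroup L) ⊓ (T : Subgroup L) := mul_mem (inv_mem hi') hi
    have he : ((a' * j : L) : L ⧸ center L) = ((n * a * n⁻¹ : L) : L ⧸ center L) := by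
      have c1 : (g' : L ⧸ center L)⁻¹ * (j : L ⧸ center L) * (g' : L ⧸ center L) = j := by
        rw [(hgc' j hjI).inv_left.eq, inv_mul_cancel_right]
      simp only [QuotientGroup.mk_mul, QuotientGroup.mk_inv] at hge hge' ⊢
      simp only [hn, QuotientGroup.mk_mul, QuotientGroup.mk_inv]
      calc (a' : L ⧸ center L) * j
          = (g' : L ⧸ center L)⁻¹ * ((g' : L ⧸ center L) * a' * (g' : L ⧸ center L)⁻¹) * (g' : L ⧸ center L) *
              ((g' : L ⧸ center L)⁻¹ * j * g') := by rw [c1]; group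
        _ = (g' : L ⧸ center L)⁻¹ * ((b : L ⧸ center L) * i' * j) * (g' : L ⧸ center L) := by rw [hge']; group
        _ = (g' : L ⧸ center L)⁻¹ * ((b : L ⧸ center L) * i) * (g' : L ⧸ center L) := by
            rw [hj, QuotientGroup.mk_mul, QuotientGroup.mk_inv]; group
        _ = _ := by rw [← hge]; group
    have key : ∀ m ∈ (S : Subgroup L) ⊓ (T : Subgroup L), Commute (a' * j) m := by
      intro m hm
      have hnm : Commute (n : L ⧸ center L) m := by
        rw [hn, QuotientGroup.mk_mul, QuotientGroup.mk_inv]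
        exact (hgc' m hm).inv_left.mul_left (hgc m hm)
      have h1 : Commute (n * a * n⁻¹) (n * m * n⁻¹) := by
        have := (hc m hm).map (MulAut.conj n).toMonoidHom
        simpa [MulAut.conj_apply] using this
      have h2 : Commute (n * a * n⁻¹) m := by
        rcases h.mk_commute_cases hX hnm with e | e <;> rw [e] at h1
        · exact h1
        · have h3 := (h.z_comm (n * a * n⁻¹)).symm.mul_right h1
          rwa [← mul_assoc, h.zz, one_mul] at h3
      rcases h.mk_eq hX he with e | e <;> rw [e] at h2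
      · exact h2
      · have h3 := (h.z_comm m).mul_left h2
        rwa [← mul_assoc, h.zz, one_mul] at h3
    have hj1 : j = 1 ∨ j = z := by
      have hcj : Commute a' j := by
        have h4 := (key j hjI).mul_left (Commute.refl j).inv_left
        rwa [mul_inv_cancel_right] at h4
      have h2 : (a' * j) * (a' * j) = 1 := by
        rw [← conj_eq_one_iff (a := (g' : L))]
        have e : (n * a * n⁻¹) * (n * a * n⁻¹) = 1 := by rw [conj_mul, ha, mul_one, mul_inv_cancel]
        rcases h.mk_eq hX he with e1 | e1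
        · rw [← e1, e]; group
        · have : (z * (a' * j)) * (z * (a' * j)) = 1 := e1 ▸ e
          rw [(h.z_comm _).symm.mul_mul_mul_comm, h.zz, one_mul] at this
          rw [this]; group
      rw [hcj.symm.mul_mul_mul_comm, ha', one_mul] at h2
      by_contra hj'
      push Not at hj'
      exact hne (h.uniq (orderOf_eq_two_iff_mul.2 ⟨hj'.1, h2⟩) hj'.2 hjI.1 hjI.2)
    have hfin := key l hl
    rcases hj1 with e | e <;> rw [e] at hfin
    · rwa [mul_one] at hfin
    · have h3 := hfin.mul_left (h.z_comm l)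
      rwa [mul_assoc, h.zz, mul_one] at h3
  have hle : (S : Subgroup L) ≤ centralizer ({u} : Set L) := (hX.gen S).trans ((closure_le _).2 fun y hy =>
    mem_centralizer_singleton_iff.2 (hall y hy.1 hy.2 u ⟨huS, huT⟩).eq)
  exact mem_centralizer_singleton_iff.1 (hle hs)

/-- The intersection of two Sylow subgroups is at most `⟨z⟩` or two nonsingular lines. -/
theorem false_of_inter {S T : Sylow 2 L} (hne : S ≠ T) {u : L} (huS : u ∈ (S : Subgroup L))
    (huT : u ∈ (T : Subgroup L)) (hu1 : u ≠ 1) (huz : u ≠ z) : False := by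
  haveI : Fact (Nat.Prime 2) := ⟨Nat.prime_two⟩
  set I := (S : Subgroup L) ⊓ (T : Subgroup L) with hI
  have huI : u ∈ I := ⟨huS, huT⟩
  have hI2 : ∀ x ∈ I, x ≠ 1 → x ≠ z → x * x = z := fun x hx h1 h2 =>
    (hX.sq S x hx.1).resolve_left fun e => hne (h.uniq (orderOf_eq_two_iff_mul.2 ⟨h1, e⟩) h2 hx.1 hx.2)
  -- the centraliser of the intersection
  set D := (S : Subgroup L) ⊓ centralizer (I : Set L) with hD
  have hDc : ∀ d ∈ D, ∀ l ∈ I, Commute d l := fun d hd l hl => ((mem_centralizer_iff.1 hd.2) l hl).symm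
  have hD2 : ∀ x ∈ D, x ≠ 1 → x ≠ z → x * x = z := fun x hx h1 h2 =>
    (hX.sq S x hx.1).resolve_left fun e =>
      (h.inter_no_inv hX hne huS huT hu1 huz hx.1 e (hDc x hx)).elim h1 h2
  -- two commuting elements of square `z` differ by a power of `z`
  have hline : ∀ (W : Subgroup L), (∀ x ∈ W, x ≠ 1 → x ≠ z → x * x = z) → ∀ x ∈ W, ∀ y ∈ W,
      x ≠ 1 → x ≠ z → y ≠ 1 → y ≠ z → Commute x y → y = x ∨ y = z * x := by
    intro W hW x hx y hy hx1 hxz hy1 hyz hc
    have h2 : (x * y) * (x * y) = 1 := by rw [hc.symm.mul_mul_mul_comm, hW x hx hx1 hxz, hW y hy hy1 hyz, h.zz]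
    by_cases e1 : x * y = 1
    · right
      rw [← inv_eq_of_mul_eq_one_right e1]
      exact inv_eq_of_mul_eq_one_right (by rw [← mul_assoc, ← (h.z_comm x).eq, mul_assoc, hW x hx hx1 hxz, h.zz])
    by_cases e2 : x * y = z
    · left
      rw [← hW x hx hx1 hxz] at e2
      exact mul_left_cancel e2
    exfalso
    have := hW _ (mul_mem hx hy) e1 e2
    rw [h2] at this
    exact h.z_ne this.symm
  -- a line
  by_cases hsmall : ∀ x ∈ I, x ≠ 1 → x ≠ z → x = u ∨ x = z * u
  · have hu2 := hI2 u huI hu1 huz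
    have hDu : ∀ x ∈ (S : Subgroup L), Commute x u → x ∈ zpowers u := by
      intro x hx hc
      have hxD : x ∈ D := ⟨hx, mem_centralizer_iff.2 fun l hl => by
        by_cases l1 : l = 1
        · rw [l1, one_mul, mul_one]
        by_cases lz : l = z
        · rw [lz]; exact (h.z_comm x).eq
        rcases hsmall l hl l1 lz with e | e <;> rw [e]
        · exact hc.eq.symm
        · exact ((h.z_comm x).symm.mul_right hc).eq.symm⟩
      have huD : u ∈ D := ⟨huS, mem_centralizer_iff.2 fun l hl => by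
        by_cases l1 : l = 1
        · rw [l1, one_mul, mul_one]
        by_cases lz : l = z
        · rw [lz]; exact (h.z_comm u).eq
        rcases hsmall l hl l1 lz with e | e <;> rw [e]
        exact (h.z_comm u).mul_left (Commute.refl u) |>.eq⟩
      have hzu : z ∈ zpowers u := hu2 ▸ mul_mem (mem_zpowers u) (mem_zpowers u)
      by_cases x1 : x = 1
      · rw [x1]; exact one_mem _
      by_cases xz : x = z
      · rw [xz]; exact hzu
      rcases hline D hD2 u huD x hxD hu1 huz x1 xz hc.symm with e | e <;> rw [e]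
      · exact mem_zpowers u
      · exact mul_mem hzu (mem_zpowers u)
    obtain ⟨t, htS, ht, htz⟩ := h.exists_inv_mem S
    obtain ⟨y, hy, hyu⟩ : ∃ y ∈ (S : Subgroup L), ¬ Commute y u := by
      by_contra hall
      push Not at hall
      exact (hX.centre S u huS hall).elim hu1 huz
    refine h.no_cyclic_half (zpowers_le.2 huS) ?_ ht htz (hu2 ▸ mul_mem (mem_zpowers u) (mem_zpowers u))
    show ((zpowers u).subgroupOf (S : Subgroup L)).index = 2
    rw [index_eq_two_iff]
    refine ⟨⟨y, hy⟩, fun b => ?_⟩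
    rw [xor_comm, mem_subgroupOf, mem_subgroupOf, Subgroup.coe_mul]
    show Xor ((b : L) ∈ zpowers u) ((b : L) * y ∈ zpowers u)
    have hcu : ∀ x ∈ zpowers u, Commute x u := fun x hx => by
      obtain ⟨i, rfl⟩ := mem_zpowers_iff.1 hx
      exact (Commute.refl u).zpow_left i
    by_cases hb : (b : L) ∈ zpowers u
    · exact Or.inl ⟨hb, fun h1 => hyu (hcu y ((mul_mem_cancel_left hb).1 h1))⟩
    · refine Or.inr ⟨hDu _ (mul_mem b.2 hy) ?_, hb⟩
      have hyu' : y * u * y⁻¹ = z * u := (hX.conj S u huS y hy).resolve_left fun e => hyu (mul_inv_eq_iff_eq_mul.1 e)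
      have hbu' : (b : L) * u * (b : L)⁻¹ = z * u :=
        (hX.conj S u huS b b.2).resolve_left fun e => hb (hDu b b.2 (mul_inv_eq_iff_eq_mul.1 e))
      refine mul_inv_eq_iff_eq_mul.1 ?_
      rw [show (b : L) * y * u * ((b : L) * y)⁻¹ = (b : L) * (y * u * y⁻¹) * (b : L)⁻¹ by group, hyu',
        show (b : L) * (z * u) * (b : L)⁻¹ = ((b : L) * z * (b : L)⁻¹) * ((b : L) * u * (b : L)⁻¹) by group,
        h.conj_z, hbu', ← mul_assoc, h.zz, one_mul]
  -- a quaternion intersection
  push Not at hsmall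
  obtain ⟨v, hvI, hv1, hvz, hvu, hvzu⟩ := hsmall
  have hnc : ¬ Commute u v := fun hc => (hline I hI2 u huI v hvI hu1 huz hv1 hvz hc).elim hvu hvzu
  have huv : v * u * v⁻¹ = z * u :=
    (hX.conj S u huS v hvI.1).resolve_left fun e => hnc (mul_inv_eq_iff_eq_mul.1 e).symm
  have hvu' : u * v * u⁻¹ = z * v :=
    (hX.conj S v hvI.1 u huS).resolve_left fun e => hnc (mul_inv_eq_iff_eq_mul.1 e)
  -- `S = I D`
  have hId : ∀ s ∈ (S : Subgroup L), ∃ w ∈ I, w⁻¹ * s ∈ D := by
    intro s hs
    obtain ⟨w, hw, hwu, hwv⟩ : ∃ w ∈ I, w * u * w⁻¹ = s * u * s⁻¹ ∧ w * v * w⁻¹ = s * v * s⁻¹ := by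
      rcases hX.conj S u huS s hs with e | e <;> rcases hX.conj S v hvI.1 s hs with e' | e' <;> rw [e, e']
      · exact ⟨1, one_mem _, by group, by group⟩
      · exact ⟨u, huI, by group, hvu'⟩
      · exact ⟨v, hvI, huv, by group⟩
      · refine ⟨u * v, mul_mem huI hvI, ?_, ?_⟩
        · rw [show u * v * u * (u * v)⁻¹ = u * (v * u * v⁻¹) * u⁻¹ by group, huv,
            show u * (z * u) * u⁻¹ = (u * z * u⁻¹) * u by group, h.conj_z]
        · rw [show u * v * v * (u * v)⁻¹ = u * v * u⁻¹ by group, hvu']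
    refine ⟨w, hw, (S : Subgroup L).mul_mem ((S : Subgroup L).inv_mem hw.1) hs, ?_⟩
    have cu : Commute (w⁻¹ * s) u := mul_inv_eq_iff_eq_mul.1 (by
      rw [show w⁻¹ * s * u * (w⁻¹ * s)⁻¹ = w⁻¹ * (s * u * s⁻¹) * w by group, ← hwu]; group)
    have cv : Commute (w⁻¹ * s) v := mul_inv_eq_iff_eq_mul.1 (by
      rw [show w⁻¹ * s * v * (w⁻¹ * s)⁻¹ = w⁻¹ * (s * v * s⁻¹) * w by group, ← hwv]; group)
    refine mem_centralizer_iff.2 fun l hl => ?_
    by_cases l1 : l = 1
    · rw [l1, one_mul, mul_one]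
    by_cases lz : l = z
    · rw [lz]; exact (h.z_comm _).eq
    by_cases cl : Commute u l
    · rcases hline I hI2 u huI l hl hu1 huz l1 lz cl with e | e <;> rw [e]
      · exact cu.eq.symm
      · exact ((h.z_comm _).symm.mul_right cu).eq.symm
    by_cases cl' : Commute v l
    · rcases hline I hI2 v hvI l hl hv1 hvz l1 lz cl' with e | e <;> rw [e]
      · exact cv.eq.symm
      · exact ((h.z_comm _).symm.mul_right cv).eq.symm
    have hl1 : l * u * l⁻¹ = z * u :=
      (hX.conj S u huS l hl.1).resolve_left fun e => cl (mul_inv_eq_iff_eq_mul.1 e).symm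
    have hl2 : l * v * l⁻¹ = z * v :=
      (hX.conj S v hvI.1 l hl.1).resolve_left fun e => cl' (mul_inv_eq_iff_eq_mul.1 e).symm
    have hluv : Commute (u * v) l := by
      refine (mul_inv_eq_iff_eq_mul.1 (?_ : l * (u * v) * l⁻¹ = u * v) : Commute l (u * v)).symm
      rw [show l * (u * v) * l⁻¹ = (l * u * l⁻¹) * (l * v * l⁻¹) by group, hl1, hl2,
        (h.z_comm u).symm.mul_mul_mul_comm, h.zz, one_mul]
    have huv1 : u * v ≠ 1 := fun e => hnc (by rw [← inv_eq_of_mul_eq_one_right e]; exact (Commute.refl u).inv_right)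
    have huvz : u * v ≠ z := fun e => hnc (by
      rw [show v = u⁻¹ * z by rw [← e, inv_mul_cancel_left]]
      exact (Commute.refl u).inv_right.mul_right (h.z_comm u).symm)
    rcases hline I hI2 (u * v) (mul_mem huI hvI) l hl huv1 huvz l1 lz hluv with e | e <;> rw [e]
    · exact (cu.mul_right cv).eq.symm
    · exact ((h.z_comm _).symm.mul_right (cu.mul_right cv)).eq.symm
  have hID : ∀ x ∈ I, x ∈ D → x = 1 ∨ x = z := by
    intro x hx hxD
    refine hX.centre S x hx.1 fun s hs => ?_
    obtain ⟨w, hw, hwd⟩ := hId s hs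
    have := (hDc x hxD w hw).symm.mul_left (hDc _ hwd x hx)
    rwa [mul_inv_cancel_left] at this
  -- a noncommutative centraliser
  obtain ⟨d, hd, d', hd', hdd⟩ : ∃ d ∈ D, ∃ d' ∈ D, ¬ Commute d d' := by
    by_contra hall
    push Not at hall
    have hDz : ∀ x ∈ D, x = 1 ∨ x = z := fun x hx => hX.centre S x hx.1 fun s hs => by
      obtain ⟨w, hw, hwd⟩ := hId s hs
      have := (hDc x hx w hw).symm.mul_left (hall _ hwd x hx)
      rwa [mul_inv_cancel_left] at this
    obtain ⟨t, htS, ht, htz⟩ := h.exists_inv_mem S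
    obtain ⟨w, hw, hwd⟩ := hId t htS
    have htI : t ∈ I := by
      have hz' : w⁻¹ * t ∈ I := by
        rcases hDz _ hwd with e | e <;> rw [e]
        · exact one_mem _
        · exact ⟨h.mem S, h.mem T⟩
      have := mul_mem hw hz'
      rwa [mul_inv_cancel_left] at this
    exact hne (h.uniq ht htz htI.1 htI.2)
  have hd1 : d ≠ 1 := fun e => hdd (e ▸ Commute.one_left d')
  have hdz : d ≠ z := fun e => hdd (e ▸ h.z_comm d')
  have hd'1 : d' ≠ 1 := fun e => hdd (e ▸ Commute.one_right d)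
  have hd'z : d' ≠ z := fun e => hdd (e ▸ (h.z_comm d).symm)
  -- the elements of square `z`
  have hns : ∀ s ∈ (S : Subgroup L), s * s = z → s ∈ I ∨ s ∈ D := by
    intro s hs hs2
    obtain ⟨w, hw, hwd⟩ := hId s hs
    have hzI : z ∈ I := ⟨h.mem S, h.mem T⟩
    have hzD : z ∈ D := ⟨h.mem S, mem_centralizer_iff.2 fun l _ => (h.z_comm l).symm.eq⟩
    by_cases w1 : w = 1
    · right; rw [w1, inv_one, one_mul] at hwd; exact hwd
    by_cases wz : w = z
    · right
      have := mul_mem hzD (wz ▸ hwd)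
      rwa [mul_inv_cancel_left] at this
    by_cases q1 : w⁻¹ * s = 1
    · left; rw [← inv_mul_eq_one.1 q1]; exact hw
    by_cases qz : w⁻¹ * s = z
    · left
      have := mul_mem hw hzI
      rwa [← qz, mul_inv_cancel_left] at this
    exfalso
    have hsw : s = w * (w⁻¹ * s) := by group
    rw [hsw, (hDc _ hwd w hw).mul_mul_mul_comm, hI2 w hw w1 wz, hD2 _ hwd q1 qz, h.zz] at hs2
    exact h.z_ne hs2.symm
  have hside : ∀ p q : L, p ∈ I ∨ p ∈ D → q ∈ I ∨ q ∈ D → ¬ Commute p q → (p ∈ I ∧ q ∈ I) ∨ (p ∈ D ∧ q ∈ D) := by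
    intro p q hp hq hpq
    rcases hp with hp | hp <;> rcases hq with hq | hq
    · exact Or.inl ⟨hp, hq⟩
    · exact absurd (hDc q hq p hp).symm hpq
    · exact absurd (hDc p hp q hq) hpq
    · exact Or.inr ⟨hp, hq⟩
  -- invariance under the normaliser
  have hinv : ∀ n ∈ normalizer ((S : Subgroup L) : Set L), (∀ x ∈ I, n * x * n⁻¹ ∈ I) ∧ ∀ x ∈ D, n * x * n⁻¹ ∈ D := by
    intro n hn
    let f : L ≃* L := MulAut.conj n
    have hf : ∀ x, f x = n * x * n⁻¹ := fun x => MulAut.conj_apply n x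
    have hfz : f z = z := by rw [hf, h.conj_z]
    have hfS : ∀ x ∈ (S : Subgroup L), f x ∈ (S : Subgroup L) := fun x hx => hf x ▸ (mem_normalizer_iff.1 hn x).1 hx
    have hfns : ∀ x, (x ∈ I ∨ x ∈ D) → x ≠ 1 → x ≠ z → f x ∈ I ∨ f x ∈ D := fun x hx h1 h2 => by
      refine hns _ (hfS x (hx.elim (·.1) (·.1))) ?_
      rw [← map_mul, hx.elim (hI2 x · h1 h2) (hD2 x · h1 h2), hfz]
    -- no exchange
    have noswap : f u ∈ I := by
      by_contra hcon
      obtain ⟨b, m, hm, hbm⟩ := Nat.exists_eq_pow_mul_and_not_dvd (orderOf_pos n).ne' 2 (by norm_num)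
      have hmS : n ^ m ∈ (S : Subgroup L) := SylInter.mem_sylow_of_normalizer S ⟨b, orderOf_dvd_of_pow_eq_one (by
        rw [← pow_mul, mul_comm, ← hbm, pow_orderOf_eq_one])⟩ (pow_mem hn m)
      have swap : ∀ p q : L, p ∈ I → q ∈ I → ¬ Commute p q → f p ∈ D → f q ∈ D := by
        intro p q hp hq hpq hfp
        have hq1 : q ≠ 1 := fun e => hpq (e ▸ Commute.one_right p)
        have hqz : q ≠ z := fun e => hpq (e ▸ (h.z_comm p).symm)
        rcases hfns q (Or.inl hq) hq1 hqz with hq' | hq'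
        · exact absurd ((hDc _ hfp _ hq').map f.symm.toMonoidHom) (by simpa using hpq)
        · exact hq'
      have hfu : f u ∈ D := (hfns u (Or.inl huI) hu1 huz).resolve_left hcon
      have hfv : f v ∈ D := swap u v huI hvI hnc hfu
      have hfuv : ¬ Commute (f u) (f v) := fun hc => hnc (by simpa using hc.map f.symm.toMonoidHom)
      have hfne : ∀ x : L, x ≠ 1 → x ≠ z → f x ≠ 1 ∧ f x ≠ z := fun x h1 h2 =>
        ⟨fun e => h1 (f.injective (e.trans (map_one f).symm)), fun e => h2 (f.injective (e.trans hfz.symm))⟩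
      have hDI : ∀ x ∈ D, x ≠ 1 → x ≠ z → f x ∈ I := by
        intro x hx h1 h2
        refine (hfns x (Or.inr hx) h1 h2).resolve_right fun hfx => ?_
        have c1 : Commute (f u) (f x) := (hDc x hx u huI).symm.map f.toMonoidHom
        have c2 : Commute (f v) (f x) := (hDc x hx v hvI).symm.map f.toMonoidHom
        obtain ⟨x1, xz⟩ := hfne x h1 h2
        obtain ⟨u1, uz⟩ := hfne u hu1 huz
        obtain ⟨v1, vz⟩ := hfne v hv1 hvz
        rcases hline D hD2 (f x) hfx (f u) hfu x1 xz u1 uz c1.symm with e | e <;>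
          rcases hline D hD2 (f x) hfx (f v) hfv x1 xz v1 vz c2.symm with e' | e' <;> apply hfuv <;> rw [e, e']
        · exact (h.z_comm (f x)).symm.mul_right (Commute.refl _)
        · exact (h.z_comm (f x)).mul_left (Commute.refl _)
      have hIall : ∀ x ∈ I, x ≠ 1 → x ≠ z → f x ∈ D := by
        intro x hx h1 h2
        refine (hfns x (Or.inl hx) h1 h2).resolve_left fun hfx => ?_
        have c1 : Commute (f u) (f x) := hDc _ hfu _ hfx
        have c2 : Commute (f v) (f x) := hDc _ hfv _ hfx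
        have c1' : Commute u x := by simpa using c1.map f.symm.toMonoidHom
        have c2' : Commute v x := by simpa using c2.map f.symm.toMonoidHom
        rcases hline I hI2 x hx u huI h1 h2 hu1 huz c1'.symm with e | e <;>
          rcases hline I hI2 x hx v hvI h1 h2 hv1 hvz c2'.symm with e' | e' <;> apply hnc <;> rw [e, e']
        · exact (h.z_comm x).symm.mul_right (Commute.refl _)
        · exact (h.z_comm x).mul_left (Commute.refl _)
      have hiter : ∀ e : ℕ, (Odd e → n ^ e * u * (n ^ e)⁻¹ ∈ D) ∧ (Even e → n ^ e * u * (n ^ e)⁻¹ ∈ I) ∧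
          n ^ e * u * (n ^ e)⁻¹ ≠ 1 ∧ n ^ e * u * (n ^ e)⁻¹ ≠ z := by
        intro e
        induction e with
        | zero => exact ⟨fun ho => absurd ho (by decide), fun _ => by simpa using huI, by simpa using hu1, by simpa using huz⟩
        | succ e ih =>
          obtain ⟨ho, he, h1, h2⟩ := ih
          have es : n ^ (e + 1) * u * (n ^ (e + 1))⁻¹ = f (n ^ e * u * (n ^ e)⁻¹) := by
            rw [hf, pow_succ']; group
          rw [es]
          refine ⟨fun hodd => hIall _ (he ?_) h1 h2, fun heven => hDI _ (ho ?_) h1 h2, (hfne _ h1 h2).1, (hfne _ h1 h2).2⟩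
          · obtain ⟨r, hr⟩ := hodd; exact ⟨r, by omega⟩
          · obtain ⟨r, hr⟩ := heven; exact ⟨r - 1, by omega⟩
      obtain ⟨hodd, -, h1, h2⟩ := hiter m
      have hmD := hodd (Nat.not_even_iff_odd.1 fun he => hm (even_iff_two_dvd.1 he))
      refine (hID _ ?_ hmD).elim h1 h2
      rcases hX.conj S u huS _ hmS with e | e <;> rw [e]
      · exact huI
      · exact mul_mem ⟨h.mem S, h.mem T⟩ huI
    have hfI : ∀ x ∈ I, f x ∈ I := by
      intro x hx
      by_cases x1 : x = 1
      · rw [x1, map_one]; exact one_mem _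
      by_cases xz : x = z
      · rw [xz, hfz]; exact ⟨h.mem S, h.mem T⟩
      by_cases cx : Commute u x
      · rcases hline I hI2 u huI x hx hu1 huz x1 xz cx with e | e <;> rw [e]
        · exact noswap
        · rw [map_mul, hfz]; exact mul_mem ⟨h.mem S, h.mem T⟩ noswap
      · rcases hside (f u) (f x) (Or.inl noswap) (hfns x (Or.inl hx) x1 xz)
            (fun hc => cx (by simpa using hc.map f.symm.toMonoidHom)) with hh | hh
        · exact hh.2
        · exfalso
          rcases hID _ noswap hh.1 with e | e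
          · exact hu1 (f.injective (e.trans (map_one f).symm))
          · exact huz (f.injective (e.trans hfz.symm))
    refine ⟨fun x hx => hf x ▸ hfI x hx, fun x hx => hf x ▸ ?_⟩
    by_cases x1 : x = 1
    · rw [x1, map_one]; exact one_mem _
    by_cases xz : x = z
    · rw [xz, hfz]; exact ⟨h.mem S, mem_centralizer_iff.2 fun l _ => (h.z_comm l).symm.eq⟩
    refine (hfns x (Or.inr hx) x1 xz).resolve_left fun hfx => ?_
    have c1 : Commute (f u) (f x) := (hDc x hx u huI).symm.map f.toMonoidHom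
    have c2 : Commute (f v) (f x) := (hDc x hx v hvI).symm.map f.toMonoidHom
    have hfuv : ¬ Commute (f u) (f v) := fun hc => hnc (by simpa using hc.map f.symm.toMonoidHom)
    have hfne : ∀ y : L, y ≠ 1 → y ≠ z → f y ≠ 1 ∧ f y ≠ z := fun y h1 h2 =>
      ⟨fun e => h1 (f.injective (e.trans (map_one f).symm)), fun e => h2 (f.injective (e.trans hfz.symm))⟩
    obtain ⟨x1', xz'⟩ := hfne x x1 xz
    obtain ⟨u1, uz⟩ := hfne u hu1 huz
    obtain ⟨v1, vz⟩ := hfne v hv1 hvz
    rcases hline I hI2 (f x) hfx (f u) (hfI u huI) x1' xz' u1 uz c1.symm with e | e <;>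
      rcases hline I hI2 (f x) hfx (f v) (hfI v hvI) x1' xz' v1 vz c2.symm with e' | e' <;> apply hfuv <;> rw [e, e']
    · exact (h.z_comm (f x)).symm.mul_right (Commute.refl _)
    · exact (h.z_comm (f x)).mul_left (Commute.refl _)
  -- product fusion in the central quotient
  set π := QuotientGroup.mk' (center L) with hπ
  let P : Sylow 2 (L ⧸ center L) := S.mapSurjective (QuotientGroup.mk'_surjective (center L))
  have hPc : IsMulCommutative ((P : Sylow 2 (L ⧸ center L)) : Subgroup (L ⧸ center L)) := ⟨⟨fun p q => by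
    obtain ⟨x, hx, hpx⟩ := p.2
    obtain ⟨y, hy, hqy⟩ := q.2
    refine Subtype.ext ?_
    show (p : L ⧸ center L) * q = q * p
    rw [← hpx, ← hqy]
    exact (h.mk_commute_of_mem hX hx hy).eq⟩⟩
  have hsc : ∀ W : Subgroup L, W ≤ (S : Subgroup L) →
      (∀ n ∈ normalizer ((S : Subgroup L) : Set L), ∀ x ∈ W, n * x * n⁻¹ ∈ W) →
      Cfsg.IsStronglyClosed (W.map π) (P : Subgroup (L ⧸ center L)) := by
    intro W hW hWn
    refine ⟨Subgroup.map_mono hW, ?_⟩
    rintro _ ⟨x, hx, rfl⟩ g hg
    haveI := hPc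
    obtain ⟨c, hc, e⟩ := P.conj_eq_normalizer_conj_of_mem (π x) g⁻¹ ⟨x, hW hx, rfl⟩ (by rwa [inv_inv])
    rw [inv_inv] at e
    obtain ⟨n, hn⟩ := QuotientGroup.mk'_surjective (center L) c⁻¹
    have hnN : n ∈ normalizer ((S : Subgroup L) : Set L) := by
      have key : ∀ m : L, π m ∈ normalizer ((P : Subgroup (L ⧸ center L)) : Set (L ⧸ center L)) →
          ∀ s ∈ (S : Subgroup L), m * s * m⁻¹ ∈ (S : Subgroup L) := by
        intro m hm s hs
        obtain ⟨t, ht, hte⟩ := (mem_normalizer_iff.1 hm (π s)).1 ⟨s, hs, rfl⟩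
        rw [← map_inv, ← map_mul, ← map_mul] at hte
        rcases h.mk_eq hX hte with e1 | e1 <;> rw [e1]
        · exact ht
        · exact mul_mem (h.mem S) ht
      have hn' : π n ∈ normalizer ((P : Subgroup (L ⧸ center L)) : Set (L ⧸ center L)) := hn ▸ inv_mem hc
      have hn'' : π n⁻¹ ∈ normalizer ((P : Subgroup (L ⧸ center L)) : Set (L ⧸ center L)) := by
        rw [map_inv]; exact inv_mem hn'
      refine mem_normalizer_iff.2 fun s => ⟨key n hn' s, fun hs => ?_⟩
      have h2 := key n⁻¹ hn'' _ hs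
      rwa [inv_inv, show n⁻¹ * (n * s * n⁻¹) * n = s by group] at h2
    refine ⟨n * x * n⁻¹, hWn n hnN x hx, ?_⟩
    rw [map_mul, map_mul, map_inv, hn, inv_inv, ← e]
  let Dp : ProductFusion.Pair (L ⧸ center L) :=
    { P := P
      S₁ := I.map π
      S₂ := D.map π
      comm := by
        rintro _ ⟨x, hx, rfl⟩ _ ⟨y, hy, rfl⟩
        rw [← map_mul, ← map_mul, (hDc y hy x hx).eq]
      disj := by
        rw [eq_bot_iff]
        rintro _ ⟨⟨x, hx, rfl⟩, ⟨y, hy, hyx⟩⟩
        rw [mem_bot]
        have hxD : x ∈ D := by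
          rcases h.mk_eq hX (show (y : L ⧸ center L) = x from hyx) with e | e <;> rw [e]
          · exact hy
          · exact mul_mem ⟨h.mem S, mem_centralizer_iff.2 fun l _ => (h.z_comm l).symm.eq⟩ hy
        rcases hID x hx hxD with e | e <;> rw [e]
        · exact map_one π
        · exact (QuotientGroup.eq_one_iff z).2 h.cen
      sc₁ := hsc I inf_le_left fun n hn => (hinv n hn).1
      sc₂ := hsc D inf_le_left fun n hn => (hinv n hn).2 }
  haveI := h.simple
  have hnc1 : ∀ x : L, x ≠ 1 → x ≠ z → π x ≠ 1 := fun x h1 h2 e =>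
    (h.center_cases hX ((QuotientGroup.eq_one_iff x).1 e)).elim h1 h2
  have htop : ∀ (W : Subgroup L) (x : L), x ∈ W → x ≠ 1 → x ≠ z →
      normalClosure ((W.map π : Subgroup (L ⧸ center L)) : Set (L ⧸ center L)) = ⊤ := by
    intro W x hx h1 h2
    refine (IsSimpleGroup.eq_bot_or_eq_top_of_normal _ normalClosure_normal).resolve_left fun e => hnc1 x h1 h2 ?_
    exact mem_bot.1 (e ▸ subset_normalClosure ⟨x, hx, rfl⟩)
  have hle := ProductFusion.commutator_le_pPrimeCore Dp
  rw [htop I u huI hu1 huz, htop D d hd hd1 hdz, ← _root_.commutator_def, h.quot_perfect] at hle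
  have h1 : ¬ 2 ∣ Nat.card (Cfsg.pPrimeCore 2 (L ⧸ center L)) := PCore.not_dvd_card_pPrimeCore
  rw [top_le_iff.1 hle, Subgroup.card_top] at h1
  exact h1 (h.mk_order hX huS hu1 huz ▸ orderOf_dvd_natCard (u : L ⧸ center L))

/-- The extraspecial case does not occur. -/
theorem extra_false : False := by
  haveI : Fact (Nat.Prime 2) := ⟨Nat.prime_two⟩
  obtain ⟨S⟩ : Nonempty (Sylow 2 L) := inferInstance
  obtain ⟨T, hT⟩ := h.exists_ne_sylow S
  have hI : ∀ A B : Sylow 2 L, A ≠ B → ∀ x ∈ (A : Subgroup L), x ∈ (B : Subgroup L) → x = 1 ∨ x = z := by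
    intro A B hAB x hxA hxB
    by_contra hcon
    push Not at hcon
    exact h.false_of_inter hX hAB hxA hxB hcon.1 hcon.2
  obtain ⟨a, haS, ha, haz⟩ := h.exists_inv_mem S
  obtain ⟨w, hwT, hw2⟩ : ∃ w ∈ (T : Subgroup L), w * w = z := by
    by_contra hall
    push Not at hall
    have hsq : ∀ x ∈ (T : Subgroup L), x * x = 1 := fun x hx => (hX.sq T x hx).resolve_right (hall x hx)
    have hcom : ∀ x ∈ (T : Subgroup L), ∀ y ∈ (T : Subgroup L), Commute x y := fun x hx y hy => by
      have := hsq _ (mul_mem hx hy)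
      show x * y = y * x
      rw [← inv_eq_of_mul_eq_one_right this, mul_inv_rev, inv_eq_of_mul_eq_one_right (hsq x hx),
        inv_eq_of_mul_eq_one_right (hsq y hy)]
    obtain ⟨t, htT, ht, htz⟩ := h.exists_inv_mem T
    exact (hX.centre T t htT fun s hs => hcom s hs t htT).elim (ne_one_of_involution ht) htz
  have hw1 : w ≠ 1 := fun e => by rw [e, one_mul] at hw2; exact h.z_ne hw2.symm
  have hwz : w ≠ z := fun e => by rw [e, h.zz] at hw2; exact h.z_ne hw2.symm
  have ha' := h.mk_order hX haS (ne_one_of_involution ha) haz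
  have hw' := h.mk_order hX hwT hw1 hwz
  rcases Nat.even_or_odd (orderOf ((a : L ⧸ center L) * w)) with he | ho
  · obtain ⟨hu, hua, huw⟩ := central_involution ha' hw' he
    obtain ⟨x, hx⟩ := QuotientGroup.mk'_surjective (center L) (((a : L ⧸ center L) * w) ^ (orderOf ((a : L ⧸ center L) * w) / 2))
    have hx' : (x : L ⧸ center L) = _ := hx
    have hxS : x ∈ (S : Subgroup L) := h.lift_mem hX haS ha haz (by rw [hx']; exact mul_self_eq_one hu) (hx' ▸ hua)
    have hxN : x ∈ normalizer ((T : Subgroup L) : Set L) := by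
      refine Sylow.smul_eq_iff_mem_normalizer.1 (by_contra fun hne => ?_)
      have hwx : w ∈ ((x • T : Sylow 2 L) : Subgroup L) := by
        rw [CentralSylow.mem_smul_iff]
        have hc : Commute ((x⁻¹ : L) : L ⧸ center L) w := by
          rw [QuotientGroup.mk_inv, hx']; exact huw.inv_left
        have e1 := h.mk_commute_cases hX hc
        rw [inv_inv] at e1
        rcases e1 with e | e <;> rw [e]
        · exact hwT
        · exact mul_mem (h.mem T) hwT
      exact (hI _ _ hne w hwx hwT).elim hw1 hwz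
    obtain ⟨k, hk⟩ := IsPGroup.iff_orderOf.1 S.2 ⟨x, hxS⟩
    rw [Subgroup.orderOf_mk] at hk
    have hxT : x ∈ (T : Subgroup L) := SylInter.mem_sylow_of_normalizer T ⟨k, hk.dvd⟩ hxN
    have hxc : x ∈ center L := by
      rcases hI S T hT.symm x hxS hxT with e | e <;> rw [e]
      · exact one_mem _
      · exact h.cen
    exact ne_one_of_involution hu (hx' ▸ (QuotientGroup.eq_one_iff x).2 hxc)
  · obtain ⟨d, hd⟩ := isConj_iff.1 (isConj_of_odd_order ha' hw' ho)
    obtain ⟨g, rfl⟩ := QuotientGroup.mk'_surjective (center L) d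
    have he : ((g * a * g⁻¹ : L) : L ⧸ center L) = w := by
      rw [QuotientGroup.mk_mul, QuotientGroup.mk_mul, QuotientGroup.mk_inv]; exact hd
    have h2 : (g * a * g⁻¹) * (g * a * g⁻¹) = 1 := by rw [conj_mul, mul_self_eq_one ha, mul_one, mul_inv_cancel]
    refine h.z_ne (hw2 ▸ ?_)
    rcases h.mk_eq hX he with e | e <;> rw [e]
    · exact h2
    · rw [(h.z_comm _).symm.mul_mul_mul_comm, h.zz, one_mul, h2]

end Ctx

end CfsgLib.Inter10
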