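import Cfsg.Agent.Lib.Inter10.CoreCentre

/-!
If `z` is the only central involution of `K`, then the Sylow 2-subgroup is generated by involutions
central modulo `z` and has centre `⟨z⟩`: a central element of order four is killed by transfer.
-/

set_option autoImplicit false
set_option linter.style.haveILetI false
set_option linter.unusedSectionVars false

namespace CfsgLib.Inter10

open Subgroup CfsgLib.Involutions
open scoped commutatorElement

universe u

variable {L : Type u} [Group L] [Finite L] {z : L}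

namespace Ctx

variable (h : Ctx L z) {S : Sylow 2 L}
include h

/-- A central element of `S` has square one. -/
theorem sq_eq_one_of_central {a : L} (haS : a ∈ (S : Subgroup L))
    (hcen : ∀ x ∈ (S : Subgroup L), (∀ s ∈ (S : Subgroup L), Commute s x) → x ∈ zpowers a)
    (hac : ∀ s ∈ (S : Subgroup L), Commute s a)
    (hdec : ∀ s ∈ (S : Subgroup L), ∃ e ∈ Ksub z S, e⁻¹ * s ∈ zpowers a) {v : L} (hv : v ∈ Iset z S)
    (hv1 : v ≠ 1) (hvz : v ≠ z) : a * a = 1 := by
  haveI : Fact (Nat.Prime 2) := ⟨Nat.prime_two⟩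
  classical
  by_contra ha2
  obtain ⟨t, ht⟩ := IsPGroup.iff_orderOf.1 S.2 ⟨a, haS⟩
  rw [Subgroup.orderOf_mk] at ht
  have ht2 : 2 ≤ t := by
    by_contra hlt
    refine ha2 ?_
    rw [← pow_two]
    exact orderOf_dvd_iff_pow_eq_one.1 (ht ▸ (pow_dvd_pow 2 (by omega : t ≤ 1)).trans (by norm_num))
  have hzC : ∀ x ∈ zpowers a, x ∈ (S : Subgroup L) ∧ ∀ s ∈ (S : Subgroup L), Commute s x := by
    intro x hx
    obtain ⟨q, rfl⟩ := mem_zpowers_iff.1 hx
    exact ⟨(S : Subgroup L).zpow_mem haS q, fun s hs => (hac s hs).zpow_right q⟩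
  -- an element `i` of order four in `⟨a⟩`
  set i := a ^ 2 ^ (t - 2) with hidef
  have hio : orderOf (i * i) = 2 := by
    rw [hidef, ← pow_add, ← two_mul, ← pow_succ', orderOf_pow' _ (pow_ne_zero _ two_ne_zero), ht,
      Nat.gcd_eq_right (pow_dvd_pow 2 (by omega)), Nat.pow_div (by omega) two_pos,
      show t - (t - 2 + 1) = 1 by omega, pow_one]
  have hiC := hzC i (pow_mem (mem_zpowers a) _)
  have hi2 : i * i = z := by
    by_contra hne
    have hi2S : i * i ∈ (S : Subgroup L) := mul_mem hiC.1 hiC.1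
    obtain ⟨q, hq⟩ := mem_zpowers_iff.1 (hcen z (h.mem S) fun s _ => (h.z_comm s).symm)
    letI : Fintype (zpowers a) := Fintype.ofFinite _
    have h1 := IsCyclic.card_pow_eq_one_le (α := zpowers a) (n := 2) (by norm_num)
    let V : Finset (zpowers a) := {1, ⟨z, ⟨q, hq⟩⟩, ⟨i * i, mul_mem (pow_mem (mem_zpowers a) _) (pow_mem (mem_zpowers a) _)⟩}
    have hV : V.card = 3 := by
      simp [V, Subtype.ext_iff, h.z_ne.symm, (ne_one_of_involution hio).symm, Ne.symm hne]
    have h2 : V ⊆ Finset.univ.filter fun b => b ^ 2 = 1 := by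
      intro b hb
      simp only [V, Finset.mem_insert, Finset.mem_singleton] at hb
      rw [Finset.mem_filter]
      refine ⟨Finset.mem_univ _, Subtype.ext ?_⟩
      rcases hb with rfl | rfl | rfl
      · simp
      · simp [pow_two, h.zz]
      · simpa [pow_two] using mul_self_eq_one hio
    have := (Finset.card_le_card h2).trans h1
    omega
  -- every element of `S` commutes with an involution other than `z`
  have hwit : ∀ y ∈ (S : Subgroup L), ∃ w ∈ (S : Subgroup L), orderOf w = 2 ∧ w ≠ z ∧ Commute y w := by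
    intro y hy
    obtain ⟨e, he, hec⟩ := hdec y hy
    have hy' : y = e * (e⁻¹ * y) := by group
    have hvo : orderOf v = 2 := orderOf_eq_two_iff_mul.2 ⟨hv1, hv.2.1⟩
    by_cases hec' : ∀ s ∈ (S : Subgroup L), Commute s e
    · refine ⟨v, hv.1, hvo, hvz, ?_⟩
      rw [hy']
      exact ((hec' v hv.1).mul_right ((hzC _ hec).2 v hv.1)).symm
    have heS := h.ksub_le he
    obtain ⟨w, hwS, hw2, hwc, hwn⟩ : ∃ w ∈ (S : Subgroup L), w * w = 1 ∧ Commute y w ∧
        ¬ ∀ s ∈ (S : Subgroup L), Commute s w := by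
      rcases h.ksub_sq he with e1 | e1
      · exact ⟨e, heS, e1, by rw [hy']; exact (Commute.refl e).mul_left ((hzC _ hec).2 e heS).symm, hec'⟩
      · refine ⟨e * i, mul_mem heS hiC.1, by rw [(hiC.2 e heS).symm.mul_mul_mul_comm, e1, hi2, h.zz], ?_,
          fun hall => hec' fun s hs => ?_⟩
        · rw [hy']
          exact ((Commute.refl e).mul_right (hiC.2 e heS)).mul_left
            ((((hzC _ hec).2 e heS).symm).mul_right ((hzC _ hec).2 i hiC.1).symm)
        · have := (hall s hs).mul_right (hiC.2 s hs).inv_right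
          rwa [mul_inv_cancel_right] at this
    exact ⟨w, hwS, orderOf_eq_two_iff_mul.2 ⟨fun e1 => hwn fun s _ => e1 ▸ Commute.one_right s, hw2⟩,
      fun e1 => hwn fun s _ => e1 ▸ (h.z_comm s).symm, hwc⟩
  have key : ∀ (k : ℕ) (g : L), g⁻¹ * a ^ k * g ∈ (S : Subgroup L) → g⁻¹ * a ^ k * g = a ^ k := by
    intro k g hgS
    obtain ⟨w, hwS, hw, hwz, hwc⟩ := hwit _ hgS
    set y := g⁻¹ * a ^ k * g with hy
    have hU : ((g⁻¹ • S : Sylow 2 L) : Subgroup L) ≤ centralizer ({y} : Set L) := by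
      intro x hx
      rw [CentralSylow.mem_smul_iff, inv_inv] at hx
      have h2 := ((hac _ hx).pow_right k).map (MulAut.conj g⁻¹).toMonoidHom
      simp only [MulEquiv.coe_toMonoidHom, MulAut.conj_apply, inv_inv] at h2
      rw [show g⁻¹ * (g * x * g⁻¹) * g = x by group, ← hy] at h2
      exact mem_centralizer_singleton_iff.2 h2.eq
    obtain ⟨R, hR, hwR⟩ := CentralSylow.exists_sylow_le_of hU
      (P := zpowers w) (IsPGroup.of_card (n := 1) (by rw [Nat.card_zpowers, hw, pow_one]))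
      (zpowers_le.2 (mem_centralizer_singleton_iff.2 hwc.symm.eq))
    have hRS : R = S := h.uniq hw hwz (hwR (mem_zpowers w)) hwS
    subst hRS
    obtain ⟨c, hc, hcS⟩ := CentralSylow.exists_smul_eq_in hR hU
    have hn : g * c ∈ normalizer ((R : Subgroup L) : Set L) :=
      Sylow.smul_eq_iff_mem_normalizer.1 (by rw [mul_smul, hcS, smul_inv_smul])
    have hcy : Commute c y := mem_centralizer_singleton_iff.1 hc
    have hyc : ∀ s ∈ (R : Subgroup L), Commute s y := fun s hs => mem_centralizer_singleton_iff.1 (hR hs)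
    obtain ⟨q, hq⟩ := mem_zpowers_iff.1 (hcen y hgS hyc)
    have hna : (g * c) * a * (g * c)⁻¹ ∈ zpowers a := by
      refine hcen _ ((mem_normalizer_iff.1 hn a).1 haS) fun s hs => ?_
      have h1 : (g * c)⁻¹ * s * (g * c) ∈ (R : Subgroup L) := by
        have := (mem_normalizer_iff.1 (inv_mem hn) s).1 hs
        simpa using this
      have h2 := (hac _ h1).map (MulAut.conj (g * c)).toMonoidHom
      simpa [MulAut.conj_apply, mul_assoc] using h2
    obtain ⟨j, hj⟩ := mem_zpowers_iff.1 hna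
    have hfix := h.conj_eq_of_central haS hac hn hj.symm
    calc y = (g * c) * y * (g * c)⁻¹ := by
          rw [← hq, ← conj_zpow, hfix]
      _ = g * (c * y * c⁻¹) * g⁻¹ := by group
      _ = g * y * g⁻¹ := by rw [hcy.eq, mul_inv_cancel_right]
      _ = a ^ k := by rw [hy]; group
  have h1 := MonoidHom.transfer_eq_pow (Abelianization.of : (S : Subgroup L) →* _) a key
  rw [show MonoidHom.transfer (Abelianization.of : (S : Subgroup L) →* _) a = 1 from
    Abelianization.commutator_subset_ker _ (h.perfect ▸ mem_top a)] at h1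
  have hcomm : a ^ (S : Subgroup L).index ∈ ⁅(S : Subgroup L), (S : Subgroup L)⁆ := by
    have h2 := h1.symm
    rw [← MonoidHom.mem_ker, Abelianization.ker_of] at h2
    rw [← map_subtype_commutator]
    exact ⟨_, h2, rfl⟩
  have hle : ⁅(S : Subgroup L), (S : Subgroup L)⁆ ≤ zpowers z := Subgroup.commutator_le.2 fun s hs t ht => by
    obtain ⟨e, he, hec⟩ := hdec t ht
    have h2 : s * t * s⁻¹ = (s * e * s⁻¹) * (e⁻¹ * t) := by
      rw [show s * t * s⁻¹ = (s * e * s⁻¹) * (s * (e⁻¹ * t) * s⁻¹) by group, ((hzC _ hec).2 s hs).eq,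
        mul_inv_cancel_right]
    rw [commutatorElement_def, h2]
    rcases h.ksub_conj he s hs with e1 | e1 <;> rw [e1]
    · rw [show e * (e⁻¹ * t) * t⁻¹ = 1 by group]; exact one_mem _
    · rw [show z * e * (e⁻¹ * t) * t⁻¹ = z by group]; exact mem_zpowers z
  have hpow : (a ^ (S : Subgroup L).index) ^ 2 = 1 := by
    obtain ⟨q, hq⟩ := mem_zpowers_iff.1 (hle hcomm)
    rw [← hq, ← zpow_natCast, ← zpow_mul, mul_comm, zpow_mul, zpow_natCast, pow_two, h.zz, one_zpow]
  refine ha2 ?_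
  rw [← pow_mul, mul_comm, pow_mul, ← orderOf_dvd_iff_pow_eq_one] at hpow
  have hdvd : orderOf (a ^ 2) ∣ 2 ^ t := by
    refine orderOf_dvd_of_pow_eq_one ?_
    rw [← pow_mul, mul_comm, pow_mul, ← ht, pow_orderOf_eq_one, one_pow]
  rw [← pow_two, ← orderOf_eq_one_iff]
  exact Nat.eq_one_of_dvd_coprimes
    (((Nat.prime_two.coprime_iff_not_dvd).2 S.not_dvd_index).pow_left t) hdvd hpow

/-- `K` is the Sylow subgroup and its centre has order two. -/
theorem whole (hK : KSmall z S) : Ksub z S = (S : Subgroup L) ∧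
    ∀ x ∈ (S : Subgroup L), (∀ s ∈ (S : Subgroup L), Commute s x) → x = 1 ∨ x = z := by
  haveI : Fact (Nat.Prime 2) := ⟨Nat.prime_two⟩
  obtain ⟨v, hv, hv1, hvz⟩ := h.exists_iset (S := S)
  obtain ⟨E, hEK, hdec, hab⟩ := h.exists_frame (S := S)
  have hEnc : ∃ a ∈ E, ∃ b ∈ E, a * b ≠ b * a := by
    by_contra hcon
    push Not at hcon
    refine ((hK v (subset_closure hv) hv.2.1 fun k hk => ?_).elim hv1 hvz)
    obtain ⟨e, he, hec⟩ := hdec k (h.ksub_le hk)
    obtain ⟨f, hf, hfc⟩ := hdec v hv.1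
    have hvK : v ∈ Ksub z S := subset_closure hv
    have h1 : Commute (e⁻¹ * k) (f⁻¹ * v) :=
      hab _ (mul_mem (inv_mem (hEK he)) hk) _ (mul_mem (inv_mem (hEK hf)) hvK) hec hfc
    have h2 : Commute e f := hcon e he f hf
    have h3 : Commute (e * (e⁻¹ * k)) (f * (f⁻¹ * v)) :=
      (h2.mul_left (hec f hf)).mul_right ((hfc e he).symm.mul_left h1)
    rwa [mul_inv_cancel_left, mul_inv_cancel_left] at h3
  obtain ⟨p, hp, q, hq, hpq⟩ := hEnc
  obtain ⟨k₀, hk₀, hk₀2⟩ := h.exists_k0 hEK hp hq hpq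
  set C := (S : Subgroup L) ⊓ centralizer (E : Set L) with hC
  have hmemC : ∀ {x : L}, x ∈ C ↔ x ∈ (S : Subgroup L) ∧ ∀ e ∈ E, Commute x e := fun {x} => by
    rw [hC, mem_inf, mem_centralizer_iff]
    exact ⟨fun hx => ⟨hx.1, fun e he => (hx.2 e he).symm⟩, fun hx => ⟨hx.1, fun e he => (hx.2 e he).symm.eq⟩⟩
  have hdecC : ∀ s ∈ (S : Subgroup L), ∃ e ∈ E, e⁻¹ * s ∈ C := fun s hs => by
    obtain ⟨e, he, hec⟩ := hdec s hs
    exact ⟨e, he, hmemC.2 ⟨mul_mem (inv_mem (h.ksub_le (hEK he))) hs, hec⟩⟩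
  have hcomm := h.frame_comm hK hEK hdec hab hk₀ hk₀2
  have hcenC : ∀ x ∈ C, ∀ s ∈ (S : Subgroup L), Commute s x := by
    intro x hx s hs
    obtain ⟨e, he, hec⟩ := hdecC s hs
    have := ((hmemC.1 hx).2 e he).symm.mul_left (hcomm _ hec x hx)
    rwa [mul_inv_cancel_left] at this
  have honeInv : ∀ x ∈ C, x * x = 1 → x = 1 ∨ x = z := fun x hx h2 =>
    h.eq_z_of_centralized hK hEK hdec hab
      ⟨(hmemC.1 hx).1, h2, fun s hs => Or.inl (by rw [(hcenC x hx s hs).eq, mul_inv_cancel_right])⟩ (hmemC.1 hx).2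
  obtain ⟨a, ha⟩ := InvChar.exists_zpowers_eq_of_commute (S.2.to_le (inf_le_left : C ≤ (S : Subgroup L)))
    (fun u w hu hw => by
      rw [← Subgroup.orderOf_coe] at hu hw
      exact Subtype.ext (((honeInv u u.2 (mul_self_eq_one hu)).resolve_left (ne_one_of_involution hu)).trans
        ((honeInv w w.2 (mul_self_eq_one hw)).resolve_left (ne_one_of_involution hw)).symm))
    (⊤ : Subgroup C) fun u _ w _ => Subtype.ext (hcomm u u.2 w w.2).eq
  have haC : (a : L) ∈ C := a.2
  have hCa : ∀ x ∈ C, x ∈ zpowers (a : L) := fun x hx => by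
    obtain ⟨i, hi⟩ := mem_zpowers_iff.1 (ha ▸ mem_top (⟨x, hx⟩ : C))
    exact ⟨i, by simpa using congrArg Subtype.val hi⟩
  have ha2 : (a : L) * a = 1 := h.sq_eq_one_of_central (hmemC.1 haC).1
    (fun x hxS hx => hCa x (hmemC.2 ⟨hxS, fun e he => (hx e (h.ksub_le (hEK he))).symm⟩))
    (hcenC _ haC) (fun s hs => by
      obtain ⟨e, he, hec⟩ := hdecC s hs
      exact ⟨e, hEK he, hCa _ hec⟩) hv hv1 hvz
  have hCsmall : ∀ x ∈ C, x = 1 ∨ x = z := by
    intro x hx
    refine honeInv x hx ?_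
    obtain ⟨i, rfl⟩ := mem_zpowers_iff.1 (hCa x hx)
    rw [← (Commute.refl (a : L)).mul_zpow, ha2, one_zpow]
  refine ⟨le_antisymm h.ksub_le fun s hs => ?_, fun x hxS hx => hCsmall x (hmemC.2 ⟨hxS, fun e he => (hx e (h.ksub_le (hEK he))).symm⟩)⟩
  obtain ⟨e, he, hec⟩ := hdecC s hs
  have hzK : e⁻¹ * s ∈ Ksub z S := by
    rcases hCsmall _ hec with e1 | e1 <;> rw [e1]
    · exact one_mem _
    · exact subset_closure h.z_iset
  have := mul_mem (hEK he) hzK
  rwa [mul_inv_cancel_left] at this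

end Ctx

end CfsgLib.Inter10
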