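import Cfsg.Agent.Lib.Inter10.CoreAbelian
import Cfsg.Agent.Lib.Inter10.CoreWholeMain
import Cfsg.Agent.Lib.Inter10.CoreExtra

/-!
The core argument of S3310: a quasisimple group with a central involution in which a four-group lies
in one Sylow 2-subgroup only is of Bender type modulo the centre, and its Sylow 2-subgroups have
elementary abelian subgroups of order eight through the central involution.
-/

set_option autoImplicit false
set_option linter.style.haveILetI false
set_option linter.unusedSectionVars false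

namespace CfsgLib.Inter10

open Subgroup CfsgLib.Involutions

universe u

variable {L : Type u} [Group L] [Finite L] {z : L}

theorem Ctx.exists_adata (h : Ctx L z) (S : Sylow 2 L) (hK : ¬ KSmall z S) :
    ∃ A : Subgroup L, AData z S A := by
  rw [KSmall] at hK
  push Not at hK
  obtain ⟨x, hx, hx2, hxc, hx1, hxz⟩ := hK
  let A : Subgroup L :=
    { carrier := {a | a ∈ Ksub z S ∧ a * a = 1 ∧ ∀ k ∈ Ksub z S, Commute k a}
      one_mem' := ⟨one_mem _, one_mul 1, fun k _ => Commute.one_right k⟩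
      mul_mem' := fun {a b} ha hb => ⟨mul_mem ha.1 hb.1, by
          rw [(ha.2.2 b hb.1).mul_mul_mul_comm, ha.2.1, hb.2.1, one_mul],
        fun k hk => (ha.2.2 k hk).mul_right (hb.2.2 k hk)⟩
      inv_mem' := fun {a} ha => ⟨inv_mem ha.1, by rw [← mul_inv_rev, ha.2.1, inv_one],
        fun k hk => (ha.2.2 k hk).inv_right⟩ }
  refine ⟨A, ⟨fun a ha => h.ksub_le ha.1, fun a ha b hb => hb.2.2 a ha.1, fun a ha => ha.2.1,
    ⟨subset_closure h.z_iset, h.zz, fun k _ => (h.z_comm k).symm⟩, fun n hn a ha => ?_,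
    fun a ha s hs => h.ksub_conj ha.1 s hs, x, ⟨hx, hx2, hxc⟩, hx1, hxz⟩⟩
  refine ⟨h.ksub_invar hn ha.1, by rw [conj_mul, ha.2.1, mul_one, mul_inv_cancel], fun k hk => ?_⟩
  have h1 := (ha.2.2 _ (h.ksub_invar (inv_mem hn) hk)).map (MulAut.conj n).toMonoidHom
  simpa [MulAut.conj_apply, mul_assoc] using h1

theorem Ctx.not_ksmall (h : Ctx L z) (S : Sylow 2 L) : ¬ KSmall z S := fun hK =>
  h.extra_false (h.extra_of_whole S (h.whole hK).1 (h.whole hK).2)

theorem coreGoal : CoreGoal.{u} := by
  intro L _ _ hF hO hq z hz hzc hr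
  have h : Ctx L z := ⟨hF, hO, hq, hz, hzc, hr⟩
  obtain ⟨S⟩ : Nonempty (Sylow 2 L) := inferInstance
  obtain ⟨A, hA⟩ := h.exists_adata S (h.not_ksmall S)
  refine ⟨hA.isBender h, fun T => ?_⟩
  obtain ⟨B, hB⟩ := h.exists_adata T (h.not_ksmall T)
  exact hB.hasEight h

end CfsgLib.Inter10
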