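import Cfsg.Agent.Lib.Inter10.CoreBasic
import Cfsg.Agent.Lib.GammaRankOne.Two
import Cfsg.Agent.Lib.InvChar.UniqueInvolution
import Cfsg.Agent.Lib.Transfer.Basic

/-!
The subgroup `K` generated by the involutions of a Sylow 2-subgroup `S` which are central modulo `z`:
it has an involution other than `z`, and if `z` is its only central involution then it is the whole
of `S`, with centre of order two.
-/

set_option autoImplicit false
set_option linter.style.haveILetI false
set_option linter.unusedSectionVars false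

namespace CfsgLib.Inter10

open Subgroup CfsgLib.Involutions

universe u

variable {L : Type u} [Group L]

/-- The involutions of `S` central modulo `z`. -/
def Iset (z : L) (S : Sylow 2 L) : Set L :=
  {x | x ∈ (S : Subgroup L) ∧ x * x = 1 ∧ ∀ s ∈ (S : Subgroup L), s * x * s⁻¹ = x ∨ s * x * s⁻¹ = z * x}

/-- The subgroup they generate. -/
def Ksub (z : L) (S : Sylow 2 L) : Subgroup L := closure (Iset z S)

variable [Finite L] {z : L}

namespace Ctx

variable (h : Ctx L z) {S : Sylow 2 L}
include h

/-- No element of order four generates a subgroup of index two. -/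
theorem no_cyclic_half {u t : L} (hu : zpowers u ≤ (S : Subgroup L))
    (hi : (zpowers u).relIndex (S : Subgroup L) = 2) (ht : orderOf t = 2) (htz : t ≠ z)
    (hzu : z ∈ zpowers u) : False := by
  haveI : Group.IsPerfect L := h.qs.1
  suffices hcl : ∀ g : L, g * t * g⁻¹ ∈ zpowers u → False by
    obtain ⟨M, -, hM, -⟩ := Transfer.thompson_transfer S (zpowers u) hi t
      (by rw [pow_two, mul_self_eq_one ht]) fun g _ hgu => hcl g hgu
    exact GWCons.RankOneCover.index_ne_two M hM
  intro g hgu
  refine htz ?_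
  · have e : g * t * g⁻¹ = z := by
      have : IsCyclic (zpowers u) := inferInstance
      classical
      letI : Fintype (zpowers u) := Fintype.ofFinite _
      by_contra hne
      have h1 := IsCyclic.card_pow_eq_one_le (α := zpowers u) (n := 2) (by norm_num)
      let V : Finset (zpowers u) := {1, ⟨z, hzu⟩, ⟨g * t * g⁻¹, hgu⟩}
      have hV : V.card = 3 := by
        have q1 : g * t * g⁻¹ ≠ 1 := ne_one_of_involution ((orderOf_conj_eq g t).trans ht)
        simp [V, Subtype.ext_iff, h.z_ne.symm, q1.symm, Ne.symm hne]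
      have h2 : V ⊆ Finset.univ.filter fun a => a ^ 2 = 1 := by
        intro a ha
        simp only [V, Finset.mem_insert, Finset.mem_singleton] at ha
        rw [Finset.mem_filter]
        refine ⟨Finset.mem_univ _, Subtype.ext ?_⟩
        rcases ha with rfl | rfl | rfl
        · simp
        · simp [pow_two, h.zz]
        · simp [pow_two, mul_self_eq_one ht]
      have := (Finset.card_le_card h2).trans h1
      omega
    rw [show t = g⁻¹ * (g * t * g⁻¹) * g by group, e, mul_assoc, (h.z_comm g).eq, inv_mul_cancel_left]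

theorem exists_iset : ∃ v ∈ Iset z S, v ≠ 1 ∧ v ≠ z := by
  haveI : Fact (Nat.Prime 2) := ⟨Nat.prime_two⟩
  obtain ⟨t, htS, ht, htz⟩ := h.exists_inv_mem S
  rcases GammaRankOne.structure_or_four S.2 (⊤ : Subgroup (S : Subgroup L)) with
    ⟨w, y, -, -, hwc, hw2, hy2, hw1, hy1, hyw, hy⟩ | hone | ⟨k, m, y, c, hm, -, -, hyM, -, hy2, hcy, hc, hcov⟩
  · have hwS : ∀ s ∈ (S : Subgroup L), s * (w : L) * s⁻¹ = w := fun s hs => by
      have := congrArg Subtype.val (mem_center_iff.1 hwc ⟨s, hs⟩)
      simp only [Subgroup.coe_mul] at this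
      rw [this, mul_inv_cancel_right]
    by_cases hwz : (w : L) = z
    · refine ⟨y, ⟨y.2, congrArg Subtype.val hy2, fun s hs => ?_⟩, fun e => hy1 (Subtype.ext e),
        fun e => hyw (Subtype.ext (e.trans hwz.symm))⟩
      rcases hy ⟨s, hs⟩ with e | e
      · exact Or.inl (congrArg Subtype.val e)
      · exact Or.inr (hwz ▸ congrArg Subtype.val e)
    · exact ⟨w, ⟨w.2, congrArg Subtype.val hw2, fun s hs => Or.inl (hwS s hs)⟩, fun e => hw1 (Subtype.ext e), hwz⟩
  · exact absurd (congrArg Subtype.val (hone ⟨t, htS⟩ (mem_top _) ⟨z, h.mem S⟩ (mem_top _)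
      (Subtype.ext (mul_self_eq_one ht)) (fun e => ne_one_of_involution ht (congrArg Subtype.val e))
      (Subtype.ext h.zz) (fun e => h.z_ne (congrArg Subtype.val e)) (Subtype.ext (h.z_comm t).symm.eq))) htz
  · exfalso
    have hidx : (zpowers m).index = 2 := by
      rw [index_eq_two_iff]
      refine ⟨y, fun b => ?_⟩
      rcases hcov b (mem_top b) with hb | hb
      · exact Or.inr ⟨hb, fun h1 => hyM ((mul_mem_cancel_left hb).1 h1)⟩
      · refine Or.inl ⟨?_, fun hb' => hyM ?_⟩
        · have e : b * y = b * y⁻¹ := by rw [inv_eq_of_mul_eq_one_right hy2]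
          rwa [e]
        · have := (mul_mem_cancel_left hb').1 hb
          simpa using this
    have hmap : (zpowers m).map (S : Subgroup L).subtype = zpowers (m : L) := MonoidHom.map_zpowers _ _
    have hri : (zpowers (m : L)).relIndex (S : Subgroup L) = 2 := by
      have e : (zpowers (m : L)).subgroupOf (S : Subgroup L) = zpowers m := by
        rw [← hmap]; exact comap_map_eq_self_of_injective (S : Subgroup L).subtype_injective _
      show ((zpowers (m : L)).subgroupOf (S : Subgroup L)).index = 2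
      rw [e]; exact hidx
    -- `z` lies in `⟨m⟩`
    have hzM : (⟨z, h.mem S⟩ : (S : Subgroup L)) ∈ zpowers m := by
      rcases hcov ⟨z, h.mem S⟩ (mem_top _) with hb | hb
      · exact hb
      · exfalso
        obtain ⟨i, hi⟩ := mem_zpowers_iff.1 hb
        have hzy : y = m ^ (-i) * ⟨z, h.mem S⟩ := by rw [zpow_neg, hi]; group
        have hcz : Commute (⟨z, h.mem S⟩ : (S : Subgroup L)) m := Subtype.ext (h.z_comm m).eq
        have hfix : y * m * y⁻¹ = m := by
          rw [hzy, show m ^ (-i) * ⟨z, h.mem S⟩ * m * (m ^ (-i) * ⟨z, h.mem S⟩)⁻¹ =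
            m ^ (-i) * ((⟨z, h.mem S⟩ : (S : Subgroup L)) * m * (⟨z, h.mem S⟩ : (S : Subgroup L))⁻¹) * (m ^ (-i))⁻¹ by
            group, hcz.eq, mul_inv_cancel_right]
          group
        rw [hcy] at hfix
        have h1 : ((2 ^ (k + 2) : ℕ) : ℤ) ∣ 1 - c := (GammaRankOne.zp hm).1 (by rw [zpow_one]; exact hfix)
        push_cast at h1
        rcases hc with rfl | ⟨hk, rfl⟩
        · have h4 : (4 : ℤ) ∣ 2 := by
            refine ((show (4 : ℤ) = 2 ^ 2 by norm_num) ▸ pow_dvd_pow 2 (by omega : 2 ≤ k + 2)).trans ?_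
            simpa using h1
          norm_num at h4
        · have h4 : (4 : ℤ) ∣ 2 ^ (k + 2) := (show (4 : ℤ) = 2 ^ 2 by norm_num) ▸ pow_dvd_pow 2 (by omega)
          have h5 : (4 : ℤ) ∣ 2 ^ (k + 1) := (show (4 : ℤ) = 2 ^ 2 by norm_num) ▸ pow_dvd_pow 2 (by omega)
          have h6 := h4.trans h1
          omega
    refine h.no_cyclic_half (zpowers_le.2 m.2) hri ht htz ?_
    obtain ⟨i, hi⟩ := mem_zpowers_iff.1 hzM
    exact ⟨i, by simpa using congrArg Subtype.val hi⟩

theorem ksub_le : Ksub z S ≤ (S : Subgroup L) := (closure_le _).2 fun _ hx => hx.1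

theorem z_iset : z ∈ Iset z S :=
  ⟨h.mem S, h.zz, fun s _ => Or.inl (h.conj_z s)⟩

theorem ksub_conj {x : L} (hx : x ∈ Ksub z S) :
    ∀ s ∈ (S : Subgroup L), s * x * s⁻¹ = x ∨ s * x * s⁻¹ = z * x := by
  induction hx using closure_induction with
  | mem y hy => exact hy.2.2
  | one => exact fun s _ => Or.inl (by group)
  | mul a b _ _ ha hb =>
    intro s hs
    have e : s * (a * b) * s⁻¹ = (s * a * s⁻¹) * (s * b * s⁻¹) := by group
    rw [e]
    rcases ha s hs with e1 | e1 <;> rcases hb s hs with e2 | e2 <;> rw [e1, e2]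
    · exact Or.inl rfl
    · exact Or.inr (by rw [← mul_assoc, ← (h.z_comm a).eq, mul_assoc])
    · exact Or.inr (mul_assoc _ _ _)
    · exact Or.inl (by rw [(h.z_comm a).symm.mul_mul_mul_comm, h.zz, one_mul])
  | inv a _ ha =>
    intro s hs
    rw [← conj_inv]
    rcases ha s hs with e1 | e1 <;> rw [e1]
    · exact Or.inl rfl
    · exact Or.inr (by rw [mul_inv_rev, inv_eq_of_mul_eq_one_right h.zz, (h.z_comm a).inv_right.eq])

theorem ksub_sq {x : L} (hx : x ∈ Ksub z S) : x * x = 1 ∨ x * x = z := by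
  induction hx using closure_induction with
  | mem y hy => exact Or.inl hy.2.1
  | one => exact Or.inl (one_mul 1)
  | mul a b hamem hbmem ha hb =>
    have e : a * b * (a * b) = a * (b * a * b⁻¹) * (b * b) := by group
    have hz2 : ∀ u : L, u = 1 ∨ u = z → z * u = 1 ∨ z * u = z := by
      rintro u (rfl | rfl)
      · exact Or.inr (mul_one z)
      · exact Or.inl h.zz
    have key : ∀ u v : L, (u = 1 ∨ u = z) → (v = 1 ∨ v = z) → u * v = 1 ∨ u * v = z := by
      rintro u v (rfl | rfl) hv
      · rwa [one_mul]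
      · exact hz2 v hv
    rw [e]
    rcases h.ksub_conj hamem b (h.ksub_le hbmem) with e1 | e1 <;> rw [e1]
    · exact key _ _ ha hb
    · refine key _ _ ?_ hb
      rw [← mul_assoc, ← (h.z_comm a).eq, mul_assoc]
      exact hz2 _ ha
  | inv a _ ha =>
    rw [← mul_inv_rev]
    rcases ha with e | e <;> rw [e]
    · exact Or.inl inv_one
    · exact Or.inr (inv_eq_of_mul_eq_one_right h.zz)

theorem ksub_invar {n : L} (hn : n ∈ normalizer ((S : Subgroup L) : Set L)) {x : L} (hx : x ∈ Ksub z S) :
    n * x * n⁻¹ ∈ Ksub z S := by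
  induction hx using closure_induction with
  | mem y hy =>
    refine subset_closure ⟨(mem_normalizer_iff.1 hn y).1 hy.1, by rw [conj_mul, hy.2.1, mul_one, mul_inv_cancel], fun s hs => ?_⟩
    have h1 : n⁻¹ * s * n ∈ (S : Subgroup L) := by
      have := (mem_normalizer_iff.1 (inv_mem hn) s).1 hs
      simpa using this
    have e : s * (n * y * n⁻¹) * s⁻¹ = n * ((n⁻¹ * s * n) * y * (n⁻¹ * s * n)⁻¹) * n⁻¹ := by group
    rw [e]
    rcases hy.2.2 _ h1 with e1 | e1 <;> rw [e1]
    · exact Or.inl rfl
    · exact Or.inr (by rw [← mul_assoc n, ← (h.z_comm n).eq]; group)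
  | one => rw [mul_one, mul_inv_cancel]; exact one_mem _
  | mul a b _ _ ha hb =>
    rw [show n * (a * b) * n⁻¹ = (n * a * n⁻¹) * (n * b * n⁻¹) by group]
    exact mul_mem ha hb
  | inv a _ ha =>
    rw [← conj_inv]
    exact inv_mem ha

end Ctx

end CfsgLib.Inter10
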