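import Cfsg.Agent.Lib.Inter10.CoreShape
import Cfsg.Agent.Lib.Schur.Basic

/-!
If `z` is the only central involution of `K` then `K` is the Sylow 2-subgroup and its centre has
order two: otherwise a transfer gives a proper quotient.
-/

set_option autoImplicit false
set_option linter.style.haveILetI false
set_option linter.unusedSectionVars false

namespace CfsgLib.Inter10

open Subgroup CfsgLib.Involutions
open scoped commutatorElement

universe u

variable {L : Type u} [Group L] [Finite L] {z : L}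

/-- `z` is the only central involution of `K`. -/
def KSmall (z : L) (S : Sylow 2 L) : Prop :=
  ∀ x ∈ Ksub z S, x * x = 1 → (∀ k ∈ Ksub z S, Commute k x) → x = 1 ∨ x = z

namespace Ctx

variable (h : Ctx L z) {S : Sylow 2 L}
include h

theorem exists_k0 {E : Subgroup L} (hE : E ≤ Ksub z S) {a b : L} (ha : a ∈ E) (hb : b ∈ E)
    (hab : a * b ≠ b * a) : ∃ k₀ ∈ E, k₀ * k₀ = z := by
  rcases h.ksub_sq (hE ha) with e1 | e1
  swap
  · exact ⟨a, ha, e1⟩
  rcases h.ksub_sq (hE hb) with e2 | e2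
  swap
  · exact ⟨b, hb, e2⟩
  refine ⟨a * b, mul_mem ha hb, ?_⟩
  rcases h.ksub_conj (hE ha) b (h.ksub_le (hE hb)) with e3 | e3
  · exact absurd (mul_inv_eq_iff_eq_mul.1 e3).symm hab
  · rw [inv_eq_of_mul_eq_one_right e2] at e3
    calc a * b * (a * b) = a * (b * a * b) := by group
      _ = a * (z * a) := by rw [e3]
      _ = z * (a * a) := by rw [← mul_assoc, ← (h.z_comm a).eq, mul_assoc]
      _ = z := by rw [e1, mul_one]

/-- A subgroup `E` of `K` with `S = E C(E)` and abelian centraliser in `K`. -/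
theorem exists_frame : ∃ E : Subgroup L, E ≤ Ksub z S ∧
    (∀ s ∈ (S : Subgroup L), ∃ e ∈ E, ∀ x ∈ E, Commute (e⁻¹ * s) x) ∧
    (∀ a ∈ Ksub z S, ∀ b ∈ Ksub z S, (∀ x ∈ E, Commute a x) → (∀ x ∈ E, Commute b x) → Commute a b) := by
  obtain ⟨E, ⟨hEK, hdec⟩, hmax⟩ := Set.Finite.exists_maximal
    (s := {E : Subgroup L | E ≤ Ksub z S ∧
      ∀ s ∈ (S : Subgroup L), ∃ e ∈ E, ∀ x ∈ E, Commute (e⁻¹ * s) x}) (Set.toFinite _)
    ⟨⊥, bot_le, fun s _ => ⟨1, one_mem _, fun x hx => by rw [mem_bot.1 hx]; exact Commute.one_right _⟩⟩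
  refine ⟨E, hEK, hdec, fun a ha b hb haE hbE => by_contra fun hab => ?_⟩
  set E' := E ⊔ closure ({a, b} : Set L) with hE'
  have haE' : a ∈ E' := mem_sup_right (subset_closure (Set.mem_insert _ _))
  have hbE' : b ∈ E' := mem_sup_right (subset_closure (Set.mem_insert_of_mem _ rfl))
  have hab1 : a * b * a⁻¹ = z * b := (h.ksub_conj hb a (h.ksub_le ha)).resolve_left fun e => hab (mul_inv_eq_iff_eq_mul.1 e)
  have hba1 : b * a * b⁻¹ = z * a := (h.ksub_conj ha b (h.ksub_le hb)).resolve_left fun e => hab (mul_inv_eq_iff_eq_mul.1 e).symm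
  have hz' : ∀ x : L, z * (z * x) = x := fun x => by rw [← mul_assoc, h.zz, one_mul]
  have hle : E' ≤ E := by
    refine hmax ⟨sup_le hEK ((closure_le _).2 (Set.insert_subset ha (Set.singleton_subset_iff.2 hb))),
      fun s hs => ?_⟩ le_sup_left
    obtain ⟨e, he, hec⟩ := hdec s hs
    set c := e⁻¹ * s with hc
    have hcS : c ∈ (S : Subgroup L) := mul_mem (inv_mem (h.ksub_le (hEK he))) hs
    -- multiply by `b` to fix `a`
    obtain ⟨w₁, hw₁, hw₁E, hw₁a⟩ : ∃ w ∈ closure ({a, b} : Set L),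
        (∀ x ∈ E, Commute w x) ∧ w⁻¹ * c * a * (w⁻¹ * c)⁻¹ = a := by
      rcases h.ksub_conj ha c hcS with e1 | e1
      · exact ⟨1, one_mem _, fun x _ => Commute.one_left x, by simpa using e1⟩
      · refine ⟨b, subset_closure (Set.mem_insert_of_mem _ rfl), hbE, ?_⟩
        rw [show b⁻¹ * c * a * (b⁻¹ * c)⁻¹ = b⁻¹ * (c * a * c⁻¹) * b by group, e1, ← hba1]
        group
    set d := w₁⁻¹ * c with hd
    have hdS : d ∈ (S : Subgroup L) := mul_mem (inv_mem (h.ksub_le ((closure_le _).2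
      (Set.insert_subset ha (Set.singleton_subset_iff.2 hb)) hw₁))) hcS
    obtain ⟨w₂, hw₂, hw₂E, hw₂a, hw₂b⟩ : ∃ w ∈ closure ({a, b} : Set L),
        (∀ x ∈ E, Commute w x) ∧ Commute w a ∧ w⁻¹ * d * b * (w⁻¹ * d)⁻¹ = b := by
      rcases h.ksub_conj hb d hdS with e1 | e1
      · exact ⟨1, one_mem _, fun x _ => Commute.one_left x, Commute.one_left a, by simpa using e1⟩
      · refine ⟨a, subset_closure (Set.mem_insert _ _), haE, Commute.refl a, ?_⟩
        rw [show a⁻¹ * d * b * (a⁻¹ * d)⁻¹ = a⁻¹ * (d * b * d⁻¹) * a by group, e1, ← hab1]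
        group
    refine ⟨e * (w₁ * w₂), mul_mem (mem_sup_left he) (mem_sup_right (mul_mem hw₁ hw₂)), ?_⟩
    set g := w₂⁻¹ * d with hg
    have hgs : (e * (w₁ * w₂))⁻¹ * s = g := by rw [hg, hd, hc]; group
    rw [hgs]
    have hgE : ∀ x ∈ E, Commute g x := fun x hx =>
      (hw₂E x hx).inv_left.mul_left ((hw₁E x hx).inv_left.mul_left (hec x hx))
    have hga : Commute g a := hw₂a.inv_left.mul_left (mul_inv_eq_iff_eq_mul.1 hw₁a)
    have hgb : Commute g b := mul_inv_eq_iff_eq_mul.1 hw₂b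
    intro x hx
    have hle2 : E' ≤ centralizer ({g} : Set L) :=
      sup_le (fun y hy => mem_centralizer_singleton_iff.2 (hgE y hy).symm.eq) ((closure_le _).2
        (Set.insert_subset (mem_centralizer_singleton_iff.2 hga.symm.eq)
          (Set.singleton_subset_iff.2 (mem_centralizer_singleton_iff.2 hgb.symm.eq))))
    exact (mem_centralizer_singleton_iff.1 (hle2 hx) : x * g = g * x).symm
  exact hab (hbE a (hle haE')).symm

theorem eq_of_iset (hK : KSmall z S) {E : Subgroup L} (hEK : E ≤ Ksub z S)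
    (hdec : ∀ s ∈ (S : Subgroup L), ∃ e ∈ E, ∀ x ∈ E, Commute (e⁻¹ * s) x)
    (hab : ∀ a ∈ Ksub z S, ∀ b ∈ Ksub z S, (∀ x ∈ E, Commute a x) → (∀ x ∈ E, Commute b x) → Commute a b)
    {x : L} (hx : x ∈ Ksub z S) (hxE : ∀ e ∈ E, Commute x e) :
    (∀ k ∈ Ksub z S, Commute k x) ∧ (x * x = 1 → x = 1 ∨ x = z) := by
  have hc : ∀ k ∈ Ksub z S, Commute k x := by
    intro k hk
    obtain ⟨e, he, hec⟩ := hdec k (h.ksub_le hk)
    have h1 : Commute (e⁻¹ * k) x := hab _ (mul_mem (inv_mem (hEK he)) hk) x hx hec hxE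
    have h2 := (hxE e he).symm.mul_left h1
    rwa [mul_inv_cancel_left] at h2
  exact ⟨hc, fun h2 => hK x hx h2 hc⟩

/-- An element of order four central modulo `z` is centralised, by transfer. -/
theorem false_of_inverted (hK : KSmall z S) {E : Subgroup L} (hEK : E ≤ Ksub z S)
    (hdec : ∀ s ∈ (S : Subgroup L), ∃ e ∈ E, ∀ x ∈ E, Commute (e⁻¹ * s) x)
    (hab : ∀ a ∈ Ksub z S, ∀ b ∈ Ksub z S, (∀ x ∈ E, Commute a x) → (∀ x ∈ E, Commute b x) → Commute a b)
    {k₀ : L} (hk₀ : k₀ ∈ E) (hk₀2 : k₀ * k₀ = z) {i y : L} (hiS : i ∈ (S : Subgroup L))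
    (hiE : ∀ e ∈ E, Commute i e) (hi2 : i * i = z)
    (hi : ∀ s ∈ (S : Subgroup L), (∀ e ∈ E, Commute s e) → s * i * s⁻¹ = i ∨ s * i * s⁻¹ = z * i)
    (hyS : y ∈ (S : Subgroup L)) (hyE : ∀ e ∈ E, Commute y e) (hy2 : y * y = 1 ∨ y * y = z)
    (hyi : y * i * y⁻¹ = z * i) : False := by
  haveI : Fact (Nat.Prime 2) := ⟨Nat.prime_two⟩
  -- `i` lies in `K`
  have hki : k₀ * i ∈ Iset z S := by
    refine ⟨mul_mem (h.ksub_le (hEK hk₀)) hiS, ?_, fun s hs => ?_⟩
    · rw [(hiE k₀ hk₀).mul_mul_mul_comm, hk₀2, hi2, h.zz]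
    · obtain ⟨e, he, hec⟩ := hdec s hs
      have hcS : e⁻¹ * s ∈ (S : Subgroup L) := mul_mem (inv_mem (h.ksub_le (hEK he))) hs
      have e1 : s * (k₀ * i) * s⁻¹ = (s * k₀ * s⁻¹) * (e * ((e⁻¹ * s) * i * (e⁻¹ * s)⁻¹) * e⁻¹) := by group
      rw [e1]
      have e2 : e * i * e⁻¹ = i := by rw [(hiE e he).symm.eq, mul_inv_cancel_right]
      have e3 : e * (z * i) * e⁻¹ = z * i := by
        rw [show e * (z * i) * e⁻¹ = (e * z * e⁻¹) * (e * i * e⁻¹) by group, h.conj_z, e2]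
      rcases h.ksub_conj (hEK hk₀) s hs with a1 | a1 <;> rcases hi _ hcS hec with a2 | a2 <;> rw [a1, a2]
      · exact Or.inl (by rw [e2])
      · exact Or.inr (by rw [e3, ← mul_assoc, ← (h.z_comm k₀).eq, mul_assoc])
      · exact Or.inr (by rw [e2, mul_assoc])
      · exact Or.inl (by rw [e3, (h.z_comm k₀).symm.mul_mul_mul_comm, h.zz, one_mul])
  have hiK : i ∈ Ksub z S := by
    have := mul_mem (inv_mem (hEK hk₀)) (subset_closure hki : k₀ * i ∈ Ksub z S)
    rwa [inv_mul_cancel_left] at this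
  have hicen := (h.eq_of_iset hK hEK hdec hab hiK hiE).1
  -- the index two subgroup
  set Q := (S : Subgroup L) ⊓ centralizer ({i} : Set L) with hQ
  have hQi : Q.relIndex (S : Subgroup L) = 2 := by
    show (Q.subgroupOf (S : Subgroup L)).index = 2
    rw [index_eq_two_iff]
    refine ⟨⟨y, hyS⟩, fun b => ?_⟩
    have hmem : ∀ w : (S : Subgroup L), w ∈ Q.subgroupOf (S : Subgroup L) ↔ (w : L) * i * (w : L)⁻¹ = i := by
      intro w
      rw [mem_subgroupOf, hQ, mem_inf, mem_centralizer_singleton_iff, mul_inv_eq_iff_eq_mul]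
      exact ⟨fun h => h.2, fun h => ⟨w.2, h⟩⟩
    rw [xor_comm]
    have hne : z * i ≠ i := fun e => h.z_ne (mul_eq_right.1 e)
    have hby : ((b * ⟨y, hyS⟩ : (S : Subgroup L)) : L) * i * ((b * ⟨y, hyS⟩ : (S : Subgroup L)) : L)⁻¹ =
        z * ((b : L) * i * (b : L)⁻¹) := by
      show (b : L) * y * i * ((b : L) * y)⁻¹ = _
      rw [show (b : L) * y * i * ((b : L) * y)⁻¹ = (b : L) * (y * i * y⁻¹) * (b : L)⁻¹ by group, hyi,
        show (b : L) * (z * i) * (b : L)⁻¹ = ((b : L) * z * (b : L)⁻¹) * ((b : L) * i * (b : L)⁻¹) by group,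
        h.conj_z]
    rcases h.ksub_conj hiK b b.2 with e | e
    · exact Or.inl ⟨(hmem _).2 e, fun h1 => hne (by rw [← e, ← hby]; exact ((hmem _).1 h1).trans e.symm)⟩
    · exact Or.inr ⟨(hmem _).2 (by rw [hby, e, ← mul_assoc, h.zz, one_mul]), fun h1 => hne (e.symm.trans ((hmem _).1 h1))⟩
  -- the involution outside
  obtain ⟨t, htS, ht2, hti⟩ : ∃ t ∈ (S : Subgroup L), t * t = 1 ∧ t * i * t⁻¹ = z * i := by
    rcases hy2 with e | e
    · exact ⟨y, hyS, e, hyi⟩
    · refine ⟨k₀ * y, mul_mem (h.ksub_le (hEK hk₀)) hyS, by rw [(hyE k₀ hk₀).mul_mul_mul_comm, hk₀2, e, h.zz], ?_⟩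
      rw [show k₀ * y * i * (k₀ * y)⁻¹ = k₀ * (y * i * y⁻¹) * k₀⁻¹ by group, hyi,
        show k₀ * (z * i) * k₀⁻¹ = (k₀ * z * k₀⁻¹) * (k₀ * i * k₀⁻¹) by group, h.conj_z,
        (hiE k₀ hk₀).symm.eq, mul_inv_cancel_right]
  have hti' : ¬ Commute t i := fun hc => by
    rw [hc.eq, mul_inv_cancel_right] at hti
    exact h.z_ne (mul_eq_right.1 hti.symm)
  have ht1 : t ≠ 1 := fun e => hti' (e ▸ Commute.one_left i)
  have htz : t ≠ z := fun e => hti' (e ▸ h.z_comm i)
  have hto : orderOf t = 2 := orderOf_eq_two_iff_mul.2 ⟨ht1, ht2⟩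
  haveI : Group.IsPerfect L := h.qs.1
  obtain ⟨M, -, hM, -⟩ := Transfer.thompson_transfer S Q hQi t (by rw [pow_two, ht2]) fun g hgS hgQ => by
    -- `g` normalises `S` and fixes `i` up to `z`
    have hgN : g ∈ normalizer ((S : Subgroup L) : Set L) := by
      refine Sylow.smul_eq_iff_mem_normalizer.1 (h.uniq ((orderOf_conj_eq g t).trans hto) (fun e => htz ?_)
        (CentralSylow.conj_mem_smul htS) hgS)
      rw [show t = g⁻¹ * (g * t * g⁻¹) * g by group, e, mul_assoc, (h.z_comm g).eq, inv_mul_cancel_left]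
    have hgi : g⁻¹ * i * g = i ∨ g⁻¹ * i * g = z * i := by
      set j := g⁻¹ * i * g with hj
      have hjK : j ∈ Ksub z S := by simpa using h.ksub_invar (inv_mem hgN) hiK
      have hjc : ∀ k ∈ Ksub z S, Commute k j := by
        intro k hk
        have h1 : g * k * g⁻¹ ∈ Ksub z S := h.ksub_invar hgN hk
        have h2 := (hicen _ h1).map (MulAut.conj g⁻¹).toMonoidHom
        simpa [MulAut.conj_apply, mul_assoc, hj] using h2
      have hj2 : j * j = z := by
        rw [hj, show g⁻¹ * i * g * (g⁻¹ * i * g) = g⁻¹ * (i * i) * g by group, hi2, mul_assoc,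
          (h.z_comm g).eq, inv_mul_cancel_left]
      have hji : (j * i) * (j * i) = 1 := by rw [(hjc i hiK).mul_mul_mul_comm, hj2, hi2, h.zz]
      rcases hK (j * i) (mul_mem hjK hiK) hji (fun k hk => (hjc k hk).mul_right (hicen k hk)) with e | e
      · right
        calc j = (j * i) * i⁻¹ := by group
          _ = i⁻¹ := by rw [e, one_mul]
          _ = z * i := inv_eq_of_mul_eq_one_right (by rw [← mul_assoc, ← (h.z_comm i).eq, mul_assoc, hi2, h.zz])
      · left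
        calc j = (j * i) * i⁻¹ := by group
          _ = z * i⁻¹ := by rw [e]
          _ = i := by rw [← hi2, mul_inv_cancel_right]
    refine hti' ?_
    have h1 : Commute (g * t * g⁻¹) i := mem_centralizer_singleton_iff.1 hgQ.2
    have h2 := h1.map (MulAut.conj g⁻¹).toMonoidHom
    simp only [MulEquiv.coe_toMonoidHom, MulAut.conj_apply, inv_inv] at h2
    rw [show g⁻¹ * (g * t * g⁻¹) * g = t by group] at h2
    rcases hgi with e | e
    · rwa [e] at h2
    · rw [e] at h2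
      have h3 := (h.z_comm t).symm.mul_right h2
      rwa [← mul_assoc, h.zz, one_mul] at h3
  exact GWCons.RankOneCover.index_ne_two M hM

theorem conj_eq_of_central {a : L} (haS : a ∈ (S : Subgroup L))
    (hac : ∀ s ∈ (S : Subgroup L), Commute s a) {n : L} (hn : n ∈ normalizer ((S : Subgroup L) : Set L))
    {j : ℤ} (hj : n * a * n⁻¹ = a ^ j) : n * a * n⁻¹ = a := by
  haveI : Fact (Nat.Prime 2) := ⟨Nat.prime_two⟩
  obtain ⟨b, m, hm, hbm⟩ := Nat.exists_eq_pow_mul_and_not_dvd (orderOf_pos n).ne' 2 (by norm_num)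
  have hmS : n ^ m ∈ (S : Subgroup L) := SylInter.mem_sylow_of_normalizer S ⟨b, orderOf_dvd_of_pow_eq_one (by
    rw [← pow_mul, mul_comm, ← hbm, pow_orderOf_eq_one])⟩ (pow_mem hn m)
  obtain ⟨t, ht⟩ := IsPGroup.iff_orderOf.1 S.2 ⟨a, haS⟩
  rw [Subgroup.orderOf_mk] at ht
  rcases Nat.eq_zero_or_pos t with rfl | ht0
  · rw [pow_zero, orderOf_eq_one_iff] at ht
    rw [ht, mul_one, mul_inv_cancel]
  have hit : ∀ e : ℕ, n ^ e * a * (n ^ e)⁻¹ = a ^ (j ^ e) := by
    intro e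
    induction e with
    | zero => simp
    | succ e ih =>
      rw [pow_succ' n, pow_succ' j, zpow_mul, ← hj, conj_zpow, ← ih]
      group
  have h1 : a ^ (j ^ m) = a ^ (1 : ℤ) := by
    rw [← hit, zpow_one, (hac _ hmS).eq, mul_inv_cancel_right]
  rw [zpow_eq_zpow_iff_modEq, ht, Int.modEq_iff_dvd] at h1
  have hjodd : Odd j := by
    by_contra he
    rw [Int.not_odd_iff_even, even_iff_two_dvd] at he
    have hm0 : m ≠ 0 := fun e => hm (e ▸ dvd_zero 2)
    have h2 : (2 : ℤ) ∣ 1 - j ^ m :=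
      ((dvd_pow_self (2 : ℤ) (by omega : t ≠ 0))).trans (by exact_mod_cast h1)
    have h3 := dvd_add h2 (dvd_pow he hm0)
    norm_num at h3
  have hsum : ¬ (2 : ℤ) ∣ ∑ i ∈ Finset.range m, j ^ i := by
    intro h2
    have h3 : ((∑ i ∈ Finset.range m, j ^ i : ℤ) : ZMod 2) = 0 := (ZMod.intCast_zmod_eq_zero_iff_dvd _ 2).2 h2
    obtain ⟨r, rfl⟩ := hjodd
    have e2 : (2 : ZMod 2) = 0 := rfl
    push_cast at h3
    simp [e2] at h3
    exact hm ((ZMod.natCast_eq_zero_iff _ _).1 h3)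
  have hcop : IsCoprime ((2 : ℤ) ^ t) (∑ i ∈ Finset.range m, j ^ i) :=
    ((Int.prime_two.coprime_iff_not_dvd).2 hsum).pow_left
  have h4 : (2 : ℤ) ^ t ∣ j - 1 := by
    refine hcop.dvd_of_dvd_mul_left ?_
    rw [geom_sum_mul]
    have := dvd_neg.2 h1
    push_cast at this
    simpa using this
  rw [hj]
  conv_rhs => rw [← zpow_one a]
  rw [zpow_eq_zpow_iff_modEq, ht, Int.modEq_iff_dvd]
  push_cast
  rw [← dvd_neg]; simpa using h4

end Ctx

end CfsgLib.Inter10
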