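import Cfsg.Agent.Lib.SylInter.Basic
import Cfsg.Agent.Lib.CentralSylow.Basic
import Cfsg.Agent.Lib.BenderQ.Classify
import Cfsg.Agent.Lib.InvChar.SylowInter
import Cfsg.Agent.Lib.GWCons.RankOneCover
import Cfsg.Prelude.Def_CaseTheorems
import Cfsg.Prelude.Def_Sporadic

/-!
Groups in which a Klein four-group lies in one Sylow 2-subgroup only (S3310): the definitions and the
first consequences.
-/

set_option autoImplicit false
set_option linter.style.haveILetI false
set_option linter.unusedSectionVars false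

namespace CfsgLib.Inter10

open Subgroup Pointwise CfsgLib.Involutions

universe u

variable {G : Type u} [Group G]

/-- A Klein four-group lies in one Sylow 2-subgroup only. -/
def FourUnique (G : Type u) [Group G] : Prop :=
  ∀ (S T : Sylow 2 G) (s t : G), orderOf s = 2 → orderOf t = 2 → s ≠ t → Commute s t →
    s ∈ (S : Subgroup G) → t ∈ (S : Subgroup G) → s ∈ (T : Subgroup G) → t ∈ (T : Subgroup G) → S = T

/-- An elementary abelian subgroup of order at least eight through `z`. -/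
def HasEight (P : Subgroup G) (z : G) : Prop :=
  ∃ E : Subgroup G, E ≤ P ∧ z ∈ E ∧ IsMulCommutative E ∧ (∀ e ∈ E, e * e = 1) ∧ 8 ≤ Nat.card E

variable [Finite G]

theorem fourUnique_of_inter
    (h : ∀ S T : Sylow 2 G, S ≠ T → Cfsg.PRankLE 2 1 ↥((S : Subgroup G) ⊓ (T : Subgroup G))) :
    FourUnique G := by
  intro S T s t hs ht hne hc hsS htS hsT htT
  by_contra hST
  have hs' : s ∈ (S : Subgroup G) ⊓ (T : Subgroup G) := ⟨hsS, hsT⟩
  have ht' : t ∈ (S : Subgroup G) ⊓ (T : Subgroup G) := ⟨htS, htT⟩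
  have h1 := CfsgLib.GWCons.RankOneCover.eq_of_rankLE (h S T hST) ⟨s, hs'⟩ ⟨t, ht'⟩
    ((Subgroup.orderOf_mk s hs').trans hs) ((Subgroup.orderOf_mk t ht').trans ht) (Subtype.ext hc.eq)
  exact hne (congrArg Subtype.val h1)

theorem FourUnique.subgroup (h : FourUnique G) (K : Subgroup G) : FourUnique ↥K := by
  haveI : Fact (Nat.Prime 2) := ⟨Nat.prime_two⟩
  intro S T s t hs ht hne hc hsS htS hsT htT
  obtain ⟨S', hS'⟩ := (S.2.map K.subtype).exists_le_sylow
  obtain ⟨T', hT'⟩ := (T.2.map K.subtype).exists_le_sylow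
  have e : S' = T' := h S' T' s t ((orderOf_injective K.subtype Subtype.val_injective s).trans hs)
    ((orderOf_injective K.subtype Subtype.val_injective t).trans ht) (fun e => hne (Subtype.ext e))
    (congrArg Subtype.val hc.eq) (hS' ⟨s, hsS, rfl⟩) (hS' ⟨t, htS, rfl⟩) (hT' ⟨s, hsT, rfl⟩)
    (hT' ⟨t, htT, rfl⟩)
  subst e
  have hp : IsPGroup 2 ↥((S' : Subgroup G).subgroupOf K) := S'.2.comap_subtype
  have h1 := S.is_maximal' hp fun x hx => mem_subgroupOf.2 (hS' ⟨x, hx, rfl⟩)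
  have h2 := T.is_maximal' hp fun x hx => mem_subgroupOf.2 (hT' ⟨x, hx, rfl⟩)
  exact Sylow.ext (h1.symm.trans h2)

/-- The normaliser of a subgroup containing a four-group normalises its Sylow 2-subgroup. -/
theorem FourUnique.normalizer_le (h : FourUnique G) {S : Sylow 2 G} {R : Subgroup G}
    (hR : R ≤ (S : Subgroup G)) {s t : G} (hs : orderOf s = 2) (ht : orderOf t = 2) (hne : s ≠ t)
    (hc : Commute s t) (hsR : s ∈ R) (htR : t ∈ R) :
    normalizer (R : Set G) ≤ normalizer ((S : Subgroup G) : Set G) := by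
  intro g hg
  refine Sylow.smul_eq_iff_mem_normalizer.1 (h (g • S) S s t hs ht hne hc ?_ ?_ (hR hsR) (hR htR))
  · rw [CentralSylow.mem_smul_iff]
    exact hR (by simpa using (mem_set_normalizer_iff.1 (inv_mem hg) s).1 hsR)
  · rw [CentralSylow.mem_smul_iff]
    exact hR (by simpa using (mem_set_normalizer_iff.1 (inv_mem hg) t).1 htR)

theorem FourUnique.quotient (h : FourUnique G) (O : Subgroup G) [O.Normal] (hO : Odd (Nat.card O)) :
    FourUnique (G ⧸ O) := by
  haveI : Fact (Nat.Prime 2) := ⟨Nat.prime_two⟩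
  intro S T s t hs ht hne hc hsS htS hsT htT
  by_contra hST
  obtain ⟨S₁, T₁, U, hne1, hU, hmap⟩ := CfsgLib.InvChar.exists_sylow_lift_inf O S T hST
  obtain ⟨a, haU, rfl⟩ : s ∈ U.map (QuotientGroup.mk' O) := hmap ▸ ⟨hsS, hsT⟩
  obtain ⟨b, hbU, rfl⟩ : t ∈ U.map (QuotientGroup.mk' O) := hmap ▸ ⟨htS, htT⟩
  have hinj : ∀ x ∈ U, QuotientGroup.mk' O x = 1 → x = 1 := by
    intro x hx h1
    have h2 : x ∈ (S₁ : Subgroup G) := (hU hx).1
    obtain ⟨k, hk⟩ := IsPGroup.iff_orderOf.1 S₁.2 ⟨x, h2⟩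
    rw [Subgroup.orderOf_mk] at hk
    exact orderOf_eq_one_iff.1 (Nat.eq_one_of_dvd_coprimes
      ((Nat.coprime_two_left.2 hO).pow_left k) (hk ▸ dvd_rfl)
      (Subgroup.orderOf_dvd_natCard O ((QuotientGroup.eq_one_iff x).1 h1)))
  have lift : ∀ x ∈ U, orderOf (QuotientGroup.mk' O x) = 2 → orderOf x = 2 := by
    intro x hx h2
    refine orderOf_eq_two_iff_mul.2 ⟨fun e => ?_, hinj _ (mul_mem hx hx) ?_⟩
    · rw [e, map_one, orderOf_one] at h2
      exact absurd h2 (by norm_num)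
    · rw [map_mul]; exact mul_self_eq_one h2
  have hab : Commute a b := commutatorElement_eq_one_iff_mul_comm.1
    (hinj _ (mul_mem (mul_mem (mul_mem haU hbU) (inv_mem haU)) (inv_mem hbU))
      (by rw [map_commutatorElement]; exact commutatorElement_eq_one_iff_mul_comm.2 hc.eq))
  exact hne1 (h S₁ T₁ a b (lift a haU hs) (lift b hbU ht) (fun e => hne (congrArg _ e)) hab
    (hU haU).1 (hU hbU).1 (hU haU).2 (hU hbU).2)

/-- Quasisimple groups with a central involution, no core and a four-group: the target of the core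
argument. -/
def CoreGoal : Prop :=
  ∀ (L : Type u) [Group L] [Finite L], FourUnique L → Cfsg.oddCore L = ⊥ → Cfsg.IsQuasisimple L →
    ∀ z : L, orderOf z = 2 → z ∈ center L → ¬ Cfsg.PRankLE 2 1 L →
      CfsgLib.BenderQ.IsBenderType (L ⧸ center L) ∧
        ∀ S : Sylow 2 L, HasEight (S : Subgroup L) z

/-- The groups of the classification of simple groups with central intersections of 2-rank at most one. -/
def Listed (W : Type u) [Group W] : Prop :=
  (∃ (n : ℕ) (F : Type) (_ : Field F) (_ : Fintype F), 2 ≤ n ∧ Fintype.card F = 2 ^ n ∧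
      Nonempty (W ≃* Matrix.ProjectiveSpecialLinearGroup (Fin 2) F)) ∨
  (∃ (m : ℕ) (F : Type) (_ : Field F) (_ : Fintype F), 1 ≤ m ∧ Fintype.card F = 2 ^ (2 * m + 1) ∧
      Nonempty (W ≃* ↥(Cfsg.Lie.Sz F (2 ^ (m + 1))))) ∨
  (∃ (n : ℕ) (F : Type) (_ : Field F) (_ : Fintype F), 2 ≤ n ∧ Fintype.card F = 4 ^ n ∧
      Nonempty (W ≃* Cfsg.PSU 3 F (2 ^ n))) ∨
  (∃ (F : Type) (_ : Field F) (_ : Fintype F), (Fintype.card F % 8 = 3 ∨ Fintype.card F % 8 = 5) ∧
      5 < Fintype.card F ∧ Nonempty (W ≃* Matrix.ProjectiveSpecialLinearGroup (Fin 2) F)) ∨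
  Cfsg.IsJ1 W

/-- A simple group of the list, or a double cover with an elementary abelian subgroup of order eight. -/
def Kind (L : Type u) [Group L] : Prop :=
  (center L = ⊥ ∧ Listed L) ∨
    (∃ z : L, orderOf z = 2 ∧ z ∈ center L ∧ CfsgLib.BenderQ.IsBenderType (L ⧸ center L) ∧
      ∀ S : Sylow 2 L, HasEight (S : Subgroup L) z)

/-- No outer automorphism of 2-power order: a normal subgroup of known kind and its centraliser
contain the Sylow 2-subgroups. -/
def OuterGoal : Prop :=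
  ∀ (G : Type u) [Group G] [Finite G], FourUnique G → Cfsg.oddCore G = ⊥ →
    ∀ L : Subgroup G, L.Normal → Cfsg.IsQuasisimple L → Kind L → ¬ Cfsg.PRankLE 2 1 L →
      ∀ S : Sylow 2 G, ((S : Subgroup G) ⊓ L) ⊔ ((S : Subgroup G) ⊓ centralizer (L : Set G)) = S

end CfsgLib.Inter10
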