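import Cfsg.Agent.Lib.Inter10.OuterRank
import Cfsg.Agent.Lib.RootConnect.UnitaryEnd
import Cfsg.Agent.Lib.BenderQ.Rows
import Cfsg.Agent.Lib.RootSz.Models

/-!
In `PSL₂(2^n)` and in `PSU₃(2^n)` the centraliser of an involution centralises the involutions
commuting with it.
-/

set_option autoImplicit false
set_option linter.style.haveILetI false
set_option linter.unusedSectionVars false

namespace CfsgLib.Inter10

open Matrix CfsgLib.ClassicalGroups

universe u

/-- In `SL₂`, two elements commuting with a non-scalar one commute. -/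
theorem sl_two_commute {F : Type*} [Field F] {M N K : SpecialLinearGroup (Fin 2) F}
    (hM : M ∉ Subgroup.center (SpecialLinearGroup (Fin 2) F)) (hN : Commute M N) (hK : Commute M K) :
    Commute N K := by
  have e : ∀ {A B : SpecialLinearGroup (Fin 2) F}, Commute A B ↔ A.1 * B.1 = B.1 * A.1 :=
    fun {A B} => ⟨fun h => congrArg Subtype.val h.eq, fun h => Subtype.ext h⟩
  rw [e] at hN hK ⊢
  have n00 := congrFun (congrFun hN 0) 0
  have n01 := congrFun (congrFun hN 0) 1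
  have n10 := congrFun (congrFun hN 1) 0
  have k00 := congrFun (congrFun hK 0) 0
  have k01 := congrFun (congrFun hK 0) 1
  have k10 := congrFun (congrFun hK 1) 0
  simp only [Matrix.mul_apply, Fin.sum_univ_two] at n00 n01 n10 k00 k01 k10
  have hne : M.1 0 1 ≠ 0 ∨ M.1 1 0 ≠ 0 ∨ M.1 0 0 - M.1 1 1 ≠ 0 := by
    by_contra h
    push Not at h
    obtain ⟨h1, h2, h3⟩ := h
    refine hM (Subgroup.mem_center_iff.2 fun X => Subtype.ext ?_)
    show X.1 * M.1 = M.1 * X.1
    ext i j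
    fin_cases i <;> fin_cases j <;>
      simp [Matrix.mul_apply, Fin.sum_univ_two, h1, h2, sub_eq_zero.1 h3, mul_comm]
  ext i j
  fin_cases i <;> fin_cases j <;> simp [Matrix.mul_apply, Fin.sum_univ_two]
  all_goals
    rcases hne with h | h | h <;> apply mul_left_cancel₀ h <;> grobner

theorem centComm_sl_two {F : Type*} [Field F] (hZ : Subgroup.center (SpecialLinearGroup (Fin 2) F) = ⊥) :
    ∀ a b g : SpecialLinearGroup (Fin 2) F, orderOf a = 2 → orderOf b = 2 → Commute a b →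
      Commute g a → Commute g b := fun a b g ha _ hab hga =>
  sl_two_commute (M := a) (fun h => by
    rw [hZ, Subgroup.mem_bot] at h
    rw [h, orderOf_one] at ha
    omega) hga.symm hab

section unitary

open CfsgLib.RootConnect.UnitaryEnd

variable {F : Type*} [Field F] {q : ℕ} [ExpChar F 2]

local notation "V" => (Fin 3 → F)

theorem mulVec_eq (g : Cfsg.SU 3 F q) (v : V) : g.1.1 *ᵥ v = v + mv g v := by
  rw [mv, ← add_assoc, add_comm v, add_assoc, add_self, add_zero]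

/-- In `SU₃`, commuting involutions are scalar multiples of each other, less the identity. -/
theorem exists_smul_mv (hq : ∃ n, q = 2 ^ n) {a b : Cfsg.SU 3 F q} (ha : a * a = 1) (hb : b * b = 1)
    (ha1 : a ≠ 1) (hab : Commute a b) : ∃ t : F, ∀ v, mv b v = t • mv a v := by
  obtain ⟨u₀, hu₀⟩ : ∃ u, mv a u ≠ 0 := by
    by_contra h
    push Not at h
    refine ha1 (Subtype.ext (Subtype.ext (Matrix.toLin'.injective (LinearMap.ext fun v => ?_))))
    rw [Matrix.toLin'_apply, Matrix.toLin'_apply, mulVec_eq, h, add_zero, mulVec_one']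
  set r := mv a u₀ with hr
  obtain ⟨i₀, hi₀⟩ := Function.ne_iff.1 hu₀
  have hi : r i₀ ≠ 0 := hi₀
  have hpar : ∀ x : V, Dep r x → x = (x i₀ / r i₀) • r := fun x hx => funext fun j => by
    rw [Pi.smul_apply, smul_eq_mul, div_mul_eq_mul_div, eq_div_iff hi, mul_comm (x j), hx i₀ j, mul_comm]
  obtain ⟨n, rfl⟩ := hq
  have hl : ∀ (c : F) (x y : V), Cfsg.hermForm 3 F (2 ^ n) (c • x) y = c * Cfsg.hermForm 3 F (2 ^ n) x y :=
    fun c x y => by simp [Cfsg.hermForm, Finset.mul_sum, mul_assoc]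
  have hrr : ∀ (c : F) (x y : V),
      Cfsg.hermForm 3 F (2 ^ n) x (c • y) = c ^ 2 ^ n * Cfsg.hermForm 3 F (2 ^ n) x y :=
    fun c x y => by simp [Cfsg.hermForm, Finset.mul_sum, mul_pow, mul_left_comm]
  obtain ⟨w₀, hw₀⟩ : ∃ w, Cfsg.hermForm 3 F (2 ^ n) r w ≠ 0 :=
    ⟨Pi.single i₀ 1, by simpa [Cfsg.hermForm, Fin.sum_univ_three, Pi.single_apply,
      ite_pow] using (show r i₀ ≠ 0 from hi)⟩
  have key : ∀ (g : Cfsg.SU 3 F (2 ^ n)), g * g = 1 → Commute a g → ∀ u,
      (mv g u i₀ / r i₀) * Cfsg.hermForm 3 F (2 ^ n) r w₀ =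
        (mv g w₀ i₀ / r i₀) ^ 2 ^ n * Cfsg.hermForm 3 F (2 ^ n) u r := by
    intro g hg hag u
    have h1 := form_mv ⟨n, rfl⟩ hg u w₀
    rwa [hpar (mv g u) (hr ▸ dep_of_commute ⟨n, rfl⟩ ha hg hag u₀ u),
      hpar (mv g w₀) (hr ▸ dep_of_commute ⟨n, rfl⟩ ha hg hag u₀ w₀), hl, hrr] at h1
  set α := (mv a w₀ i₀ / r i₀) ^ 2 ^ n
  set γ := (mv b w₀ i₀ / r i₀) ^ 2 ^ n
  have hα : α ≠ 0 := fun h0 => by
    have h1 := key a ha (Commute.refl a) u₀
    rw [show (mv a w₀ i₀ / r i₀) ^ 2 ^ n = 0 from h0, zero_mul, ← hr, div_self hi, one_mul] at h1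
    exact hw₀ h1
  refine ⟨γ / α, fun v => ?_⟩
  rw [hpar (mv b v) (hr ▸ dep_of_commute ⟨n, rfl⟩ ha hb hab u₀ v),
    hpar (mv a v) (hr ▸ dep_of_commute ⟨n, rfl⟩ ha ha (Commute.refl a) u₀ v), smul_smul]
  congr 1
  refine mul_right_cancel₀ hw₀ ?_
  rw [mul_assoc, key b hb hab v, key a ha (Commute.refl a) v]
  show (mv b w₀ i₀ / r i₀) ^ 2 ^ n * _ = γ / α * (α * _)
  rw [← mul_assoc (γ / α), div_mul_cancel₀ γ hα]

theorem centComm_su (hq : ∃ n, q = 2 ^ n) {a b g : Cfsg.SU 3 F q} (ha : a * a = 1) (hb : b * b = 1)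
    (ha1 : a ≠ 1) (hab : Commute a b) (hga : Commute g a) : Commute g b := by
  obtain ⟨t, ht⟩ := exists_smul_mv hq ha hb ha1 hab
  have h1 : ∀ v, g.1.1 *ᵥ mv a v = mv a (g.1.1 *ᵥ v) := fun v => by
    rw [mv, mv, mulVec_add, ← mulVec_mul, hga.eq, mulVec_mul]
  refine Subtype.ext (Subtype.ext (Matrix.toLin'.injective (LinearMap.ext fun v => ?_)))
  rw [Matrix.toLin'_apply, Matrix.toLin'_apply]
  rw [mulVec_mul, mulVec_mul, mulVec_eq b, mulVec_eq b, mulVec_add, ht, ht, mulVec_smul, h1]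

end unitary

/-- The centraliser property in `PSU₃(2^n)`. -/
theorem centComm_psu {F : Type} [Field F] [Fintype F] {n : ℕ} (hn : 1 ≤ n)
    (hF : Fintype.card F = (2 ^ n) ^ 2) :
    ∀ a b g : Cfsg.PSU 3 F (2 ^ n), orderOf a = 2 → orderOf b = 2 → Commute a b → Commute g a →
      Commute g b := by
  haveI : Fact (Nat.Prime 2) := ⟨Nat.prime_two⟩
  haveI : CharP F 2 := charP_of_card_eq_prime_pow (f := n * 2) (by rw [hF, pow_mul])
  haveI : ExpChar F 2 := ExpChar.prime Nat.prime_two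
  intro a b g ha hb hab hga
  set Z := Subgroup.center (Cfsg.SU 3 F (2 ^ n)) with hZ
  set π := QuotientGroup.mk' Z
  have hz3 : ∀ z ∈ Z, z ^ 3 = 1 := fun z hz => by
    have h := Subgroup.orderOf_dvd_natCard _ hz
    rw [hZ, card_center_SU hF (by norm_num)] at h
    exact orderOf_dvd_iff_pow_eq_one.1 (h.trans (Nat.gcd_dvd_left _ _))
  have hlift : ∀ t : Cfsg.PSU 3 F (2 ^ n), orderOf t = 2 → ∃ x, π x = t ∧ x * x = 1 := by
    intro t ht
    obtain ⟨x, rfl⟩ := QuotientGroup.mk'_surjective Z t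
    have h2 : π x * π x = 1 := Involutions.mul_self_eq_one ht
    refine ⟨x ^ 3, ?_, ?_⟩
    · rw [map_pow, pow_succ, pow_two, h2, one_mul]
    · rw [← pow_add, show 3 + 3 = 2 * 3 from rfl, pow_mul, pow_two,
        hz3 _ ((QuotientGroup.eq_one_iff _).1 ((map_mul π x x).trans h2))]
  have hcomm : ∀ x y : Cfsg.SU 3 F (2 ^ n), y * y = 1 → Commute (π x) (π y) → Commute x y := by
    intro x y hy hxy
    have hz : x * y * x⁻¹ * y⁻¹ ∈ Z := (QuotientGroup.eq_one_iff _).1 (by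
      show π (x * y * x⁻¹ * y⁻¹) = 1
      simp only [map_mul, map_inv, hxy.eq]
      group)
    set z := x * y * x⁻¹ * y⁻¹ with hzdef
    have h1 : x * y * x⁻¹ = z * y := by rw [hzdef]; group
    have hcz : y * z = z * y := Subgroup.mem_center_iff.1 hz y
    have h2 : z * z = 1 := by
      have h3 : x * y * x⁻¹ * (x * y * x⁻¹) = 1 := by rw [conj_mul, hy, mul_one, mul_inv_cancel]
      rw [h1, show z * y * (z * y) = z * (y * z) * y by group, hcz, show z * (z * y) * y = z * z * (y * y) by group,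
        hy, mul_one] at h3
      exact h3
    have h3 := hz3 z hz
    rw [pow_succ, pow_two, h2, one_mul] at h3
    rw [h3, one_mul] at h1
    exact mul_inv_eq_iff_eq_mul.1 h1
  obtain ⟨x, rfl, hx⟩ := hlift a ha
  obtain ⟨y, rfl, hy⟩ := hlift b hb
  obtain ⟨w, rfl⟩ := QuotientGroup.mk'_surjective Z g
  exact (centComm_su ⟨n, rfl⟩ hx hy (fun e => by rw [e, map_one, orderOf_one] at ha; omega)
    (hcomm x y hy hab) (hcomm w x hx hga)).map π

variable {W : Type u} [Group W] [Finite W]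

theorem centComm_of_psl {F : Type} [Field F] [Fintype F] {n : ℕ}
    (hF : Fintype.card F = 2 ^ n) (e : W ≃* Matrix.ProjectiveSpecialLinearGroup (Fin 2) F) : CentComm W := by
  haveI : Fact (Nat.Prime 2) := ⟨Nat.prime_two⟩
  haveI : CharP F 2 := charP_of_card_eq_prime_pow hF
  letI : DecidableEq F := Classical.decEq F
  obtain ⟨f⟩ := BenderQ.nonempty_sl_equiv_psl F
  exact CentComm.of_equiv (e.trans f) (centComm_sl_two StrongEmbedding.PSLTwo.center_sl_two_eq_bot)

theorem centComm_of_psu {F : Type} [Field F] [Fintype F] {n : ℕ} (hn : 1 ≤ n)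
    (hF : Fintype.card F = (2 ^ n) ^ 2) (e : W ≃* Cfsg.PSU 3 F (2 ^ n)) : CentComm W :=
  CentComm.of_equiv e (centComm_psu hn hF)

/-- The order of `PSU₃(q)`. -/
theorem card_psu {F : Type} [Field F] [Fintype F] {n : ℕ} (hF : Fintype.card F = (2 ^ n) ^ 2)
    (e : W ≃* Cfsg.PSU 3 F (2 ^ n)) : ∃ d, 0 < d ∧ d ≤ 3 ∧
      Nat.card W * d = (2 ^ n) ^ 3 * (((2 ^ n) ^ 3 + 1) * ((2 ^ n) ^ 2 - 1)) := by
  refine ⟨Nat.gcd 3 (2 ^ n + 1), Nat.gcd_pos_of_pos_left _ (by norm_num),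
    Nat.le_of_dvd (by norm_num) (Nat.gcd_dvd_left _ _), ?_⟩
  rw [Nat.card_congr e.toEquiv, ← PGUThree.card_SU_three (F := F) hF, ← card_center_SU hF (by norm_num),
    card_SU_eq_center_mul_PSU, mul_comm]

end CfsgLib.Inter10
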