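import Cfsg.Agent.Lib.UThreeSylow.Struct

/-!
Automorphisms of a Sylow 2-subgroup of `PSU₃(q)` that fix its centre.
-/

set_option autoImplicit false
set_option linter.style.haveILetI false
set_option linter.unusedSectionVars false

namespace CfsgLib.Inter10.UTAut

open Subgroup CfsgLib.InvCharSixtyFour CfsgLib.UThreeSylow

variable {T : Type*} [Group T] [Finite T] {q : ℕ}

theorem mem_center_of_sq (h : UT T q) {x : T} : x ∈ center T ↔ x * x = 1 :=
  ⟨h.center_sq x, h.sq_one x⟩

theorem cm_mul_right (h : UT T q) (u x y : T) : cm u (x * y) = cm u x * cm u y := by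
  have h1 := mem_center_iff.1 (h.cm_mem u y) x
  calc cm u (x * y) = u * x * u⁻¹ * cm u y * x⁻¹ := by unfold cm; group
    _ = u * x * u⁻¹ * (x⁻¹ * (x * cm u y) * x⁻¹) := by group
    _ = u * x * u⁻¹ * (x⁻¹ * (cm u y * x) * x⁻¹) := by rw [h1]
    _ = _ := by unfold cm; group

theorem commute_iff_cm {u x : T} : cm u x = 1 ↔ Commute u x := by
  unfold cm
  rw [mul_inv_eq_one, mul_inv_eq_iff_eq_mul]
  exact Iff.rfl

variable {β : MulAut T}

/-- A point fixed modulo the centre commutes with every commutator with the automorphism. -/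
theorem commute_fix (h : UT T q) (hβ : ∀ z ∈ center T, β z = z) {u : T} (hu : u⁻¹ * β u ∈ center T)
    (x : T) : Commute u (x⁻¹ * β x) := by
  have h1 : β (cm u x) = cm (β u) (β x) := by simp only [cm, map_mul, map_inv]
  rw [hβ _ (h.cm_mem u x)] at h1
  have h2 : cm (β u) (β x) = cm u (β x) := by
    have hc := mem_center_iff.1 hu (β x)
    unfold cm
    calc β u * β x * (β u)⁻¹ * (β x)⁻¹
        = u * ((u⁻¹ * β u) * β x) * (u⁻¹ * β u)⁻¹ * u⁻¹ * (β x)⁻¹ := by group
      _ = u * (β x * (u⁻¹ * β u)) * (u⁻¹ * β u)⁻¹ * u⁻¹ * (β x)⁻¹ := by rw [hc]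
      _ = _ := by group
  have h3 := cm_mul_right h u x (x⁻¹ * β x)
  rw [mul_inv_cancel_left, ← h2, ← h1, left_eq_mul] at h3
  exact commute_iff_cm.1 h3

/-- The product of the images under the first powers. -/
def orbitProd (β : MulAut T) (x : T) : ℕ → T
  | 0 => 1
  | i + 1 => orbitProd β x i * (β ^ i) x

/-- An invariant homomorphism of exponent two that kills the points fixed modulo the centre is trivial. -/
theorem hom_eq_one (h : UT T q) {o : ℕ} (ho : Odd o) (hβo : β ^ o = 1) (χ : T → T)
    (hmul : ∀ x y, χ (x * y) = χ x * χ y) (hval : ∀ x, χ x * χ x = 1) (hinv : ∀ x, χ (β x) = χ x)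
    (hfix : ∀ w, w⁻¹ * β w ∈ center T → χ w = 1) (x : T) : χ x = 1 := by
  have hχ1 : χ 1 = 1 := by
    have h1 := hmul 1 1
    rw [one_mul, hval] at h1
    exact h1
  have hpow : ∀ i : ℕ, χ ((β ^ i) x) = χ x := by
    intro i
    induction i with
    | zero => simp
    | succ i ih => rw [pow_succ', MulAut.mul_apply, hinv, ih]
  have hP : ∀ i, χ (orbitProd β x i) = χ x ^ i := by
    intro i
    induction i with
    | zero => simpa [orbitProd] using hχ1
    | succ i ih => rw [orbitProd, hmul, ih, hpow, pow_succ]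
  have hsh : ∀ i, x * β (orbitProd β x i) = orbitProd β x (i + 1) := by
    intro i
    induction i with
    | zero => simp [orbitProd]
    | succ i ih =>
      rw [show orbitProd β x (i + 1) = orbitProd β x i * (β ^ i) x from rfl, map_mul, ← mul_assoc, ih,
        ← MulAut.mul_apply, ← pow_succ']
      rfl
  set P := orbitProd β x o with hPdef
  have hb : β P = x⁻¹ * P * x := by
    have h1 := hsh o
    rw [show orbitProd β x (o + 1) = P * x by rw [orbitProd, hβo]; rfl] at h1
    rw [mul_assoc, ← h1, inv_mul_cancel_left]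
  have h1 : χ P = 1 := hfix P (by
    rw [hb, show P⁻¹ * (x⁻¹ * P * x) = cm P⁻¹ x⁻¹ by unfold cm; group]
    exact h.cm_mem _ _)
  obtain ⟨l, rfl⟩ := ho
  rw [hP, pow_succ, pow_mul, pow_two, hval, one_pow, one_mul] at h1
  exact h1

/-- An automorphism of odd order fixing the centre and some non-central point modulo the centre acts
trivially modulo the centre. -/
theorem mod_center_of_fixed (h : UT T q) (hβ : ∀ z ∈ center T, β z = z) {o : ℕ} (ho : Odd o)
    (hβo : β ^ o = 1) {u : T} (huc : u ∉ center T) (hu : u⁻¹ * β u ∈ center T) (x : T) :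
    x⁻¹ * β x ∈ center T := by
  by_contra hx
  refine huc (mem_center_iff.2 fun g => ?_)
  have h1 := hom_eq_one h ho hβo (fun y => cm u y) (cm_mul_right h u)
    (fun y => h.center_sq _ (h.cm_mem _ _)) (fun y => by
      have e := cm_mul_right h u y (y⁻¹ * β y)
      rw [mul_inv_cancel_left, commute_iff_cm.2 (commute_fix h hβ hu y), mul_one] at e
      exact e) (fun w hw => commute_iff_cm.2
        (h.cent_comm _ u w hx (commute_fix h hβ hu x).symm (commute_fix h hβ hw x).symm)) g
  exact (commute_iff_cm.1 h1).eq.symm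

/-- An automorphism of odd order fixing the centre and trivial modulo it is trivial. -/
theorem eq_self_of_mod_center (h : UT T q) (hβ : ∀ z ∈ center T, β z = z) {o : ℕ} (ho : Odd o)
    (hβo : β ^ o = 1) (hmod : ∀ x, x⁻¹ * β x ∈ center T) (x : T) : β x = x := by
  have hpow : ∀ i : ℕ, (β ^ i) x = x * (x⁻¹ * β x) ^ i := by
    intro i
    induction i with
    | zero => simp
    | succ i ih => rw [pow_succ', MulAut.mul_apply, ih, map_mul, map_pow, hβ _ (hmod x), pow_succ',
        ← mul_assoc, mul_inv_cancel_left]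
  have h1 := hpow o
  rw [hβo, MulAut.one_apply, left_eq_mul] at h1
  obtain ⟨l, rfl⟩ := ho
  rw [pow_succ, pow_mul, pow_two, h.center_sq _ (hmod x), one_pow, one_mul, inv_mul_eq_one] at h1
  exact h1.symm

variable {τ : MulAut T}

/-- An automorphism trivial modulo the centre commuting with a fixed-point-free one is trivial. -/
theorem eq_self_of_fpf (h : UT T q) (hτ : ∀ z ∈ center T, τ z = z) (hβ : ∀ z ∈ center T, β z = z)
    {o : ℕ} (ho : Odd o) (hβo : β ^ o = 1) (hmod : ∀ x, x⁻¹ * τ x ∈ center T)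
    (hcomm : ∀ x, τ (β x) = β (τ x)) (hfpf : ∀ w, w⁻¹ * β w ∈ center T → w ∈ center T) (x : T) :
    τ x = x := by
  have h1 := hom_eq_one h ho hβo (fun y => y⁻¹ * τ y) (fun a b => by
      rw [map_mul, mul_inv_rev, show b⁻¹ * a⁻¹ * (τ a * τ b) = b⁻¹ * (a⁻¹ * τ a) * τ b by group,
        mem_center_iff.1 (hmod a) b⁻¹, mul_assoc])
    (fun y => h.center_sq _ (hmod y))
    (fun y => by rw [hcomm, ← map_inv, ← map_mul, hβ _ (hmod y)])
    (fun w hw => by rw [hτ w (hfpf w hw), inv_mul_cancel]) x
  exact (inv_mul_eq_one.1 h1).symm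

/-- A commuting automorphism moving a fixed point out of its centraliser forces triviality modulo the
centre. -/
theorem mod_center_of_moved (h : UT T q) (hτ : ∀ z ∈ center T, τ z = z) (hβ : ∀ z ∈ center T, β z = z)
    (hcomm : ∀ x, τ (β x) = β (τ x)) {u : T} (hu : u⁻¹ * τ u ∈ center T) (hmove : ¬ Commute u (β u))
    (x : T) : x⁻¹ * τ x ∈ center T := by
  by_contra hx
  have hu' : (β u)⁻¹ * τ (β u) ∈ center T := by
    rw [hcomm, ← map_inv, ← map_mul, hβ _ hu]
    exact hu
  exact hmove (h.cent_comm _ u (β u) hx (commute_fix h hτ hu x).symm (commute_fix h hτ hu' x).symm)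

/-- The elements commuting with a non-central one. -/
theorem ncard_commute_diff (h : UT T q) {u : T} (hu : u ∉ center T) :
    ({y : T | Commute u y} \ (center T : Set T)).ncard = q ^ 2 - q := by
  let f : T →* center T := MonoidHom.mk' (fun y => ⟨cm u y, h.cm_mem u y⟩) fun a b =>
    Subtype.ext (cm_mul_right h u a b)
  have hsurj : f.range = ⊤ := MonoidHom.range_eq_top.2 fun z => by
    obtain ⟨y, hy⟩ := h.cm_onto u hu z z.2
    exact ⟨y, Subtype.ext hy⟩
  have h1 := Subgroup.card_mul_index f.ker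
  rw [Subgroup.index_ker, hsurj, Subgroup.card_top, h.card_center, h.card] at h1
  have hker : ({y : T | Commute u y} : Set T) = (f.ker : Set T) := by
    ext y
    exact ⟨fun hy => Subtype.ext (commute_iff_cm.2 hy), fun hy => commute_iff_cm.1 (congrArg Subtype.val hy)⟩
  have hZ : center T ≤ f.ker := fun z hz =>
    Subtype.ext (commute_iff_cm.2 (mem_center_iff.1 hz u))
  rw [hker, Set.ncard_sdiff (fun z hz => hZ hz), ← Nat.card_coe_set_eq, ← Nat.card_coe_set_eq]
  show Nat.card f.ker - Nat.card (center T) = _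
  rw [h.card_center, Nat.eq_of_mul_eq_mul_right (q_pos h) (h1.trans (by ring : q ^ 3 = q ^ 2 * q))]

end CfsgLib.Inter10.UTAut
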