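import Cfsg.Agent.Lib.Inter10.OuterRank
import Cfsg.Agent.Lib.Inter10.OuterUT

/-!
The Sylow 2-subgroups of a simple group of the order and the Sylow type of `PSU₃(q)` are rigid.
-/

set_option autoImplicit false
set_option linter.style.haveILetI false
set_option linter.unusedSectionVars false

namespace CfsgLib.Inter10

open Subgroup MulAction CfsgLib.UThreeSylow UTAut

universe u

variable {W : Type u} [Group W] [Finite W]

/-- The restriction of an automorphism to an invariant Sylow subgroup. -/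
noncomputable def restrictAut (σ : MulAut W) (S : Sylow 2 W)
    (hσ : ∀ s ∈ (S : Subgroup W), σ s ∈ (S : Subgroup W)) : MulAut ↥(S : Subgroup W) :=
  MulEquiv.ofBijective
    ((σ.toMonoidHom.comp (S : Subgroup W).subtype).codRestrict (S : Subgroup W) fun s => hσ s s.2)
    ⟨fun _ _ e => Subtype.ext (σ.injective (congrArg Subtype.val e)),
      Finite.injective_iff_surjective.1 fun _ _ e => Subtype.ext (σ.injective (congrArg Subtype.val e))⟩

theorem coe_restrictAut_pow {σ : MulAut W} {S : Sylow 2 W}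
    (hσ : ∀ s ∈ (S : Subgroup W), σ s ∈ (S : Subgroup W)) (i : ℕ) (x : ↥(S : Subgroup W)) :
    (((restrictAut σ S hσ) ^ i) x : W) = (σ ^ i) x := by
  induction i with
  | zero => simp
  | succ i ih => rw [pow_succ', pow_succ', MulAut.mul_apply, MulAut.mul_apply, ← ih]; rfl

theorem restrictAut_pow_eq_one {σ : MulAut W} {S : Sylow 2 W}
    (hσ : ∀ s ∈ (S : Subgroup W), σ s ∈ (S : Subgroup W)) {i : ℕ} (h : σ ^ i = 1) :
    restrictAut σ S hσ ^ i = 1 :=
  MulEquiv.ext fun x => Subtype.ext (by rw [coe_restrictAut_pow, h]; rfl)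

/-- The size of a set on which a group acts freely is a multiple of the order of the group. -/
theorem card_dvd_of_free {K X : Type*} [Group K] [MulAction K X]
    (h : ∀ (k : K) (x : X), k • x = x → k = 1) : Nat.card K ∣ Nat.card X :=
  ⟨Nat.card (Quotient (orbitRel K X)), by
    rw [Nat.card_congr (selfEquivOrbitsQuotientProd (G := K) (X := X) fun b =>
      (eq_bot_iff_forall _).2 fun k hk => h k b hk), Nat.card_prod, mul_comm]⟩

variable [IsSimpleGroup W]

/-- Sylow 2-subgroups of `PSU₃` type are rigid. -/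
theorem rigid_of_ut (hF : FourUnique W) (hna : ¬ IsMulCommutative W) (hr : ¬ Cfsg.PRankLE 2 1 W)
    (hC : CentComm W) {n d : ℕ} (hn : 2 ≤ n)
    (hU : ∀ S : Sylow 2 W, UT ↥(S : Subgroup W) (2 ^ n)) (hd0 : 0 < d) (hd : d ≤ 3)
    (hcard : Nat.card W * d = (2 ^ n) ^ 3 * (((2 ^ n) ^ 3 + 1) * ((2 ^ n) ^ 2 - 1))) :
    Rigid W ∧ CentralFour W := by
  haveI : Fact (Nat.Prime 2) := ⟨Nat.prime_two⟩
  have hI : InvolCentral W := fun S x hx hx2 s hs => congrArg Subtype.val
    (mem_center_iff.1 ((hU S).sq_one ⟨x, hx⟩ (Subtype.ext hx2)) ⟨s, hs⟩)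
  refine ⟨fun S H hHN hHodd hdec σ hσ hσH hσS => ?_, centralFour_of_involCentral hr hI⟩
  have h := hU S
  set q := 2 ^ n with hq
  have hq4 : 4 ≤ q := (show 4 = 2 ^ 2 by norm_num).trans_le (Nat.pow_le_pow_right (by norm_num) hn)
  set N := normalizer ((S : Subgroup W) : Set W) with hN
  have hS3 : Nat.card (S : Subgroup W) = q ^ 3 := h.card
  have hcen : ∀ x : ↥(S : Subgroup W), x ∈ center ↥(S : Subgroup W) ↔ (x : W) * x = 1 := fun x => by
    rw [mem_center_of_sq h, Subtype.ext_iff]; rfl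
  have hHS : ∀ x ∈ H, x ∈ (S : Subgroup W) → x = 1 := fun x hxH hxS => by
    obtain ⟨k, hk⟩ := IsPGroup.iff_orderOf.1 S.2 ⟨x, hxS⟩
    rw [Subgroup.orderOf_mk] at hk
    exact orderOf_eq_one_iff.1 (Nat.eq_one_of_dvd_coprimes ((Nat.coprime_two_left.2 hHodd).pow_left k)
      hk.dvd (Subgroup.orderOf_dvd_natCard H hxH))
  have hcN : Nat.card N = q ^ 3 * Nat.card H := by
    rw [← hS3, ← Nat.card_prod]
    refine (Nat.card_eq_of_bijective (fun p : ↥(S : Subgroup W) × H =>
      (⟨p.1 * p.2, N.mul_mem (le_normalizer p.1.2) (hHN p.2.2)⟩ : N)) ⟨?_, ?_⟩).symm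
    · rintro ⟨s, x⟩ ⟨t, y⟩ e
      have e' : (s : W) * x = t * y := congrArg Subtype.val e
      have hxy : (x : W) * (y : W)⁻¹ = 1 := hHS _ (mul_mem x.2 (inv_mem y.2)) (by
        rw [show (x : W) * (y : W)⁻¹ = (s : W)⁻¹ * t by
          rw [eq_inv_mul_iff_mul_eq, ← mul_assoc, e', mul_inv_cancel_right]]
        exact mul_mem (inv_mem s.2) t.2)
      obtain rfl : x = y := Subtype.ext (mul_inv_eq_one.1 hxy)
      exact Prod.ext (Subtype.ext (mul_right_cancel e')) rfl
    · rintro ⟨g, hg⟩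
      obtain ⟨s, hs, x, hx, rfl⟩ := hdec g hg
      exact ⟨(⟨s, hs⟩, ⟨x, hx⟩), rfl⟩
  -- the centraliser of one involution in the complement
  obtain ⟨a, -, haS, -, ha, -⟩ := exists_four hr S
  have ha1 : a * a = 1 := Involutions.mul_self_eq_one ha
  set H₁ := H ⊓ centralizer ({a} : Set W) with hH₁
  have hH₁S : ∀ g ∈ H₁, ∀ s ∈ (S : Subgroup W), g * s * g⁻¹ ∈ (S : Subgroup W) :=
    fun g hg s hs => (mem_normalizer_iff.1 (hHN hg.1) s).1 hs
  let β : ∀ g ∈ H₁, MulAut ↥(S : Subgroup W) := fun g hg => restrictAut (MulAut.conj g) S (hH₁S g hg)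
  have hβ : ∀ (g : W) (hg : g ∈ H₁) (x : ↥(S : Subgroup W)), (β g hg x : W) = g * x * g⁻¹ :=
    fun g hg x => rfl
  have hH₁odd : Odd (Nat.card H₁) := hHodd.of_dvd_nat (card_dvd_of_le inf_le_left)
  have hβZ : ∀ (g : W) (hg : g ∈ H₁), ∀ z ∈ center ↥(S : Subgroup W), β g hg z = z := fun g hg z hz => by
    refine Subtype.ext ?_
    rw [hβ g hg]
    rcases eq_or_ne (z : W) 1 with e | e
    · rw [e, mul_one, mul_inv_cancel]
    · have h1 : Commute g (z : W) := hC a z g ha (orderOf_eq_prime (by rw [pow_two]; exact (hcen z).1 hz) e)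
        (hI S z z.2 ((hcen z).1 hz) a haS) (mem_centralizer_singleton_iff.1 hg.2)
      rw [h1.eq, mul_inv_cancel_right]
  have hβo : ∀ (g : W) (hg : g ∈ H₁), β g hg ^ Nat.card H₁ = 1 := fun g hg =>
    restrictAut_pow_eq_one _ (by
      rw [← map_pow, orderOf_dvd_iff_pow_eq_one.1 (Subgroup.orderOf_dvd_natCard H₁ hg), map_one])
  -- the index of the normaliser
  set m := Nat.card H₁ with hm
  have hHm : Nat.card H = (q - 1) * m := by
    letI : MulAction H ↥(S : Subgroup W) :=
      { smul := fun g x => ⟨(g : W) * x * (g : W)⁻¹, (mem_normalizer_iff.1 (hHN g.2) _).1 x.2⟩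
        one_smul := fun x => Subtype.ext (show (1 : W) * x * (1 : W)⁻¹ = x by simp)
        mul_smul := fun a b x => Subtype.ext (show ((a : W) * b) * x * ((a : W) * b)⁻¹ =
          (a : W) * ((b : W) * x * (b : W)⁻¹) * (a : W)⁻¹ by group) }
    have hst : stabilizer H (⟨a, haS⟩ : ↥(S : Subgroup W)) = H₁.subgroupOf H := by
      ext g
      rw [mem_stabilizer_iff, mem_subgroupOf, hH₁, mem_inf, mem_centralizer_singleton_iff, Subtype.ext_iff]
      exact ⟨fun e => ⟨g.2, mul_inv_eq_iff_eq_mul.1 e⟩, fun e => mul_inv_eq_iff_eq_mul.2 e.2⟩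
    have horb : orbit H (⟨a, haS⟩ : ↥(S : Subgroup W)) =
        (center ↥(S : Subgroup W) : Set ↥(S : Subgroup W)) \ {1} := by
      ext x
      constructor
      · rintro ⟨g, rfl⟩
        refine ⟨(hcen _).2 ?_, fun e => ?_⟩
        · show (g : W) * a * (g : W)⁻¹ * ((g : W) * a * (g : W)⁻¹) = 1
          rw [conj_mul, ha1, mul_one, mul_inv_cancel]
        · have e' : (g : W) * a * (g : W)⁻¹ = 1 := congrArg Subtype.val (Set.mem_singleton_iff.1 e)
          rw [conj_eq_one_iff] at e'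
          rw [e', orderOf_one] at ha
          omega
      · rintro ⟨hx, hx1⟩
        obtain ⟨g, hg, he⟩ := exists_conj_invol hF hr hC hI hna hdec hHN ha
          (orderOf_eq_prime (by rw [pow_two]; exact (hcen x).1 hx)
            fun e => hx1 (Subtype.ext e)) haS x.2
        exact ⟨⟨g, hg⟩, Subtype.ext he⟩
    have h1 := Subgroup.card_mul_index (stabilizer H (⟨a, haS⟩ : ↥(S : Subgroup W)))
    have hcs : ({1} : Set ↥(S : Subgroup W)).ncard = 1 := Set.ncard_singleton _
    rw [MulAction.index_stabilizer, horb, hst, Nat.card_congr (subgroupOfEquivOfLe inf_le_left).toEquiv,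
      Set.ncard_sdiff_singleton_of_mem (one_mem _), ← Nat.card_coe_set_eq] at h1
    rw [← h1, show Nat.card ((center ↥(S : Subgroup W) : Set ↥(S : Subgroup W))) = q from h.card_center]
    ring
  set k := N.index with hk
  have hm0 : 0 < m := Nat.card_pos
  have hked : k * (m * d) = (q ^ 3 + 1) * (q + 1) := by
    have h1 := N.card_mul_index
    rw [hcN, hHm] at h1
    rw [← h1] at hcard
    have h2 : q ^ 2 - 1 = (q + 1) * (q - 1) := by simpa using Nat.sq_sub_sq q 1
    rw [h2] at hcard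
    refine Nat.eq_of_mul_eq_mul_left (show 0 < q ^ 3 * (q - 1) by
      have : 0 < q - 1 := by omega
      positivity) ?_
    calc q ^ 3 * (q - 1) * (k * (m * d)) = q ^ 3 * ((q - 1) * m) * k * d := by ring
      _ = q ^ 3 * ((q ^ 3 + 1) * ((q + 1) * (q - 1))) := hcard
      _ = _ := by ring
  let Ω := {x : W ⧸ N // x ≠ ((1 : W) : W ⧸ N)}
  have hfix1 : ∀ g ∈ N, g • ((1 : W) : W ⧸ N) = ((1 : W) : W ⧸ N) := fun g hg =>
    QuotientGroup.eq.2 (by simpa using inv_mem hg)
  letI : MulAction ↥(S : Subgroup W) Ω :=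
    { smul := fun s x => ⟨(s : W) • (x : W ⧸ N), fun e => x.2 (smul_left_cancel (s : W)
        (e.trans (hfix1 s (le_normalizer s.2)).symm))⟩
      one_smul := fun x => Subtype.ext (one_smul W _)
      mul_smul := fun a b x => Subtype.ext (mul_smul (a : W) (b : W) _) }
  have hfree : ∀ (s : ↥(S : Subgroup W)) (x : Ω), s • x = x → s = 1 := by
    rintro s ⟨x, hx⟩ he
    obtain ⟨g, rfl⟩ := QuotientGroup.mk_surjective x
    by_contra hs1
    have h1 : ((s : W) * g : W ⧸ N) = (g : W ⧸ N) := congrArg Subtype.val he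
    have h2 : g⁻¹ * (s : W) * g ∈ N := by
      have h3 := inv_mem (QuotientGroup.eq.1 h1)
      rwa [mul_inv_rev, inv_inv, ← mul_assoc] at h3
    have hp : IsPGroup 2 (zpowers (g⁻¹ * (s : W) * g)) := by
      obtain ⟨j, hj⟩ := IsPGroup.iff_orderOf.1 S.2 s
      refine IsPGroup.of_card (n := j) ?_
      rw [Nat.card_zpowers, show g⁻¹ * (s : W) * g = g⁻¹ * (s : W) * g⁻¹⁻¹ by group,
        Involutions.orderOf_conj_eq, Subgroup.orderOf_coe, hj]
    have h4 := mem_of_normalizes S h2 hp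
    refine hx ?_
    have hgN : g⁻¹ ∈ N := mem_normalizer_of_conj hF hr hC hI s.2 (fun e => hs1 (Subtype.ext e)) (by
      rwa [inv_inv])
    exact (QuotientGroup.eq.2 (by simpa using hgN))
  have hΩ : Nat.card Ω + 1 = k := by
    have h1 : Nat.card Ω = ({x : W ⧸ N | x ≠ ((1 : W) : W ⧸ N)} : Set (W ⧸ N)).ncard :=
      Nat.card_coe_set_eq _
    rw [h1, show ({x : W ⧸ N | x ≠ ((1 : W) : W ⧸ N)} : Set (W ⧸ N)) =
      (Set.univ : Set (W ⧸ N)) \ {((1 : W) : W ⧸ N)} by ext x; simp,
      Set.ncard_sdiff_singleton_of_mem (Set.mem_univ _), Set.ncard_univ, hk, Subgroup.index_eq_card]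
    have : 0 < Nat.card (W ⧸ N) := Nat.card_pos
    omega
  obtain ⟨j, hj⟩ := card_dvd_of_free hfree
  rw [hS3] at hj
  have hj1 : 1 ≤ j := by
    by_contra h0
    obtain rfl : j = 0 := by omega
    have h1 : N.index = 1 := by omega
    exact normalizer_ne_top hF hr hC hI hna S (index_eq_one.1 h1)
  have hmd : m * d = q + 1 ∧ j = 1 := by
    have h2 : (1 + j * q ^ 3) * (m * d) = (q ^ 3 + 1) * (q + 1) := by
      rw [← hked, ← hΩ, hj]; ring
    have he1 : 1 ≤ m * d := Nat.mul_pos hm0 hd0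
    have hq3 : q + 1 < q ^ 3 := by
      calc q + 1 < q * 4 := by omega
        _ ≤ q * q := Nat.mul_le_mul_left _ hq4
        _ ≤ q * q * q := Nat.le_mul_of_pos_right _ (by omega)
        _ = q ^ 3 := by ring
    have hle : m * d ≤ q + 1 := by
      by_contra hlt
      have h3 : (q ^ 3 + 1) * (q + 2) ≤ (1 + j * q ^ 3) * (m * d) :=
        Nat.mul_le_mul (by nlinarith) (by omega)
      nlinarith
    generalize m * d = e at h2 he1 hle ⊢
    obtain ⟨r, hr'⟩ := Nat.exists_eq_add_of_le hle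
    have h3 : q ^ 3 * (j * e) = q ^ 3 * (q + 1) + r := by
      rw [hr'] at h2 ⊢
      nlinarith
    have h4 : q ^ 3 ∣ r := (Nat.dvd_add_right (Dvd.intro (q + 1) rfl)).1 (h3 ▸ Dvd.intro _ rfl)
    have h5 : r = 0 := Nat.eq_zero_of_dvd_of_lt h4 (by omega)
    rw [h5, add_zero] at h3 hr'
    refine ⟨hr'.symm, ?_⟩
    have h6 := Nat.eq_of_mul_eq_mul_left (by positivity) h3
    rw [hr', mul_eq_right₀ (by omega)] at h6
    exact h6
  rw [hmd.2, mul_one] at hj
  -- nothing in the complement centralises `S`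
  have hcentS : ∀ g ∈ H, (∀ s ∈ (S : Subgroup W), Commute g s) → g = 1 := by
    intro g hgH hgS
    have hfixall : ∀ x : W ⧸ N, g • x = x := by
      intro x
      by_cases hx : x = ((1 : W) : W ⧸ N)
      · rw [hx]; exact hfix1 g (hHN hgH)
      let x₀ : Ω := ⟨x, hx⟩
      have hinj : Function.Injective fun s : ↥(S : Subgroup W) => s • x₀ := fun s t e => by
        have h1 := hfree (t⁻¹ * s) x₀ (by
          rw [mul_smul, show s • x₀ = t • x₀ from e, inv_smul_smul])
        exact (inv_mul_eq_one.1 h1).symm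
      obtain ⟨s, hs⟩ := ((Nat.bijective_iff_injective_and_card _).2 ⟨hinj, by rw [hS3, hj]⟩).2
        ⟨g • x, fun e => hx (smul_left_cancel g (e.trans (hfix1 g (hHN hgH)).symm))⟩
      have hs' : (s : W) • x = g • x := congrArg Subtype.val hs
      have hpow : ∀ i : ℕ, g ^ i • x = ((s : W) ^ i) • x := by
        intro i
        induction i with
        | zero => simp
        | succ i ih =>
          rw [pow_succ', mul_smul, ih, ← mul_smul, ((hgS _ (pow_mem s.2 i))).eq, mul_smul, ← hs',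
            ← mul_smul, pow_succ]
      obtain ⟨l, hl⟩ := hHodd.of_dvd_nat (Subgroup.orderOf_dvd_natCard H hgH)
      have h1 := hpow (orderOf g)
      rw [pow_orderOf_eq_one, one_smul] at h1
      have h2 : s ^ orderOf g = 1 := hfree _ x₀ (Subtype.ext (by
        show (((s ^ orderOf g : ↥(S : Subgroup W))) : W) • x = x
        rw [Subgroup.coe_pow]; exact h1.symm))
      obtain ⟨i, hi⟩ := IsPGroup.iff_orderOf.1 S.2 s
      have h3 : orderOf s = 1 := Nat.eq_one_of_dvd_coprimes
        ((Nat.coprime_two_left.2 (hl.symm ▸ odd_two_mul_add_one l : Odd (orderOf g))).pow_left i)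
        hi.dvd (orderOf_dvd_of_pow_eq_one h2)
      rw [orderOf_eq_one_iff] at h3
      rw [← hs', h3, Subgroup.coe_one, one_smul]
    have h1 : g ∈ N.normalCore := fun y => by
      have h2 := inv_mem (QuotientGroup.eq.1 (show ((g * y⁻¹ : W) : W ⧸ N) = ((y⁻¹ : W) : W ⧸ N) from
        hfixall ((y⁻¹ : W) : W ⧸ N)))
      rwa [mul_inv_rev, inv_inv, inv_inv, ← mul_assoc] at h2
    have h2 : N.normalCore = ⊥ := (N.normalCore_normal.eq_bot_or_eq_top).resolve_right fun e =>
      normalizer_ne_top hF hr hC hI hna S (top_le_iff.1 (e.symm.le.trans N.normalCore_le))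
    rwa [h2, mem_bot] at h1
  -- the automorphism
  set τ := restrictAut σ S hσS with hτ
  have hτc : ∀ x : ↥(S : Subgroup W), (τ x : W) = σ x := fun x => rfl
  have hτZ : ∀ z ∈ center ↥(S : Subgroup W), τ z = z := fun z hz =>
    Subtype.ext (by rw [hτc]; exact fix_invol hF hr hC hI hna hdec hHN hσ hσH hσS z.2 ((hcen z).1 hz))
  have hcomm : ∀ (g : W) (hg : g ∈ H₁) (x : ↥(S : Subgroup W)), τ (β g hg x) = β g hg (τ x) :=
    fun g hg x => Subtype.ext (by rw [hτc, hβ g hg, hβ g hg, hτc, map_mul, map_mul, map_inv, hσH g hg.1])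
  obtain ⟨k₂, hk₂⟩ := hσ
  have hτk : τ ^ 2 ^ k₂ = 1 := restrictAut_pow_eq_one _ hk₂
  let τb : MulAut (↥(S : Subgroup W) ⧸ center ↥(S : Subgroup W)) :=
    QuotientGroup.congr _ _ τ (Subgroup.characteristic_iff_map_eq.1 inferInstance _)
  have hτbpow : ∀ (i : ℕ) (x : ↥(S : Subgroup W)),
      (τb ^ i) (QuotientGroup.mk x) = QuotientGroup.mk ((τ ^ i) x) := by
    intro i
    induction i with
    | zero => intro x; rfl
    | succ i ih => intro x; rw [pow_succ', pow_succ', MulAut.mul_apply, MulAut.mul_apply, ih]; rfl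
  obtain ⟨ub, ⟨-, hub1⟩, hubf⟩ := exists_fixed (W := ↥(S : Subgroup W) ⧸ center ↥(S : Subgroup W))
    (σ := τb) ⟨k₂, MulEquiv.ext fun x => by
      obtain ⟨x, rfl⟩ := QuotientGroup.mk_surjective x
      rw [hτbpow, hτk]; rfl⟩ (X := Set.univ \ {1})
    (fun x hx => ⟨Set.mem_univ _, fun e => hx.2 (τb.injective (e.trans (map_one τb).symm))⟩) (by
      rw [Set.ncard_sdiff_singleton_of_mem (Set.mem_univ _), Set.ncard_univ]
      have h1 := (center ↥(S : Subgroup W)).card_mul_index
      rw [h.card_center, h.card, Subgroup.index_eq_card] at h1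
      rw [Nat.eq_of_mul_eq_mul_left (show 0 < q by omega)
        (h1.trans (by ring : q ^ 3 = q * q ^ 2))]
      exact Nat.Even.sub_odd (Nat.one_le_pow _ _ (by omega))
        ((even_two.pow_of_ne_zero (by omega : n ≠ 0)).pow_of_ne_zero two_ne_zero) odd_one)
  obtain ⟨u, rfl⟩ := QuotientGroup.mk_surjective ub
  have huc : u ∉ center ↥(S : Subgroup W) := fun e => hub1 ((QuotientGroup.eq_one_iff u).2 e)
  have hu : u⁻¹ * τ u ∈ center ↥(S : Subgroup W) := QuotientGroup.eq.1
    (show (QuotientGroup.mk u : ↥(S : Subgroup W) ⧸ center ↥(S : Subgroup W)) = QuotientGroup.mk (τ u)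
      from hubf.symm)
  -- the only element of `H₁` trivial modulo the centre
  have hβ1 : ∀ (g : W) (hg : g ∈ H₁) (w : ↥(S : Subgroup W)), w ∉ center ↥(S : Subgroup W) →
      w⁻¹ * β g hg w ∈ center ↥(S : Subgroup W) → g = 1 := by
    intro g hg w hw hfix
    refine hcentS g hg.1 fun s hs => ?_
    have h1 := congrArg Subtype.val (eq_self_of_mod_center h (hβZ g hg) hH₁odd (hβo g hg)
      (mod_center_of_fixed h (hβZ g hg) hH₁odd (hβo g hg) hw hfix) ⟨s, hs⟩)
    rw [hβ g hg] at h1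
    exact mul_inv_eq_iff_eq_mul.1 h1
  by_cases hex : ∃ (g : W) (hg : g ∈ H₁), ¬ Commute u (β g hg u)
  · obtain ⟨g, hg, hmove⟩ := hex
    intro s hs
    have hg1 : g ≠ 1 := fun e => hmove (by
      have : β g hg u = u := Subtype.ext (by rw [hβ g hg, e, one_mul, inv_one, mul_one])
      rw [this])
    have := congrArg Subtype.val (eq_self_of_fpf h hτZ (hβZ g hg) hH₁odd (hβo g hg)
      (mod_center_of_moved h hτZ (hβZ g hg) (hcomm g hg) hu hmove) (hcomm g hg)
      (fun w hw => by_contra fun hwc => hg1 (hβ1 g hg w hwc hw)) ⟨s, hs⟩)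
    rwa [hτc] at this
  -- otherwise the order of `H₁` would divide `q - 1`
  push Not at hex
  exfalso
  let X := ↥({y : ↥(S : Subgroup W) | Commute u y} \
    (center ↥(S : Subgroup W) : Set ↥(S : Subgroup W)))
  letI : MulAction H₁ X :=
    { smul := fun g y => ⟨β g g.2 y, by
        refine ⟨?_, fun e => y.2.2 ?_⟩
        · exact h.cent_comm _ u (β g g.2 y) (fun e => huc (by
              have h1 := hβZ g g.2 _ e
              exact (β g g.2).injective h1 ▸ e))
            (hex g g.2).symm (y.2.1.map (β g g.2).toMonoidHom)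
        · exact (β g g.2).injective (hβZ g g.2 _ e) ▸ e⟩
      one_smul := fun y => Subtype.ext (Subtype.ext
        (show (1 : W) * (y : ↥(S : Subgroup W)) * (1 : W)⁻¹ = (y : ↥(S : Subgroup W)) by simp))
      mul_smul := fun a b y => Subtype.ext (Subtype.ext (show ((a : W) * b) * (y : ↥(S : Subgroup W)) *
        ((a : W) * b)⁻¹ = (a : W) * ((b : W) * (y : ↥(S : Subgroup W)) * (b : W)⁻¹) * (a : W)⁻¹ by group)) }
  have hdvd : m ∣ q ^ 2 - q := by
    rw [← ncard_commute_diff h huc, ← Nat.card_coe_set_eq]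
    refine card_dvd_of_free (X := X) fun g y he => Subtype.ext (hβ1 g g.2 y y.2.2 ?_)
    rw [show β g g.2 y = (y : ↥(S : Subgroup W)) from congrArg Subtype.val he, inv_mul_cancel]
    exact one_mem _
  rw [pow_two, ← Nat.mul_sub_one] at hdvd
  have hd1 : m ∣ q - 1 :=
    ((Nat.coprime_two_right.2 hH₁odd).pow_right n).dvd_of_dvd_mul_left hdvd
  have hd2 : m ∣ 2 := by
    have h1 : m ∣ q + 1 := ⟨d, hmd.1.symm⟩
    have h2 := Nat.dvd_sub h1 hd1
    rwa [show q + 1 - (q - 1) = 2 by omega] at h2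
  have hm1 : m = 1 := ((Nat.dvd_prime Nat.prime_two).1 hd2).resolve_right fun e => by
    rw [e] at hH₁odd; exact absurd hH₁odd (by decide)
  have := hmd.1
  rw [hm1, one_mul] at this
  omega

end CfsgLib.Inter10
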