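import Cfsg.Agent.Lib.Inter10.OuterCover
import Cfsg.Agent.Lib.Inter10.OuterModels
import Cfsg.Agent.Lib.Inter10.OuterUThree

/-!
`OuterGoal`: the quasisimple normal subgroups of known kind have no outer automorphism of 2-power
order in a group with unique four-groups.
-/

set_option autoImplicit false
set_option linter.style.haveILetI false
set_option linter.unusedSectionVars false

namespace CfsgLib.Inter10

open Subgroup

universe u

theorem sylow_card_le_eight {W : Type u} [Group W] [Finite W] (S : Sylow 2 W)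
    (h : ¬ 16 ∣ Nat.card W) : Nat.card (S : Subgroup W) ≤ 8 := by
  haveI : Fact (Nat.Prime 2) := ⟨Nat.prime_two⟩
  obtain ⟨k, hk⟩ := IsPGroup.iff_card.1 S.2
  rw [hk, show (8 : ℕ) = 2 ^ 3 from rfl]
  refine Nat.pow_le_pow_right (by norm_num) ?_
  by_contra h4
  exact h ((show 16 ∣ 2 ^ k from pow_dvd_pow 2 (show 4 ≤ k by omega)).trans
    (hk ▸ (S : Subgroup W).card_subgroup_dvd_card))

theorem not_sixteen_dvd_psl {F : Type} [Field F] [Fintype F]
    (hq : Fintype.card F % 8 = 3 ∨ Fintype.card F % 8 = 5) :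
    ¬ 16 ∣ Nat.card (Matrix.ProjectiveSpecialLinearGroup (Fin 2) F) := by
  intro h
  have hc := CfsgLib.PSL2.card_psl (F := F)
  set q := Fintype.card F
  have hd : 16 ∣ q * (q ^ 2 - 1) := by
    have e1 : q ^ 2 - 1 = (q + 1) * (q - 1) := by simpa using Nat.sq_sub_sq q 1
    rw [e1, show q * ((q + 1) * (q - 1)) = (q + 1) * (q * (q - 1)) by ring, ← hc]
    exact h.mul_left _
  have hco : Nat.Coprime 16 q :=
    (Nat.Coprime.pow_left 4 (Nat.coprime_two_left.2 (Nat.odd_iff.2 (by omega))) : _)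
  have h1 := hco.dvd_of_dvd_mul_left hd
  have h2 : q ^ 2 % 16 = (q % 16) ^ 2 % 16 := Nat.pow_mod q 2 16
  have h3 : 1 ≤ q ^ 2 := Nat.one_le_pow _ _ (by omega)
  have hq8 : q % 16 = 3 ∨ q % 16 = 5 ∨ q % 16 = 11 ∨ q % 16 = 13 := by omega
  rcases hq8 with e | e | e | e <;> rw [e] at h2 <;> omega

/-- `OuterGoal` of S3310. -/
theorem outerGoal : OuterGoal.{u} := by
  intro G _ _ hF _ L hLn hq hK hr S
  haveI : Fact (Nat.Prime 2) := ⟨Nat.prime_two⟩
  haveI : L.Normal := hLn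
  obtain ⟨hp, hs⟩ := hq
  haveI := hp
  have hsz : Cfsg.Lie.IsoSuzuki (↥L ⧸ center ↥L) →
      ((S : Subgroup G) ⊓ L) ⊔ ((S : Subgroup G) ⊓ centralizer (L : Set G)) = S := fun hI =>
    sylow_eq_sup_inf L _ S (le_sup_of_suzuki L hI S)
  rcases hK with ⟨hc, hL⟩ | ⟨z, hz, hzc, hB, h8⟩
  swap
  · exact hsz (isoSuzuki_of_cover ↥L ⟨hp, hs⟩ hz hzc hB h8)
  let e₀ : ↥L ⧸ center ↥L ≃* ↥L :=
    (QuotientGroup.quotientMulEquivOfEq hc).trans QuotientGroup.quotientBot
  haveI : IsSimpleGroup ↥L := e₀.symm.isSimpleGroup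
  have hna : ¬ IsMulCommutative ↥L := fun h => by
    haveI := h
    have h1 : center ↥L = ⊤ := eq_top_iff.2 fun x _ => mem_center_iff.2 fun y => mul_comm' y x
    exact bot_ne_top (hc.symm.trans h1)
  have hFL := hF.subgroup L
  suffices hR : Cfsg.Lie.IsoSuzuki (↥L ⧸ center ↥L) ∨ (Rigid ↥L ∧ CentralFour ↥L) by
    rcases hR with hI | ⟨h1, h2⟩
    · exact hsz hI
    · exact split_of_rigid hF L h1 h2 S
  rcases hL with ⟨n, F, i1, i2, hn, hFc, ⟨e⟩⟩ | ⟨m, F, i1, i2, hm, hFc, ⟨e⟩⟩ |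
    ⟨n, F, i1, i2, hn, hFc, ⟨e⟩⟩ | ⟨F, i1, i2, hq8, -, ⟨e⟩⟩ | hJ
  · refine Or.inr (rigid_of_elementary hFL hna hr (centComm_of_psl hFc e) fun T x hx => ?_)
    obtain ⟨k, hk⟩ := T.2 ⟨x, hx⟩
    exact RootSz.psl_sq e hFc (by omega) (k := k) (congrArg Subtype.val hk)
  · exact Or.inl ⟨F, i1, i2, m, hm, hFc, ⟨e₀.trans e⟩⟩
  · have hF2 : Fintype.card F = (2 ^ n) ^ 2 := by
      rw [hFc, ← pow_mul, mul_comm, pow_mul]; norm_num
    obtain ⟨d, hd0, hd, hcard⟩ := card_psu hF2 e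
    exact Or.inr (rigid_of_ut hFL hna hr (centComm_of_psu (by omega) hF2 e) hn
      (fun T => RootSz.psu_ut e hF2 (by omega) T) hd0 hd hcard)
  · exact Or.inr (rigid_of_small hFL hna hr fun T => sylow_card_le_eight T (by
      rw [Nat.card_congr e.toEquiv]; exact not_sixteen_dvd_psl hq8))
  · exact Or.inr (rigid_of_small hFL hna hr fun T => sylow_card_le_eight T (by
      rw [hJ.2]; decide))

end CfsgLib.Inter10
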