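import Cfsg.Agent.Lib.Inter10.Main
import Cfsg.Agent.Lib.Inter10.CoreMain
import Cfsg.Agent.Lib.Inter10.Outer
import Cfsg.Agent.Lib.Inter10.CentSylow

/-!
S3310: the core-free case from the classification of the simple groups alone.
-/

set_option autoImplicit false

namespace CfsgLib.Inter10

universe u

/-- The theorem in a group without core, given the simple groups. -/
theorem mainGoal_of_simple (hS85 : SimpleGoal.{u}) : MainGoal.{u} :=
  mainGoal_of hS85 coreGoal outerGoal outerInvolGoal
    (fun _ _ _ hq hO hr P _ hy hc => eq_one_of_centralizes_sylow hq hO hr P hy hc)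

end CfsgLib.Inter10
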