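import Cfsg.Agent.Lib.Inter10.Defs
import Cfsg.Prelude.Def_Transfer

/-!
S3310: the conclusions in a group without core and the goals handed to the parts of the proof.
-/

set_option autoImplicit false
set_option linter.style.haveILetI false

namespace CfsgLib.Inter10

open Subgroup

universe u

/-- The simple groups with intersections of 2-rank at most one are on the list. -/
def SimpleGoal : Prop :=
  ∀ (G : Type u) [Group G] [Finite G] [IsSimpleGroup G], ¬ IsMulCommutative G →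
    (∀ S T : Sylow 2 G, S ≠ T → Cfsg.PRankLE 2 1 ↥((S : Subgroup G) ⊓ (T : Subgroup G))) → Listed G

/-- The three families. -/
def Three (W : Type*) [Group W] : Prop :=
  (∃ (n : ℕ) (F : Type) (_ : Field F) (_ : Fintype F), 2 ≤ n ∧ Fintype.card F = 2 ^ n ∧
      Nonempty (W ≃* Matrix.ProjectiveSpecialLinearGroup (Fin 2) F)) ∨
  (∃ (m : ℕ) (F : Type) (_ : Field F) (_ : Fintype F), 1 ≤ m ∧ Fintype.card F = 2 ^ (2 * m + 1) ∧
      Nonempty (W ≃* ↥(Cfsg.Lie.Sz F (2 ^ (m + 1))))) ∨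
  (∃ (n : ℕ) (F : Type) (_ : Field F) (_ : Fintype F), 2 ≤ n ∧ Fintype.card F = 4 ^ n ∧
      Nonempty (W ≃* Cfsg.PSU 3 F (2 ^ n)))

theorem Three.of_equiv {W V : Type*} [Group W] [Group V] (e : V ≃* W) (h : Three W) : Three V := by
  rcases h with ⟨n, F, i1, i2, hn, hF, ⟨f⟩⟩ | ⟨n, F, i1, i2, hn, hF, ⟨f⟩⟩ | ⟨n, F, i1, i2, hn, hF, ⟨f⟩⟩
  · exact Or.inl ⟨n, F, i1, i2, hn, hF, ⟨e.trans f⟩⟩
  · exact Or.inr (Or.inl ⟨n, F, i1, i2, hn, hF, ⟨e.trans f⟩⟩)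
  · exact Or.inr (Or.inr ⟨n, F, i1, i2, hn, hF, ⟨e.trans f⟩⟩)

theorem three_of_bender {W : Type u} [Group W] (h : BenderQ.IsBenderType W) : Three W := by
  rcases h with ⟨F, i1, i2, ⟨n, hn, hF⟩, ⟨f⟩⟩ | ⟨F, i1, i2, m, hm, hF, ⟨f⟩⟩ |
    ⟨F, i1, i2, n, hn, hF, ⟨f⟩⟩
  · exact Or.inl ⟨n, F, i1, i2, hn, hF, ⟨f⟩⟩
  · exact Or.inr (Or.inl ⟨m, F, i1, i2, hm, hF, ⟨f⟩⟩)
  · exact Or.inr (Or.inr ⟨n, F, i1, i2, hn, by rw [hF, ← pow_mul, mul_comm, pow_mul]; rfl, ⟨f⟩⟩)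

/-- Conclusion (a) in a group without core. -/
def TargetA (Y : Type u) [Group Y] : Prop :=
  (∃ (G₁ : Subgroup Y) (_ : G₁.Normal) (_ : ((Cfsg.pCore 2 Y).subgroupOf G₁).Normal),
    Odd G₁.index ∧ Cfsg.pCore 2 Y ≤ G₁ ∧
    (∃ n : ℕ, Nonempty (↥(Cfsg.pCore 2 Y) ≃* QuaternionGroup (2 ^ (n + 1)))) ∧
    Three (↥G₁ ⧸ (Cfsg.pCore 2 Y).subgroupOf G₁)) ∧
  ∃ S : Sylow 2 Y, ∃ z : Y, HasEight (S : Subgroup Y) z

/-- Two copies of `SL(2,5)` with the centres identified. -/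
def TwoSL (W : Type*) [Group W] : Prop :=
  ∃ (Z : Subgroup (Matrix.SpecialLinearGroup (Fin 2) (ZMod 5) × Matrix.SpecialLinearGroup (Fin 2) (ZMod 5)))
    (_ : Z.Normal),
    Z = Subgroup.zpowers ((-1 : Matrix.SpecialLinearGroup (Fin 2) (ZMod 5)),
      (-1 : Matrix.SpecialLinearGroup (Fin 2) (ZMod 5))) ∧
    Nonempty (W ≃* (Matrix.SpecialLinearGroup (Fin 2) (ZMod 5) × Matrix.SpecialLinearGroup (Fin 2) (ZMod 5)) ⧸ Z)

/-- Conclusion (b) in a group without core. -/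
def TargetB (Y : Type u) [Group Y] : Prop :=
  ∃ E : Subgroup Y, E.Normal ∧ (Odd E.index ∨ ∃ k : ℕ, Odd k ∧ E.index = 2 * k) ∧ TwoSL ↥E

/-- The theorem in a group without core with a component. -/
def MainGoal : Prop :=
  ∀ (Y : Type u) [Group Y] [Finite Y], FourUnique Y → Cfsg.oddCore Y = ⊥ →
    (∀ S : Sylow 2 Y, ¬ Cfsg.PRankLE 2 1 (S : Subgroup Y)) →
    (∃ L : Subgroup Y, Cfsg.IsComponent L) →
    (∃ S T : Sylow 2 Y, S ≠ T ∧ ¬ IsCyclic ↥((S : Subgroup Y) ⊓ (T : Subgroup Y))) →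
    TargetA Y ∨ TargetB Y

/-- An outer involutory automorphism of a core-free quasisimple group of 2-rank one centralises an
element of odd prime order. -/
def OuterInvolGoal : Prop :=
  ∀ (L : Type u) [Group L] [Finite L], Cfsg.IsQuasisimple L → Cfsg.oddCore L = ⊥ → Cfsg.PRankLE 2 1 L →
    ∀ φ : MulAut L, φ * φ = 1 → φ ∉ Cfsg.Inn L →
      ∃ y : L, y ≠ 1 ∧ Odd (orderOf y) ∧ φ y = y

end CfsgLib.Inter10
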