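import Cfsg.Agent.Lib.Inter10.Basic
import Cfsg.Agent.Lib.Inter10.Targets
import Cfsg.Agent.Lib.InvChar.SolvableTwo
import Cfsg.Agent.Lib.Components.FStar
import Cfsg.Agent.Lib.Components.ComponentAction
import Cfsg.Agent.Lib.OutSylowTwo.Main
import Cfsg.Agent.Lib.FewOrders.Prime
import Cfsg.Agent.Lib.PF.OddOrder

/-!
S3310: from the core-free group with a component back to the group.
-/

set_option autoImplicit false
set_option linter.style.haveILetI false
set_option linter.unusedSectionVars false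

namespace CfsgLib.Inter10

open Subgroup Pointwise CfsgLib.Involutions

universe u

variable {G : Type u} [Group G] [Finite G]

/-- A cyclic or quaternion group has two generators. -/
theorem exists_two_gen {R : Type*} [Group R] [Finite R]
    (h : IsCyclic R ∨ ∃ n : ℕ, Nonempty (R ≃* QuaternionGroup (2 ^ (n + 1)))) :
    ∃ s : Fin 2 → R, Subgroup.closure (Set.range s) = ⊤ := by
  rcases h with h | ⟨n, ⟨e⟩⟩
  · obtain ⟨g, hg⟩ := h.exists_generator
    refine ⟨![g, g], eq_top_iff.2 fun x _ => ?_⟩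
    exact (zpowers_le.2 (Subgroup.subset_closure (Set.mem_range_self (0 : Fin 2)))) (hg x)
  · refine ⟨![e.symm (QuaternionGroup.a 1), e.symm (QuaternionGroup.xa 0)], eq_top_iff.2 fun x _ => ?_⟩
    rw [← e.symm_apply_apply x]
    generalize e x = q
    have ha : ∀ i, e.symm (QuaternionGroup.a i) ∈ Subgroup.closure
        (Set.range ![e.symm (QuaternionGroup.a 1), e.symm (QuaternionGroup.xa 0)]) := fun i => by
      rw [← ZMod.natCast_zmod_val i, ← QuaternionGroup.a_one_pow, map_pow]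
      exact pow_mem (Subgroup.subset_closure (Set.mem_range_self (0 : Fin 2))) _
    cases q with
    | a i => exact ha i
    | xa i =>
      rw [show QuaternionGroup.xa i = QuaternionGroup.xa 0 * QuaternionGroup.a i by
        rw [QuaternionGroup.xa_mul_a, zero_add], map_mul]
      exact mul_mem (Subgroup.subset_closure (Set.mem_range_self (1 : Fin 2))) (ha i)

/-- The automorphism group of a cyclic or quaternion 2-group is solvable. -/
theorem isSolvable_aut {R : Subgroup G} (hR : IsPGroup 2 R)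
    (h : IsCyclic R ∨ ∃ n : ℕ, Nonempty (R ≃* QuaternionGroup (2 ^ (n + 1)))) :
    Group.IsSolvable (MulAut R) := by
  obtain ⟨s, hs⟩ := exists_two_gen h
  obtain ⟨m, d, hd, hdvd⟩ := CfsgLib.OutSylowTwo.card_aut_dvd_of_gen hR s hs
  refine CfsgLib.FewOrders.isSolvable_of_two_primes Nat.prime_two Nat.prime_three fun t ht htd => ?_
  have h1 : t ∣ 2 ^ m * 6 := by
    refine (htd.trans hdvd).trans (mul_dvd_mul_left _ ?_)
    interval_cases d <;> decide
  rcases ht.dvd_mul.1 h1 with h2 | h2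
  · exact Or.inl ((Nat.prime_dvd_prime_iff_eq ht Nat.prime_two).1 (ht.dvd_of_dvd_pow h2))
  · rw [show (6 : ℕ) = 2 * 3 from rfl] at h2
    rcases ht.dvd_mul.1 h2 with h3 | h3
    · exact Or.inl ((Nat.prime_dvd_prime_iff_eq ht Nat.prime_two).1 h3)
    · exact Or.inr ((Nat.prime_dvd_prime_iff_eq ht Nat.prime_three).1 h3)

/-- A nonsolvable group without core, in which two Sylow 2-subgroups over a four-group coincide, has a
component once it has two Sylow 2-subgroups. -/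
theorem exists_component_of_two (h : FourUnique G) (hO : Cfsg.oddCore G = ⊥)
    (hns : ¬ Group.IsSolvable G) {S T : Sylow 2 G} (hne : S ≠ T) :
    ∃ L : Subgroup G, Cfsg.IsComponent L := by
  haveI : Fact (Nat.Prime 2) := ⟨Nat.prime_two⟩
  by_contra! hno
  have hF : Cfsg.generalizedFittingSubgroup G = Cfsg.pCore 2 G := by
    rw [Cfsg.generalizedFittingSubgroup, show Cfsg.layer G = ⊥ from
      sSup_eq_bot.2 fun L hL => absurd hL (hno L), bot_sup_eq]
    exact CfsgLib.Components.fitting_eq_pCore_of_pPrimeCore_eq_bot hO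
  have hC := CfsgLib.Components.centralizer_pCore_le_of_generalizedFitting_eq hF
  have hp : IsPGroup 2 (Cfsg.pCore 2 G) := CfsgLib.PCore.pCore_isPGroup
  have hr : Cfsg.PRankLE 2 1 (Cfsg.pCore 2 G) := by
    by_contra hr
    obtain ⟨s, hs, t, ht, hs2, ht2, hst, hc⟩ := exists_pair_of_not_rank hr
    exact hne (h S T s t hs2 ht2 hst hc (CfsgLib.PCore.pCore_le_sylow S hs)
      (CfsgLib.PCore.pCore_le_sylow S ht) (CfsgLib.PCore.pCore_le_sylow T hs)
      (CfsgLib.PCore.pCore_le_sylow T ht))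
  haveI : (Cfsg.pCore 2 G).Normal := inferInstance
  haveI := isSolvable_aut hp (cyclic_or_quaternion hp hr)
  haveI : Group.IsSolvable (Cfsg.pCore 2 G) := haveI := hp.isNilpotent; inferInstance
  refine hns (Group.isSolvable_of_ker_le_range (Cfsg.pCore 2 G).subtype
    (MulAut.conjNormal (H := Cfsg.pCore 2 G)) fun g hg => ?_)
  rw [range_subtype]
  refine hC (mem_centralizer_iff.2 fun r hr => ?_)
  have h1 := congrArg Subtype.val (DFunLike.congr_fun (MonoidHom.mem_ker.1 hg) ⟨r, hr⟩)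
  rw [MulAut.conjNormal_apply, MulAut.one_apply] at h1
  exact (mul_inv_eq_iff_eq_mul.1 h1).symm

section OddCore

variable {O : Subgroup G} [O.Normal]

theorem eq_one_of_odd (hO : Odd (Nat.card O)) {S : Sylow 2 G} {x : G} (hxS : x ∈ (S : Subgroup G))
    (hxO : x ∈ O) : x = 1 := by
  obtain ⟨k, hk⟩ := IsPGroup.iff_orderOf.1 S.2 ⟨x, hxS⟩
  rw [Subgroup.orderOf_mk] at hk
  exact orderOf_eq_one_iff.1 (Nat.eq_one_of_dvd_coprimes
    ((Nat.coprime_two_left.2 hO).pow_left k) (hk ▸ dvd_rfl) (Subgroup.orderOf_dvd_natCard O hxO))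

theorem injOn_sylow (hO : Odd (Nat.card O)) {S : Sylow 2 G} {x y : G} (hx : x ∈ (S : Subgroup G))
    (hy : y ∈ (S : Subgroup G)) (h : QuotientGroup.mk' O x = QuotientGroup.mk' O y) : x = y :=
  inv_mul_eq_one.1 (eq_one_of_odd hO (mul_mem (inv_mem hx) hy) (QuotientGroup.eq.1 h))

/-- Lift of the 2-core over an odd normal subgroup centralised by a Sylow 2-subgroup. -/
theorem pCore_lift (hO : Odd (Nat.card O)) (S : Sylow 2 G)
    (hc : ∀ o ∈ O, ∀ s ∈ (S : Subgroup G), Commute o s) :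
    Cfsg.pCore 2 G ⊔ O = (Cfsg.pCore 2 (G ⧸ O)).comap (QuotientGroup.mk' O) ∧
      Nonempty (↥(Cfsg.pCore 2 G) ≃* ↥(Cfsg.pCore 2 (G ⧸ O))) := by
  haveI : Fact (Nat.Prime 2) := ⟨Nat.prime_two⟩
  have hsur := QuotientGroup.mk'_surjective O
  set π := QuotientGroup.mk' O
  set P := (Cfsg.pCore 2 (G ⧸ O)).comap π with hP
  have hmap : ((S.mapSurjective hsur : Sylow 2 (G ⧸ O)) : Subgroup (G ⧸ O)) = (S : Subgroup G).map π :=
    Sylow.coe_mapSurjective _ _
  have hlift : ∀ x ∈ Cfsg.pCore 2 (G ⧸ O), ∃ s ∈ (S : Subgroup G) ⊓ P, π s = x := by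
    intro x hx
    have h1 := CfsgLib.PCore.pCore_le_sylow (S.mapSurjective hsur) hx
    rw [hmap] at h1
    obtain ⟨s, hs, rfl⟩ := h1
    exact ⟨s, ⟨hs, hx⟩, rfl⟩
  have hn : ((S : Subgroup G) ⊓ P).Normal := by
    refine ⟨fun a ha g => ?_⟩
    have h1 : g * a * g⁻¹ ∈ P := (inferInstance : P.Normal).conj_mem a ha.2 g
    obtain ⟨q, hq, hqe⟩ := hlift _ h1
    have ho : q⁻¹ * (g * a * g⁻¹) ∈ O := QuotientGroup.eq.1 hqe
    obtain ⟨k, hk⟩ := S.2 ⟨a, ha.1⟩
    obtain ⟨l, hl⟩ := S.2 ⟨q, hq.1⟩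
    have hk' : a ^ 2 ^ k = 1 := congrArg Subtype.val hk
    have hl' : q ^ 2 ^ l = 1 := congrArg Subtype.val hl
    have e0 : (q⁻¹ * (g * a * g⁻¹)) ^ (2 ^ k * 2 ^ l) = 1 := by
      have hcq : Commute q⁻¹ (g * a * g⁻¹) := by
        have h2 : Commute q⁻¹ (q⁻¹ * (g * a * g⁻¹)) := (hc _ ho q hq.1).symm.inv_left
        simpa using ((Commute.refl q).inv_left.mul_right h2)
      rw [hcq.mul_pow, inv_pow, mul_comm (2 ^ k) (2 ^ l), pow_mul, hl', one_pow, inv_one, one_mul,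
        mul_comm (2 ^ l) (2 ^ k), pow_mul, conj_pow, hk', mul_one, mul_inv_cancel, one_pow]
    have e1 : q⁻¹ * (g * a * g⁻¹) = 1 := by
      refine orderOf_eq_one_iff.1 (Nat.eq_one_of_dvd_coprimes ((Nat.coprime_two_left.2 hO).pow_left (k + l))
        ?_ (Subgroup.orderOf_dvd_natCard O ho))
      rw [pow_add]
      exact orderOf_dvd_of_pow_eq_one e0
    rw [← inv_mul_eq_one.1 e1]
    exact hq
  have heq : Cfsg.pCore 2 G = (S : Subgroup G) ⊓ P :=
    le_antisymm (le_inf (CfsgLib.PCore.pCore_le_sylow S) (map_le_iff_le_comap.1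
      (CfsgLib.PCore.map_pCore_le π hsur))) (CfsgLib.PCore.le_pCore hn (S.2.to_le inf_le_left))
  refine ⟨le_antisymm (sup_le (heq ▸ inf_le_right) (le_trans (by rw [QuotientGroup.ker_mk']) (ker_le_comap π _))) ?_, ?_⟩
  · intro x hx
    obtain ⟨s, hs, hse⟩ := hlift _ hx
    have : x = s * (s⁻¹ * x) := by group
    rw [this]
    exact mul_mem_sup (heq ▸ hs) (QuotientGroup.eq.1 hse)
  · refine ⟨MulEquiv.ofBijective ((π.comp (Cfsg.pCore 2 G).subtype).codRestrict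
      (Cfsg.pCore 2 (G ⧸ O)) fun x => CfsgLib.PCore.map_pCore_le π hsur ⟨x, x.2, rfl⟩) ⟨?_, ?_⟩⟩
    · intro x y hxy
      exact Subtype.ext (injOn_sylow hO (CfsgLib.PCore.pCore_le_sylow S x.2)
        (CfsgLib.PCore.pCore_le_sylow S y.2) (congrArg Subtype.val hxy))
    · rintro ⟨x, hx⟩
      obtain ⟨s, hs, hse⟩ := hlift x hx
      exact ⟨⟨s, heq ▸ hs⟩, Subtype.ext hse⟩

/-- An elementary abelian subgroup of order eight of a Sylow 2-subgroup of the quotient makes a Sylow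
2-subgroup centralise the odd normal subgroup. -/
theorem exists_commute_of_eight (h : FourUnique G) (hO : Odd (Nat.card O))
    {S' : Sylow 2 (G ⧸ O)} {z : G ⧸ O} (h8 : HasEight (S' : Subgroup (G ⧸ O)) z) :
    ∃ S : Sylow 2 G, ∀ o ∈ O, ∀ s ∈ (S : Subgroup G), Commute o s := by
  haveI : Fact (Nat.Prime 2) := ⟨Nat.prime_two⟩
  have hsur := QuotientGroup.mk'_surjective O
  obtain ⟨S, hS⟩ := Sylow.mapSurjective_surjective hsur 2 S'
  obtain ⟨E', hE', -, hc', h2', h8'⟩ := h8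
  rw [← hS, Sylow.coe_mapSurjective] at hE'
  set E := (S : Subgroup G) ⊓ E'.comap (QuotientGroup.mk' O)
  have hcomm : IsMulCommutative E := ⟨⟨fun a b => Subtype.ext (injOn_sylow hO (mul_mem a.2.1 b.2.1)
    (mul_mem b.2.1 a.2.1) (by
      show QuotientGroup.mk' O ((a : G) * b) = QuotientGroup.mk' O ((b : G) * a)
      rw [map_mul, map_mul]
      exact congrArg Subtype.val (hc'.is_comm.comm (⟨_, a.2.2⟩ : E') ⟨_, b.2.2⟩)))⟩⟩
  have h2 : ∀ e ∈ E, e * e = 1 := fun e he => eq_one_of_odd hO (mul_mem he.1 he.1)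
    ((QuotientGroup.eq_one_iff _).1 (by
      have := h2' _ he.2
      rwa [← map_mul] at this))
  refine ⟨S, fun o ho s hs => h.commute_odd (E := E) inf_le_left hcomm h2 ?_ hO ho hs⟩
  refine h8'.trans (Nat.card_le_card_of_surjective
    (fun x : E => (⟨QuotientGroup.mk' O x.1, x.2.2⟩ : E')) ?_)
  rintro ⟨y, hy⟩
  obtain ⟨x, hx, rfl⟩ := hE' hy
  exact ⟨⟨x, hx, hy⟩, rfl⟩

end OddCore

/-- Third isomorphism theorem for a preimage. -/
theorem comap_quotient_equiv {K : Type*} [Group K] {π : G →* K} (hπ : Function.Surjective π)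
    (H N : Subgroup K) [(N.subgroupOf H).Normal] [((N.comap π).subgroupOf (H.comap π)).Normal] :
    Nonempty (↥(H.comap π) ⧸ (N.comap π).subgroupOf (H.comap π) ≃* ↥H ⧸ N.subgroupOf H) := by
  let φ : ↥(H.comap π) →* ↥H ⧸ N.subgroupOf H :=
    (QuotientGroup.mk' (N.subgroupOf H)).comp
      ((π.comp (H.comap π).subtype).codRestrict H fun x => x.2)
  have hφ : Function.Surjective φ := by
    intro q
    obtain ⟨⟨y, hy⟩, rfl⟩ := QuotientGroup.mk'_surjective _ q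
    obtain ⟨x, rfl⟩ := hπ y
    exact ⟨⟨x, hy⟩, rfl⟩
  have hker : φ.ker = (N.comap π).subgroupOf (H.comap π) := by
    ext x
    rw [MonoidHom.mem_ker, mem_subgroupOf, mem_comap]
    exact (QuotientGroup.eq_one_iff _).trans mem_subgroupOf
  exact ⟨(QuotientGroup.quotientMulEquivOfEq hker.symm).trans
    (QuotientGroup.quotientKerEquivOfSurjective φ hφ)⟩

/-- The theorem, given its core-free case. -/
theorem statement_of_main (hM : MainGoal.{u}) {G : Type u} [Group G] [Finite G]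
    (hns : ¬ Group.IsSolvable G)
    (hI : ∀ S T : Sylow 2 G, S ≠ T → Cfsg.PRankLE 2 1 ↥((S : Subgroup G) ⊓ (T : Subgroup G)))
    (hnC : ∃ S T : Sylow 2 (G ⧸ Cfsg.oddCore G), S ≠ T ∧
      ¬ IsCyclic ↥((S : Subgroup (G ⧸ Cfsg.oddCore G)) ⊓ (T : Subgroup (G ⧸ Cfsg.oddCore G))))
    (hnQ : ∀ S : Sylow 2 G, ∀ n : ℕ, IsEmpty (↥(S : Subgroup G) ≃* QuaternionGroup (2 ^ (n + 1)))) :
    (∃ (G₁ : Subgroup G) (_ : G₁.Normal) (_ : ((Cfsg.pCore 2 G ⊔ Cfsg.oddCore G).subgroupOf G₁).Normal),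
      Odd G₁.index ∧ Cfsg.pCore 2 G ⊔ Cfsg.oddCore G ≤ G₁ ∧
      (∃ n : ℕ, Nonempty (↥(Cfsg.pCore 2 G) ≃* QuaternionGroup (2 ^ (n + 1)))) ∧
      ((∃ (n : ℕ) (F : Type) (_ : Field F) (_ : Fintype F), 2 ≤ n ∧ Fintype.card F = 2 ^ n ∧
          Nonempty (↥G₁ ⧸ (Cfsg.pCore 2 G ⊔ Cfsg.oddCore G).subgroupOf G₁ ≃* Matrix.ProjectiveSpecialLinearGroup (Fin 2) F)) ∨
       (∃ (m : ℕ) (F : Type) (_ : Field F) (_ : Fintype F), 1 ≤ m ∧ Fintype.card F = 2 ^ (2 * m + 1) ∧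
          Nonempty (↥G₁ ⧸ (Cfsg.pCore 2 G ⊔ Cfsg.oddCore G).subgroupOf G₁ ≃* ↥(Cfsg.Lie.Sz F (2 ^ (m + 1))))) ∨
       (∃ (n : ℕ) (F : Type) (_ : Field F) (_ : Fintype F), 2 ≤ n ∧ Fintype.card F = 4 ^ n ∧
          Nonempty (↥G₁ ⧸ (Cfsg.pCore 2 G ⊔ Cfsg.oddCore G).subgroupOf G₁ ≃* Cfsg.PSU 3 F (2 ^ n))))) ∨
    (∃ (G₁ : Subgroup G) (_ : G₁.Normal) (_ : ((Cfsg.oddCore G).subgroupOf G₁).Normal),
      (Odd G₁.index ∨ ∃ k : ℕ, Odd k ∧ G₁.index = 2 * k) ∧ Cfsg.oddCore G ≤ G₁ ∧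
      ∃ (Z : Subgroup (Matrix.SpecialLinearGroup (Fin 2) (ZMod 5) × Matrix.SpecialLinearGroup (Fin 2) (ZMod 5))) (_ : Z.Normal),
        Z = Subgroup.zpowers ((-1 : Matrix.SpecialLinearGroup (Fin 2) (ZMod 5)), (-1 : Matrix.SpecialLinearGroup (Fin 2) (ZMod 5))) ∧
        Nonempty (↥G₁ ⧸ (Cfsg.oddCore G).subgroupOf G₁ ≃*
          (Matrix.SpecialLinearGroup (Fin 2) (ZMod 5) × Matrix.SpecialLinearGroup (Fin 2) (ZMod 5)) ⧸ Z)) := by
  haveI : Fact (Nat.Prime 2) := ⟨Nat.prime_two⟩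
  have hOodd : Odd (Nat.card (Cfsg.oddCore G)) :=
    Nat.coprime_two_right.1 CfsgLib.PCore.pPrimeCore_coprime
  have hF : FourUnique G := fourUnique_of_inter hI
  have hFY : FourUnique (G ⧸ Cfsg.oddCore G) := hF.quotient _ hOodd
  have hOY : Cfsg.oddCore (G ⧸ Cfsg.oddCore G) = ⊥ := CfsgLib.InvChar.oddCore_quotient_oddCore
  have hnsY : ¬ Group.IsSolvable (G ⧸ Cfsg.oddCore G) := by
    intro hs
    haveI := hs
    haveI := CfsgLib.PF.oddSolvable ↥(Cfsg.oddCore G) hOodd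
    exact hns (Group.isSolvable_of_ker_le_range (Cfsg.oddCore G).subtype
      (QuotientGroup.mk' (Cfsg.oddCore G)) (by rw [QuotientGroup.ker_mk', range_subtype]))
  obtain ⟨S, T, hne, hnc⟩ := hnC
  have hrk : ∀ S₁ : Sylow 2 (G ⧸ Cfsg.oddCore G), ¬ Cfsg.PRankLE 2 1 (S₁ : Subgroup (G ⧸ Cfsg.oddCore G)) := by
    intro S₁ hr
    rcases cyclic_or_quaternion S₁.2 hr with hc | ⟨n, ⟨e⟩⟩
    · haveI := hc
      haveI : IsCyclic (S : Subgroup (G ⧸ Cfsg.oddCore G)) :=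
        isCyclic_of_surjective (S₁.equiv S) (S₁.equiv S).surjective
      exact hnc (isCyclic_of_injective _ (Subgroup.inclusion_injective
        (inf_le_left : (S : Subgroup (G ⧸ Cfsg.oddCore G)) ⊓ T ≤ S)))
    · obtain ⟨T0⟩ : Nonempty (Sylow 2 G) := inferInstance
      obtain ⟨T1, ⟨e1⟩⟩ := CfsgLib.InvChar.exists_sylow_quotient_equiv T0
      exact (hnQ T0 n).false (e1.trans ((T1.equiv S₁).trans e))
  rcases hM _ hFY hOY hrk (exists_component_of_two hFY hOY hnsY hne) ⟨S, T, hne, hnc⟩ with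
    ⟨⟨H, hHn, hn', hodd, hle, ⟨n, ⟨eQ⟩⟩, h3⟩, S', z, h8⟩ | ⟨E, hEn, hidx, Z, hZn, hZ, ⟨eE⟩⟩
  · left
    haveI := hHn
    haveI := hn'
    obtain ⟨S₀, hS₀⟩ := exists_commute_of_eight hF hOodd h8
    obtain ⟨hP, ⟨eP⟩⟩ := pCore_lift hOodd S₀ hS₀
    have hsur := QuotientGroup.mk'_surjective (Cfsg.oddCore G)
    rw [hP]
    refine ⟨H.comap (QuotientGroup.mk' _), inferInstance, inferInstance, ?_, comap_mono hle,
      ⟨n, ⟨eP.trans eQ⟩⟩, ?_⟩
    · rwa [index_comap_of_surjective _ hsur]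
    · obtain ⟨e⟩ := comap_quotient_equiv hsur H (Cfsg.pCore 2 (G ⧸ Cfsg.oddCore G))
      exact h3.of_equiv e
  · right
    haveI := hEn
    haveI := hZn
    have hsur := QuotientGroup.mk'_surjective (Cfsg.oddCore G)
    refine ⟨E.comap (QuotientGroup.mk' _), inferInstance, inferInstance, ?_,
      le_trans (by rw [QuotientGroup.ker_mk']) (ker_le_comap (QuotientGroup.mk' (Cfsg.oddCore G)) E), Z, hZn, hZ, ?_⟩
    · rwa [index_comap_of_surjective _ hsur]
    · obtain ⟨e⟩ := comap_quotient_equiv hsur E ⊥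
      have hbot : (⊥ : Subgroup (G ⧸ Cfsg.oddCore G)).comap (QuotientGroup.mk' _) = Cfsg.oddCore G :=
        QuotientGroup.ker_mk' _
      exact ⟨(QuotientGroup.quotientMulEquivOfEq (by rw [hbot])).trans (e.trans
        (((QuotientGroup.quotientMulEquivOfEq (bot_subgroupOf E)).trans QuotientGroup.quotientBot).trans eE))⟩

end CfsgLib.Inter10
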