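import Cfsg.Agent.Lib.Fusion.DihedralTop
import Cfsg.Agent.Lib.Recognition.AutQ8
import Cfsg.Prelude.Def_KGroupFacts

/-!
An involutory automorphism of a quaternion group commuting with an automorphism of odd order is inner.
-/

set_option autoImplicit false
set_option linter.style.haveILetI false

namespace CfsgLib.Inter10

universe u

theorem perm_four_eq_one : ∀ a b : Equiv.Perm (Fin 4),
    a * a = 1 ∧ b * b * b = 1 ∧ a * b = b * a → b = 1 ∨ a = 1 := by
  decide +kernel

/-- An involutory automorphism commuting with a nontrivial one of odd order is trivial, so inner. -/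
theorem quat_inner_of_commute {P : Type u} [Group P] [Finite P] {n : ℕ}
    (e : P ≃* QuaternionGroup (2 ^ (n + 1))) (α β : MulAut P) (hα : α * α = 1)
    (hβ : Odd (orderOf β)) (hβ1 : β ≠ 1) (hc : Commute α β) : α ∈ Cfsg.Inn P := by
  haveI : Fact (Nat.Prime 2) := ⟨Nat.prime_two⟩
  set φ := MulAut.congr e
  rcases Nat.eq_zero_or_pos n with rfl | hn
  · obtain ⟨f, hf⟩ := CfsgLib.Recognition.AutQ8.exists_injective_hom
    let F : MulAut P →* Equiv.Perm (Fin 4) :=
      f.comp (show MulAut P →* MulAut (QuaternionGroup 2) from φ.toMonoidHom)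
    have hF : Function.Injective F := hf.comp φ.injective
    have ho : orderOf (F β) ∣ 3 := by
      rw [orderOf_injective F hF]
      have h24 : orderOf β ∣ 2 ^ 3 * 3 := by
        rw [← orderOf_injective F hF β]
        exact (orderOf_dvd_natCard _).trans (dvd_of_eq (by
          rw [Nat.card_perm, Nat.card_fin]; rfl))
      exact ((Nat.coprime_two_right.2 hβ).pow_right 3).dvd_of_dvd_mul_left h24
    have h1 : F α = 1 := (perm_four_eq_one _ (F β) ⟨by rw [← map_mul, hα, map_one], by
        have := orderOf_dvd_iff_pow_eq_one.1 ho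
        rwa [pow_succ, pow_two] at this, (hc.map F).eq⟩).resolve_left
      fun h => hβ1 (hF (h.trans (map_one F).symm))
    rw [hF (h1.trans (map_one F).symm)]
    exact one_mem _
  · refine absurd ?_ hβ1
    obtain ⟨k, hk⟩ := IsPGroup.iff_orderOf.1
      ((CfsgLib.Fusion.isPGroup_mulAut_quaternion (n + 1) (by omega)).of_equiv φ.symm) β
    rw [← orderOf_eq_one_iff, hk]
    rcases Nat.eq_zero_or_pos k with rfl | hk0
    · rfl
    · rw [hk] at hβ
      exact absurd hβ (Nat.not_odd_iff_even.2 ((Nat.even_pow' hk0.ne').2 even_two))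

end CfsgLib.Inter10
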