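import Cfsg.Agent.Lib.Inter10.RankOneCase
import Cfsg.Agent.Lib.Inter10.QuatAut
import Cfsg.Agent.S0219

/-!
S3310: a single component of 2-rank one with no twisting element in `O₂` is impossible.
-/

set_option autoImplicit false
set_option linter.style.haveILetI false
set_option linter.unusedSectionVars false

namespace CfsgLib.Inter10

open Subgroup Pointwise CfsgLib.Involutions CfsgLib.Components

universe u

/-- An element of odd order centralising a Sylow 2-subgroup of a group of rank one is trivial. -/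
def CentSylGoal : Prop :=
  ∀ (L : Type u) [Group L] [Finite L], Cfsg.IsQuasisimple L → Cfsg.oddCore L = ⊥ → Cfsg.PRankLE 2 1 L →
    ∀ (P : Sylow 2 L) (y : L), Odd (orderOf y) → (∀ x ∈ (P : Subgroup L), Commute y x) → y = 1

variable {G : Type u} [Group G] [Finite G]

theorem no_twist_case (hOI : OuterInvolGoal.{u}) (hCy : CentSylGoal.{u}) (hF : FourUnique G)
    (hO : Cfsg.oddCore G = ⊥) {S : Sylow 2 G} (hS : ¬ Cfsg.PRankLE 2 1 (S : Subgroup G)) {L : Subgroup G}
    (hL : Cfsg.IsComponent L) [hLn : L.Normal] (hr : Cfsg.PRankLE 2 1 L) {z : G} (hz : orderOf z = 2)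
    (hzc : ∀ g : G, Commute g z) (hzL : z ∈ L) (hCL : centralizer (L : Set G) ≤ L) : False := by
  haveI : Fact (Nat.Prime 2) := ⟨Nat.prime_two⟩
  have hOL : Cfsg.oddCore L = ⊥ := oddCore_component hO hL
  obtain ⟨a, ha, b, hb, ha2, hb2, hab, -⟩ := exists_pair_of_not_rank hS
  obtain ⟨v, hvS, hv, hvz⟩ : ∃ v ∈ (S : Subgroup G), orderOf v = 2 ∧ v ≠ z := by
    rcases eq_or_ne a z with e | e
    · exact ⟨b, hb, hb2, fun h => hab (e.trans h.symm)⟩
    · exact ⟨a, ha, ha2, e⟩
  have hvL : v ∉ L := fun h => hvz (eq_of_rank_one hr hz hzc hzL h hv)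
  obtain ⟨P, hP⟩ := exists_sylow_inf S L
  obtain ⟨i, hi, hii, -, -⟩ := exists_sq_mem hL hO hr hz hzc hzL P
  rw [hP, mem_subgroupOf] at hi
  have hzS : z ∈ (S : Subgroup G) := hii ▸ mul_mem hi hi
  set φ : MulAut L := MulAut.conjNormal v with hφ
  have hφ2 : φ * φ = 1 := by rw [hφ, ← map_mul, mul_self_eq_one hv, map_one]
  have hφI : φ ∉ Cfsg.Inn L := by
    rintro ⟨l, hl⟩
    have hc : (l : G)⁻¹ * v ∈ centralizer (L : Set G) := mem_centralizer_iff.2 fun g hg => by
      have h1 : (l : G) * g * (l : G)⁻¹ = v * g * v⁻¹ := by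
        have := congrArg (fun f : MulAut L => ((f ⟨g, hg⟩ : L) : G)) hl
        simpa [hφ, MulAut.conjNormal_apply] using this
      calc g * ((l : G)⁻¹ * v) = (l : G)⁻¹ * ((l : G) * g * (l : G)⁻¹) * v := by group
        _ = (l : G)⁻¹ * v * g := by rw [h1]; group
    refine hvL ?_
    rw [show v = (l : G) * ((l : G)⁻¹ * v) by group]
    exact mul_mem l.2 (hCL hc)
  obtain ⟨y, hy1, hyo, hyf⟩ := hOI L hL.2 hOL hr φ hφ2 hφI
  have hyv : Commute (y : G) v := by
    have h1 := congrArg Subtype.val hyf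
    rw [hφ, MulAut.conjNormal_apply] at h1
    exact (mul_inv_eq_iff_eq_mul.1 h1).symm
  have hyN : (y : G) ∈ normalizer ((S : Subgroup G) : Set G) :=
    hF.mem_normalizer hv hz hvz (hzc v) hvS hzS hyv (hzc y)
  set Q := (S : Subgroup G) ⊓ L with hQ
  have hN : ∀ g ∈ normalizer ((S : Subgroup G) : Set G), g ∈ normalizer (Q : Set G) := fun g hg =>
    mem_normalizer_iff.2 fun x => ⟨fun hx => ⟨(mem_set_normalizer_iff.1 hg x).1 hx.1, hLn.conj_mem x hx.2 g⟩,
      fun hx => ⟨(mem_set_normalizer_iff.1 hg x).2 hx.1, by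
        simpa [mul_assoc] using hLn.conj_mem _ hx.2 g⁻¹⟩⟩
  let α := normalizerMonoidHom Q ⟨v, hN v (le_normalizer hvS)⟩
  let β := normalizerMonoidHom Q ⟨y, hN y hyN⟩
  have hQp : IsPGroup 2 Q := S.2.to_le inf_le_left
  have hQr : Cfsg.PRankLE 2 1 Q := by
    by_contra hn
    obtain ⟨s, hs, t, ht, hs2, ht2, hne, hc⟩ := exists_pair_of_not_rank hn
    exact not_rank_of_pair hs.2 ht.2 hs2 ht2 hne hc hr
  obtain ⟨n, ⟨e⟩⟩ : ∃ n : ℕ, Nonempty (Q ≃* QuaternionGroup (2 ^ (n + 1))) := by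
    rcases cyclic_or_quaternion hQp hQr with h | h
    · exfalso
      haveI := hL.2.1
      have hcyc : IsCyclic (P : Subgroup L) := by
        let f : (P : Subgroup L) →* Q :=
          (L.subtype.comp (P : Subgroup L).subtype).codRestrict Q fun x =>
            ⟨mem_subgroupOf.1 (hP ▸ x.2), (x : L).2⟩
        exact isCyclic_of_injective f fun x x' hxx =>
          Subtype.ext (Subtype.ext (congrArg (fun w : Q => (w : G)) hxx))
      obtain ⟨H, hH⟩ := Cfsg.Agent.S0219.result (Nat.not_odd_iff_even.1 fun ho =>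
        quasisimple_not_isSolvable hL.2 (CfsgLib.PF.oddSolvable L ho)) P hcyc
      exact CfsgLib.GWCons.RankOneCover.index_ne_two H hH
    · exact h
  have hα2 : α * α = 1 := by
    show normalizerMonoidHom Q _ * normalizerMonoidHom Q _ = 1
    rw [← map_mul, ← map_one (normalizerMonoidHom Q)]
    exact congrArg _ (Subtype.ext (mul_self_eq_one hv))
  have hαβ : Commute α β := (show Commute (⟨v, hN v (le_normalizer hvS)⟩ : normalizer (Q : Set G))
    ⟨y, hN y hyN⟩ from Subtype.ext hyv.eq.symm).map (normalizerMonoidHom Q)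
  have hβo : Odd (orderOf β) := by
    refine hyo.of_dvd_nat ((orderOf_map_dvd _ _).trans (dvd_of_eq ?_))
    rw [← Subgroup.orderOf_coe, Subgroup.orderOf_coe y]
  have hβ1 : β ≠ 1 := fun h => hy1 (hCy L hL.2 hOL hr P y hyo fun x hx => Subtype.ext (by
    have hxQ : (x : G) ∈ Q := ⟨mem_subgroupOf.1 (hP ▸ hx), x.2⟩
    have h1 : (y : G) * x * (y : G)⁻¹ = x := congrArg (fun f : MulAut Q => ((f ⟨x, hxQ⟩ : Q) : G)) h
    exact mul_inv_eq_iff_eq_mul.1 h1))
  obtain ⟨q, hq⟩ := quat_inner_of_commute e α β hα2 hβo hβ1 hαβ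
  have hf : (q : G)⁻¹ * v ∈ centralizer (L : Set G) := by
    refine mem_centralizer_of_sylow hOL hzc hz (fun x hx hx2 => eq_of_rank_one hr hz hzc hzL hx hx2)
      (S := S) (mul_mem (inv_mem (inf_le_left (b := L) q.2)) hvS) fun x hx => ?_
    have h1 : (q : G) * x * (q : G)⁻¹ = v * x * v⁻¹ :=
      congrArg (fun f : MulAut Q => ((f ⟨x, hx⟩ : Q) : G)) hq
    show (q : G)⁻¹ * v * x = x * ((q : G)⁻¹ * v)
    calc (q : G)⁻¹ * v * x = (q : G)⁻¹ * (v * x * v⁻¹) * v := by group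
      _ = x * ((q : G)⁻¹ * v) := by rw [← h1]; group
  refine hvL ?_
  rw [show v = (q : G) * ((q : G)⁻¹ * v) by group]
  exact mul_mem q.2.2 (hCL hf)

end CfsgLib.Inter10
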