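import Cfsg.Agent.Lib.Inter10.Targets
import Cfsg.Agent.Lib.InvChar.SLTwo
import Cfsg.Agent.Lib.SpecLin.SLTwoTrace

/-!
Two commuting copies of `SL(2,5)` with a common involution generate their central product.
-/

set_option autoImplicit false
set_option linter.style.haveILetI false

namespace CfsgLib.Inter10

open Subgroup Matrix

universe u

local notation "SL5" => Matrix.SpecialLinearGroup (Fin 2) (ZMod 5)

theorem center_five {a : SL5} (ha : a ∈ center SL5) : a = 1 ∨ a = -1 := by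
  haveI : Fact (Nat.Prime 5) := ⟨by norm_num⟩
  rcases CfsgLib.SpecLin.SLTwo.mem_center_iff'.1 ha with h | h
  · exact Or.inl (Subtype.ext h)
  · exact Or.inr (Subtype.ext (h.trans (by simp)))

theorem two_central {G : Type u} [Group G] {L K : Subgroup G} (e : L ≃* SL5)
    (hc : ∀ x ∈ L, ∀ y ∈ K, x * y = y * x) {x : G} (hxL : x ∈ L) (hxK : x ∈ K) :
    e ⟨x, hxL⟩ = 1 ∨ e ⟨x, hxL⟩ = -1 := by
  refine center_five (mem_center_iff.2 fun g => ?_)
  obtain ⟨y, rfl⟩ := e.surjective g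
  rw [← map_mul, ← map_mul]
  exact congrArg e (Subtype.ext (hc y y.2 x hxK))

theorem twoSL_of_commuting {G : Type u} [Group G] [Finite G] {L1 L2 : Subgroup G} {z : G}
    (e1 : Nonempty (L1 ≃* SL5)) (e2 : Nonempty (L2 ≃* SL5))
    (hc : L1 ≤ centralizer (L2 : Set G)) (hz : orderOf z = 2) (hz1 : z ∈ L1) (hz2 : z ∈ L2)
    (_hne : L1 ≠ L2) : TwoSL ↥(L1 ⊔ L2) := by
  haveI : Fact (Nat.Prime 5) := ⟨by norm_num⟩
  obtain ⟨e1⟩ := e1
  obtain ⟨e2⟩ := e2
  have hcom : ∀ x ∈ L1, ∀ y ∈ L2, x * y = y * x := fun x hx y hy =>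
    (mem_centralizer_iff.1 (hc hx) y hy).symm
  have hz1' : (⟨z, hz1⟩ : L1) ≠ 1 := fun e => by
    rw [show z = 1 from congrArg Subtype.val e, orderOf_one] at hz; omega
  have hz2' : (⟨z, hz2⟩ : L2) ≠ 1 := fun e => by
    rw [show z = 1 from congrArg Subtype.val e, orderOf_one] at hz; omega
  have a1 : e1 ⟨z, hz1⟩ = -1 :=
    (two_central e1 hcom hz1 hz2).resolve_left fun e => hz1' (e1.injective (e.trans (map_one e1).symm))
  have a2 : e2 ⟨z, hz2⟩ = -1 :=
    (two_central e2 (fun x hx y hy => (hcom y hy x hx).symm) hz2 hz1).resolve_left fun e =>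
      hz2' (e2.injective (e.trans (map_one e2).symm))
  let f1 : SL5 →* ↥(L1 ⊔ L2) := (inclusion le_sup_left).comp e1.symm.toMonoidHom
  let f2 : SL5 →* ↥(L1 ⊔ L2) := (inclusion le_sup_right).comp e2.symm.toMonoidHom
  let f : SL5 × SL5 →* ↥(L1 ⊔ L2) := MonoidHom.noncommCoprod f1 f2 fun m n =>
    Subtype.ext (hcom _ (e1.symm m).2 _ (e2.symm n).2)
  have hv1 : ((e1.symm (-1) : L1) : G) = z := by rw [← a1, MulEquiv.symm_apply_apply]
  have hv2 : ((e2.symm (-1) : L2) : G) = z := by rw [← a2, MulEquiv.symm_apply_apply]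
  have hzz : z * z = 1 := by rw [← pow_two, ← hz, pow_orderOf_eq_one]
  have hker : f.ker = zpowers ((-1 : SL5), (-1 : SL5)) := by
    refine le_antisymm ?_ (zpowers_le.2 ?_)
    · rintro ⟨a, b⟩ hab
      have h0 : ((e1.symm a : L1) : G) * (e2.symm b : L2) = 1 := congrArg Subtype.val hab
      have h1 : ((e1.symm a : L1) : G) ∈ L2 := by
        rw [eq_inv_of_mul_eq_one_left h0]; exact inv_mem (e2.symm b).2
      have ha := two_central e1 hcom (e1.symm a).2 h1
      rw [Subtype.coe_eta, MulEquiv.apply_symm_apply] at ha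
      rcases ha with rfl | rfl
      · rw [map_one, OneMemClass.coe_one, one_mul] at h0
        have : b = 1 := e2.symm.injective (Subtype.ext (h0.trans (by rw [map_one]; rfl)))
        rw [this]
        exact one_mem _
      · rw [hv1] at h0
        have : b = -1 := e2.symm.injective (Subtype.ext (by
          rw [hv2, ← inv_eq_of_mul_eq_one_right h0, inv_eq_of_mul_eq_one_right hzz]))
        rw [this]
        exact mem_zpowers _
    · refine Subtype.ext ?_
      show ((e1.symm (-1) : L1) : G) * (e2.symm (-1) : L2) = 1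
      rw [hv1, hv2, hzz]
  have hf : Function.Surjective f := by
    rintro ⟨w, hw⟩
    obtain ⟨x, hx, y, hy, rfl⟩ := CfsgLib.InvChar.mem_sup_of_commute hcom hw
    refine ⟨(e1 ⟨x, hx⟩, e2 ⟨y, hy⟩), Subtype.ext ?_⟩
    show ((e1.symm (e1 ⟨x, hx⟩) : L1) : G) * (e2.symm (e2 ⟨y, hy⟩) : L2) = x * y
    rw [MulEquiv.symm_apply_apply, MulEquiv.symm_apply_apply]
  haveI hn : (zpowers ((-1 : SL5), (-1 : SL5))).Normal := hker ▸ (inferInstance : f.ker.Normal)
  exact ⟨_, hn, rfl, ⟨(QuotientGroup.quotientKerEquivOfSurjective f hf).symm.trans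
    (QuotientGroup.quotientMulEquivOfEq hker)⟩⟩

end CfsgLib.Inter10
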