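import Cfsg.Agent.Lib.Inter10.RankOneCase
import Cfsg.Agent.Lib.Inter10.TwoSLIso

/-!
S3310: two components of 2-rank one give conclusion (b).
-/

set_option autoImplicit false
set_option linter.style.haveILetI false
set_option linter.unusedSectionVars false

namespace CfsgLib.Inter10

open Subgroup Pointwise CfsgLib.Involutions CfsgLib.Components

universe u

variable {G : Type u} [Group G] [Finite G]

theorem subgroupOf_facts {N L : Subgroup G} (hLN : L ≤ N) (hq : Cfsg.IsQuasisimple L)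
    (hO : Cfsg.oddCore L = ⊥) (hr : Cfsg.PRankLE 2 1 L) :
    Cfsg.IsQuasisimple (L.subgroupOf N) ∧ Cfsg.oddCore (L.subgroupOf N) = ⊥ ∧
      Cfsg.PRankLE 2 1 (L.subgroupOf N) := by
  haveI : Fact (Nat.Prime 2) := ⟨Nat.prime_two⟩
  refine ⟨isQuasisimple_of_mulEquiv hq (subgroupOfEquivOfLe hLN).symm,
    CfsgLib.PCore.pPrimeCore_eq_bot_of_equiv (subgroupOfEquivOfLe hLN).symm hO, ?_⟩
  by_contra hn
  obtain ⟨s, hs, t, ht, hs2, ht2, hne, hc⟩ := exists_pair_of_not_rank hn
  exact not_rank_of_pair (mem_subgroupOf.1 hs) (mem_subgroupOf.1 ht)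
    (by rw [Subgroup.orderOf_coe]; exact hs2) (by rw [Subgroup.orderOf_coe]; exact ht2)
    (fun e => hne (Subtype.ext e)) (congrArg Subtype.val hc.eq) hr

theorem twist_subgroupOf {N L : Subgroup G} {z c : G} (h : Twist L z c) (hLN : L ≤ N) (hc : c ∈ N) :
    Twist (L.subgroupOf N) (⟨z, hLN h.zL⟩ : N) ⟨c, hc⟩ where
  z2 := (Subgroup.orderOf_mk z (hLN h.zL)).trans h.z2
  zc g := Subtype.ext (h.zc g).eq
  zL := mem_subgroupOf.2 h.zL
  cC := mem_centralizer_iff.2 fun g hg => Subtype.ext (mem_centralizer_iff.1 h.cC g (mem_subgroupOf.1 hg))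
  cc := Subtype.ext h.cc
  cL hcL := h.cL (mem_subgroupOf.1 hcL)

theorem two_component_case (hF : FourUnique G) (hO : Cfsg.oddCore G = ⊥) {z : G} (hz : orderOf z = 2)
    (hzc : ∀ g : G, Commute g z) (hzL : ∀ L : Subgroup G, Cfsg.IsComponent L → z ∈ L)
    (hr : ∀ L : Subgroup G, Cfsg.IsComponent L → Cfsg.PRankLE 2 1 L) {L1 L2 : Subgroup G}
    (h1 : Cfsg.IsComponent L1) (h2 : Cfsg.IsComponent L2) (hne : L1 ≠ L2) : TargetB G := by
  haveI : Fact (Nat.Prime 2) := ⟨Nat.prime_two⟩
  have hC12 : ∀ A B : Subgroup G, Cfsg.IsComponent A → Cfsg.IsComponent B → A ≠ B →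
      A ≤ centralizer (B : Set G) := fun A B hA hB hAB =>
    le_centralizer_of_commutator_eq_bot (commutator_components_eq_bot hA hB hAB)
  have htw : ∀ A B : Subgroup G, Cfsg.IsComponent A → Cfsg.IsComponent B → A ≠ B →
      ∃ c ∈ B, Twist A z c := by
    intro A B hA hB hAB
    obtain ⟨P⟩ : Nonempty (Sylow 2 B) := inferInstance
    obtain ⟨i, -, hii, hi1, hiz⟩ := exists_sq_mem hB hO (hr B hB) hz hzc (hzL B hB) P
    exact ⟨i, i.2, Twist.of_centralizer hz hzc (hzL A hA) (rankOne_facts hA.2 (oddCore_component hO hA) (hr A hA)).1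
      (hC12 B A hB hA hAB.symm i.2) hii hi1 hiz⟩
  -- no twisting element centralises two components
  have hno : ∀ c : G, c * c = z → c ≠ 1 → c ≠ z → c ∈ centralizer (L1 : Set G) →
      c ∈ centralizer (L2 : Set G) → False := by
    intro c hcc hc1 hc2 hcA hcB
    obtain ⟨P⟩ : Nonempty (Sylow 2 L1) := inferInstance
    obtain ⟨i, -, hii, -, -⟩ := exists_sq_mem h1 hO (hr L1 h1) hz hzc (hzL L1 h1) P
    obtain ⟨e1, e2, -⟩ := (Twist.of_centralizer hz hzc (hzL L1 h1)
      (rankOne_facts h1.2 (oddCore_component hO h1) (hr L1 h1)).1 hcA hcc hc1 hc2).involution i.2 hii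
    exact e2 (eq_of_centralizes_component hF h2 hz hzc e1 (mul_mem (hC12 L1 L2 h1 h2 hne i.2) hcB))
  have honly : ∀ K : Subgroup G, Cfsg.IsComponent K → K = L1 ∨ K = L2 := by
    intro K hK
    by_contra hK'
    push Not at hK'
    obtain ⟨P⟩ : Nonempty (Sylow 2 K) := inferInstance
    obtain ⟨i, -, hii, hi1, hiz⟩ := exists_sq_mem hK hO (hr K hK) hz hzc (hzL K hK) P
    exact hno i hii hi1 hiz (hC12 K L1 hK h1 hK'.1 i.2) (hC12 K L2 hK h2 hK'.2 i.2)
  set N := normalizer (L1 : Set G) with hNdef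
  have hL1N : L1 ≤ N := le_normalizer
  have hL2N : L2 ≤ N := component_le_normalizer h2 h1
  -- the normaliser has index at most two and normalises `L2`
  have hmove : ∀ g : G, g ∉ N → L1.map (MulAut.conj g).toMonoidHom = L2 := fun g hg => by
    rcases honly _ (isComponent_conj g h1) with h | h
    · exact absurd (mem_normalizer_iff_map_conj_eq.mpr h) hg
    · exact h
  have hN2 : N ≤ normalizer (L2 : Set G) := by
    intro g hg
    refine mem_normalizer_iff_map_conj_eq.mpr ?_
    rcases honly _ (isComponent_conj g h2) with h | h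
    · exact absurd ((Subgroup.map_injective (f := (MulAut.conj g).toMonoidHom) (MulAut.conj g).injective)
        ((mem_normalizer_iff_map_conj_eq.mp hg).trans h.symm)) hne
    · exact h
  have hidx : N.index ≤ 2 := by
    classical
    have hinj : Function.Injective (fun q : G ⧸ N => decide (q.out ∈ N)) := by
      intro q r h
      have h' : (q.out ∈ N) ↔ (r.out ∈ N) := by simpa using h
      rw [← QuotientGroup.out_eq' q, ← QuotientGroup.out_eq' r, QuotientGroup.eq]
      by_cases hq : q.out ∈ N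
      · exact mul_mem (inv_mem hq) (h'.1 hq)
      · refine mem_normalizer_iff_map_conj_eq.mpr ?_
        show L1.map (MulAut.conj (q.out⁻¹ * r.out)).toMonoidHom = L1
        rw [← map_conj_map_conj, hmove r.out fun hr => hq (h'.2 hr), ← hmove q.out hq, map_conj_map_conj,
          inv_mul_cancel, map_conj_one]
    have := Nat.card_le_card_of_injective _ hinj
    rwa [Nat.card_eq_fintype_card (α := Bool), Fintype.card_bool] at this
  obtain ⟨c1, hc1, ht1⟩ := htw L1 L2 h1 h2 hne
  obtain ⟨c2, hc2, ht2⟩ := htw L2 L1 h2 h1 hne.symm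
  haveI : (L1.subgroupOf N).Normal := normal_subgroupOf_iff_le_normalizer hL1N |>.mpr le_rfl
  haveI : (L2.subgroupOf N).Normal := normal_subgroupOf_iff_le_normalizer hL2N |>.mpr hN2
  obtain ⟨hq1, hO1, hr1⟩ := subgroupOf_facts hL1N h1.2 (oddCore_component hO h1) (hr L1 h1)
  obtain ⟨hq2, hO2, hr2⟩ := subgroupOf_facts hL2N h2.2 (oddCore_component hO h2) (hr L2 h2)
  have ht1' := twist_subgroupOf ht1 hL1N (hL2N hc1)
  have ht2' := twist_subgroupOf ht2 hL2N (hL1N hc2)
  set E := L1 ⊔ L2 with hE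
  have hEN : E ≤ N := sup_le hL1N hL2N
  have hSE : ∀ S : Sylow 2 N, (S : Subgroup N) ≤ E.subgroupOf N := by
    intro S x hx
    have hs1 := ht1'.sylow_split (hF.subgroup N) hq1 hO1 hr1 S
    have hs2 := ht2'.sylow_split (hF.subgroup N) hq2 hO2 hr2 S
    refine (hs1.symm.le.trans (sup_le (inf_le_right.trans (comap_mono le_sup_left))
      (fun w hw => ?_))) hx
    have hwS : w ∈ (S : Subgroup N) := hw.1
    have hle : (S : Subgroup N) ≤ L2.subgroupOf N ⊔ ((S : Subgroup N) ⊓ centralizer (L2.subgroupOf N : Set N)) :=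
      hs2.symm.le.trans (sup_le_sup_right inf_le_right _)
    obtain ⟨q, hq, v, hv, rfl⟩ := mem_sup_of_normal_left.1 (hle hwS)
    refine mul_mem (comap_mono le_sup_right hq) ?_
    have hqC : (q : G) ∈ centralizer (L1 : Set G) := hC12 L2 L1 h2 h1 hne.symm (mem_subgroupOf.1 hq)
    have hwC : ((q * v : N) : G) ∈ centralizer (L1 : Set G) := mem_centralizer_iff.2 fun g hg =>
      congrArg Subtype.val (mem_centralizer_iff.1 hw.2 ⟨g, hL1N hg⟩ (mem_subgroupOf.2 hg))
    have hvA : (v : G) ∈ centralizer (L1 : Set G) := by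
      have := mul_mem (inv_mem hqC) hwC
      simpa using this
    have hvB : (v : G) ∈ centralizer (L2 : Set G) := mem_centralizer_iff.2 fun g hg =>
      congrArg Subtype.val (mem_centralizer_iff.1 hv.2 ⟨g, hL2N hg⟩ (mem_subgroupOf.2 hg))
    rcases eq_or_ne (v : G) 1 with e | e1
    · exact mem_subgroupOf.2 (e ▸ one_mem _)
    rcases eq_or_ne (v : G) z with e | e2
    · exact mem_subgroupOf.2 (mem_sup_left (e ▸ hzL L1 h1))
    exfalso
    obtain ⟨a, ha⟩ := two_power_of_mem S hv.1
    obtain ⟨j, hj, hj1, hj2⟩ := exists_sq_eq (H := centralizer (L1 : Set G)) hz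
      (fun u hu hu2 => eq_of_centralizes_component hF h1 hz hzc hu2 hu) hvA
      ⟨a, by rw [Subgroup.orderOf_coe]; exact ha⟩ e1 e2
    exact hno _ hj hj1 hj2 (pow_mem hvA j) (pow_mem hvB j)
  have hodd : Odd (E.subgroupOf N).index := by
    obtain ⟨S⟩ : Nonempty (Sylow 2 N) := inferInstance
    exact Nat.not_even_iff_odd.1 fun e => S.not_dvd_index (e.two_dvd.trans (index_dvd_of_le (hSE S)))
  have hlay : Cfsg.layer G = E :=
    le_antisymm (sSup_le fun K hK => by
      rcases honly K hK with rfl | rfl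
      exacts [le_sup_left, le_sup_right]) (sup_le (component_le_layer h1) (component_le_layer h2))
  have hEn : E.Normal := by
    haveI := layer_characteristic (G := G)
    rw [← hlay]; infer_instance
  refine ⟨E, hEn, ?_, twoSL_of_commuting (ht1.sl25 hF h1.2 (oddCore_component hO h1) (hr L1 h1))
    (ht2.sl25 hF h2.2 (oddCore_component hO h2) (hr L2 h2)) (hC12 L1 L2 h1 h2 hne) hz (hzL L1 h1) (hzL L2 h2) hne⟩
  have hmul : E.index = (E.subgroupOf N).index * N.index := (relIndex_mul_index hEN).symm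
  have hN0 : N.index ≠ 0 := index_ne_zero_of_finite
  rcases (show N.index = 1 ∨ N.index = 2 by omega) with h | h
  · exact Or.inl (by rw [hmul, h, mul_one]; exact hodd)
  · exact Or.inr ⟨_, hodd, by rw [hmul, h, mul_comm]⟩

end CfsgLib.Inter10
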