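import Cfsg.Agent.Lib.Inter10.RankTwoMain
import Cfsg.Agent.Lib.Inter10.TwoComp
import Cfsg.Agent.Lib.Inter10.OuterCase

/-!
S3310: the core-free case, given the goals of the parts.
-/

set_option autoImplicit false
set_option linter.style.haveILetI false

namespace CfsgLib.Inter10

open Subgroup CfsgLib.Involutions CfsgLib.Components

universe u

/-- The theorem in a group without core with a component. -/
theorem mainGoal_of (hS85 : SimpleGoal.{u}) (hC : CoreGoal.{u}) (hOut : OuterGoal.{u})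
    (hOI : OuterInvolGoal.{u}) (hCy : CentSylGoal.{u}) : MainGoal.{u} := by
  intro Y _ _ hF hO hS hL hD
  haveI : Fact (Nat.Prime 2) := ⟨Nat.prime_two⟩
  by_cases hr2 : ∃ L : Subgroup Y, Cfsg.IsComponent L ∧ ¬ Cfsg.PRankLE 2 1 L
  · obtain ⟨L, hL, hr⟩ := hr2
    exact Or.inl (rankTwo_case hS85 hC hOut hF hO hD hL hr)
  push Not at hr2
  obtain ⟨L, hL⟩ := hL
  obtain ⟨S, T, hne, -⟩ := id hD
  obtain ⟨z, hz, hzc, -, hzu, hzL⟩ := exists_central_z hF hO hne hL (hr2 L hL)
  by_cases htwo : ∃ K : Subgroup Y, Cfsg.IsComponent K ∧ L ≠ K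
  · obtain ⟨K, hK, hKL⟩ := htwo
    exact Or.inr (two_component_case hF hO hz hzc (fun M hM => hzL M hM (hr2 M hM)) hr2 hL hK hKL)
  push Not at htwo
  haveI hLn : L.Normal := ⟨fun n hn g => by
    rw [htwo _ (isComponent_conj g hL)]
    exact ⟨n, hn, rfl⟩⟩
  have hlayer : Cfsg.layer Y = L :=
    le_antisymm (sSup_le fun K hK => (htwo K hK).ge) (component_le_layer hL)
  have hzL' : z ∈ L := hzL L hL (hr2 L hL)
  set O2 := Cfsg.pCore 2 Y with hO2def
  haveI hO2n : O2.Normal := by rw [hO2def]; exact Cfsg.pCore_normal 2 Y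
  have hO2p : IsPGroup 2 O2 := CfsgLib.PCore.pCore_isPGroup
  by_cases hx : ∃ x ∈ O2, x ≠ 1 ∧ x ≠ z
  · obtain ⟨x, hx, hx1, hxz⟩ := hx
    have hO2C : O2 ≤ centralizer (L : Set Y) := by
      haveI := hO2p.isNilpotent
      have h1 := component_commutator_solvable hL (inferInstance : Group.IsSolvable O2) le_normalizer_of_normal
      rw [commutator_comm] at h1
      exact le_centralizer_of_commutator_eq_bot h1
    have h2 : ∃ a, orderOf x ∣ 2 ^ a := by
      obtain ⟨k, hk⟩ := IsPGroup.iff_orderOf.1 hO2p ⟨x, hx⟩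
      exact ⟨k, (Subgroup.orderOf_mk x hx).symm.trans hk ▸ dvd_rfl⟩
    obtain ⟨j, hj, hj1, hjz⟩ := exists_sq_eq hz hzu hx h2 hx1 hxz
    exact Or.inl (twist_case hF hO hD hL (hr2 L hL) (Twist.of_centralizer hz hzc hzL'
      (rankOne_facts hL.2 (oddCore_component hO hL) (hr2 L hL)).1 (hO2C (pow_mem hx j)) hj hj1 hjz)
      (pow_mem hx j) hlayer hzu)
  push Not at hx
  refine (no_twist_case hOI hCy hF hO (hS S) hL (hr2 L hL) hz hzc hzL' ?_).elim
  have hgf : Cfsg.generalizedFittingSubgroup Y = L := by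
    rw [Cfsg.generalizedFittingSubgroup, hlayer, fitting_eq_pCore_of_pPrimeCore_eq_bot hO, sup_eq_left]
    intro y hy
    rcases eq_or_ne y 1 with e | e
    · rw [e]; exact one_mem _
    · rw [hx y hy e]; exact hzL'
  have h := centralizer_generalizedFitting_le (G := Y)
  rwa [hgf] at h

end CfsgLib.Inter10
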