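import Cfsg.Agent.Lib.Inter10.Defs
import Cfsg.Agent.Lib.Involutions.WeaklyClosedCentral
import Cfsg.Agent.Lib.Coprime.Action
import Cfsg.Agent.Lib.UThreeSylow.Abelian

/-!
A normal simple subgroup whose Sylow 2-automorphisms are rigid takes a Sylow 2-subgroup of the whole
group into itself times its centraliser.
-/

set_option autoImplicit false
set_option linter.style.haveILetI false
set_option linter.unusedSectionVars false

namespace CfsgLib.Inter10

open Subgroup Pointwise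

universe u

/-- An automorphism of 2-power order that normalises `S` and fixes a complement of `S` in its
normaliser fixes `S`. -/
def Rigid (W : Type u) [Group W] : Prop :=
  ∀ (S : Sylow 2 W) (H : Subgroup W), H ≤ normalizer ((S : Subgroup W) : Set W) → Odd (Nat.card H) →
    (∀ x ∈ normalizer ((S : Subgroup W) : Set W), ∃ s ∈ (S : Subgroup W), ∃ h ∈ H, x = s * h) →
    ∀ σ : MulAut W, (∃ k : ℕ, σ ^ 2 ^ k = 1) → (∀ h ∈ H, σ h = h) →
      (∀ s ∈ (S : Subgroup W), σ s ∈ (S : Subgroup W)) → ∀ s ∈ (S : Subgroup W), σ s = s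

/-- Two distinct involutions in the centre of each Sylow 2-subgroup. -/
def CentralFour (W : Type u) [Group W] : Prop :=
  ∀ S : Sylow 2 W, ∃ a b : W, a ∈ (S : Subgroup W) ∧ b ∈ (S : Subgroup W) ∧ orderOf a = 2 ∧
    orderOf b = 2 ∧ a ≠ b ∧ ∀ s ∈ (S : Subgroup W), Commute s a ∧ Commute s b

variable {G : Type u} [Group G] [Finite G]

/-- The intersection with a normal subgroup has odd index in it. -/
theorem odd_relIndex_inf (L : Subgroup G) [L.Normal] (S : Sylow 2 G) :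
    Odd (((S : Subgroup G) ⊓ L).relIndex L) := by
  haveI : Fact (Nat.Prime 2) := ⟨Nat.prime_two⟩
  obtain ⟨W, hW⟩ := UThreeSylow.exists_sylow_subgroupOf L S
  have h1 : ¬ 2 ∣ (W : Subgroup L).index := W.not_dvd_index
  rw [inf_relIndex_right]
  show Odd ((S : Subgroup G).subgroupOf L).index
  rw [show (S : Subgroup G).subgroupOf L = (W : Subgroup L) from hW.symm, Nat.odd_iff]
  omega

/-- A Sylow subgroup inside the product of two normal subgroups is the product of its intersections. -/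
theorem sylow_eq_sup_inf (L C : Subgroup G) [L.Normal] [C.Normal] (S : Sylow 2 G)
    (hS : (S : Subgroup G) ≤ L ⊔ C) :
    ((S : Subgroup G) ⊓ L) ⊔ ((S : Subgroup G) ⊓ C) = S := by
  haveI : Fact (Nat.Prime 2) := ⟨Nat.prime_two⟩
  set P := ((S : Subgroup G) ⊓ L) ⊔ ((S : Subgroup G) ⊓ C) with hP
  have hPS : P ≤ (S : Subgroup G) := sup_le inf_le_left inf_le_left
  have hPL : P ⊓ L = (S : Subgroup G) ⊓ L :=
    le_antisymm (inf_le_inf_right L hPS) (le_inf le_sup_left inf_le_right)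
  have key : ∀ (X K : Subgroup G), K.Normal →
      Nat.card ↥(X ⊔ K) * Nat.card ↥(X ⊓ K) = Nat.card X * Nat.card K := by
    intro X K hK
    have h1 := relIndex_mul_relIndex ⊥ K (X ⊔ K) bot_le le_sup_right
    have h2 := relIndex_mul_relIndex ⊥ (X ⊓ K) X bot_le inf_le_left
    rw [relIndex_bot_left, relIndex_bot_left, relIndex_sup_right] at h1
    rw [relIndex_bot_left, relIndex_bot_left, inf_relIndex_left] at h2
    rw [← h1, ← h2]
    ring
  have e1 := key P L inferInstance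
  have e2 := key (P ⊔ L) C inferInstance
  have htop : (P ⊔ L) ⊔ C = L ⊔ C := by
    refine le_antisymm (sup_le (sup_le (hPS.trans hS) le_sup_left) le_sup_right) ?_
    exact sup_le (le_sup_right.trans le_sup_left) le_sup_right
  rw [hPL, ← relIndex_bot_left L, ← relIndex_mul_relIndex ⊥ ((S : Subgroup G) ⊓ L) L bot_le inf_le_right,
    relIndex_bot_left] at e1
  have e1' : Nat.card ↥(P ⊔ L) = Nat.card P * ((S : Subgroup G) ⊓ L).relIndex L := by
    refine Nat.eq_of_mul_eq_mul_right (Nat.card_pos (α := ↥((S : Subgroup G) ⊓ L))) ?_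
    rw [e1]; ring
  obtain ⟨j, hj⟩ : Nat.card ↥((S : Subgroup G) ⊓ C) ∣ Nat.card ↥((P ⊔ L) ⊓ C) :=
    card_dvd_of_le (le_inf ((le_sup_right : _ ≤ P).trans le_sup_left) inf_le_right)
  rw [htop, e1', hj, ← relIndex_bot_left C,
    ← relIndex_mul_relIndex ⊥ ((S : Subgroup G) ⊓ C) C bot_le inf_le_right, relIndex_bot_left] at e2
  have e3 : Nat.card ↥(L ⊔ C) * j = Nat.card P *
      (((S : Subgroup G) ⊓ L).relIndex L * ((S : Subgroup G) ⊓ C).relIndex C) := by
    refine Nat.eq_of_mul_eq_mul_right (Nat.card_pos (α := ↥((S : Subgroup G) ⊓ C))) ?_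
    calc Nat.card ↥(L ⊔ C) * j * Nat.card ↥((S : Subgroup G) ⊓ C)
        = Nat.card ↥(L ⊔ C) * (Nat.card ↥((S : Subgroup G) ⊓ C) * j) := by ring
      _ = _ := e2
      _ = _ := by ring
  obtain ⟨k, hk⟩ := IsPGroup.iff_card.1 S.2
  have hd : Nat.card (S : Subgroup G) ∣ Nat.card P *
      (((S : Subgroup G) ⊓ L).relIndex L * ((S : Subgroup G) ⊓ C).relIndex C) :=
    e3 ▸ (card_dvd_of_le hS).mul_right j
  have hco : (Nat.card (S : Subgroup G)).Coprime
      (((S : Subgroup G) ⊓ L).relIndex L * ((S : Subgroup G) ⊓ C).relIndex C) := by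
    rw [hk]
    exact Nat.Coprime.pow_left k
      (Nat.coprime_two_left.2 ((odd_relIndex_inf L S).mul (odd_relIndex_inf C S)))
  exact Subgroup.eq_of_le_of_card_ge hPS
    (Nat.le_of_dvd Nat.card_pos (hco.dvd_of_dvd_mul_right hd))

/-- An element of `S` centralising a Sylow 2-subgroup of a simple normal subgroup and the complement
in its normaliser centralises the subgroup. -/
theorem centralizes_of_fix (h : FourUnique G) (L : Subgroup G) [L.Normal] [IsSimpleGroup ↥L]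
    (S : Sylow 2 G) {a b : G} (ha : a ∈ (S : Subgroup G) ⊓ L) (hb : b ∈ (S : Subgroup G) ⊓ L)
    (ha2 : orderOf a = 2) (hb2 : orderOf b = 2) (hab : a ≠ b)
    (hcen : ∀ s ∈ (S : Subgroup G) ⊓ L, Commute s a ∧ Commute s b) {g : G}
    (hg : g ∈ (S : Subgroup G)) (hgS : ∀ s ∈ (S : Subgroup G) ⊓ L, Commute g s)
    (hgN : ∀ l ∈ L, (∀ s ∈ (S : Subgroup G) ⊓ L, l * s * l⁻¹ ∈ (S : Subgroup G) ⊓ L) → Commute g l) :
    g ∈ centralizer (L : Set G) := by
  haveI : Fact (Nat.Prime 2) := ⟨Nat.prime_two⟩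
  set M := L ⊔ zpowers g with hM
  have hLM : L ≤ M := le_sup_left
  have hgM : g ∈ M := mem_sup_right (mem_zpowers g)
  have hdec : ∀ m ∈ M, ∃ l ∈ L, ∃ i : ℤ, m = l * g ^ i := by
    intro m hm
    obtain ⟨l, hl, z, hz, rfl⟩ := mem_sup_of_normal_left.1 hm
    obtain ⟨i, rfl⟩ := mem_zpowers_iff.1 hz
    exact ⟨l, hl, i, rfl⟩
  have haM : a ∈ M := hLM ha.2
  have hbM : b ∈ M := hLM hb.2
  have hab' : Commute a b := ((hcen a ha).2)
  -- the Sylow subgroup of `M`
  obtain ⟨U, hU⟩ := (S.2.comap_subtype (K := M)).exists_le_sylow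
  have hUS : ∀ m : M, m ∈ (U : Subgroup M) ↔ (m : G) ∈ (S : Subgroup G) := by
    refine fun m => ⟨fun hm => ?_, fun hm => hU hm⟩
    obtain ⟨S', hS'⟩ := (U.2.map M.subtype).exists_le_sylow
    have e : S = S' := h S S' a b ha2 hb2 hab hab' ha.1 hb.1
      (hS' ⟨⟨a, haM⟩, hU ha.1, rfl⟩) (hS' ⟨⟨b, hbM⟩, hU hb.1, rfl⟩)
    exact e ▸ hS' ⟨m, hm, rfl⟩
  have hshape : ∀ m : M, m ∈ (U : Subgroup M) →
      ∃ s ∈ (S : Subgroup G) ⊓ L, ∃ i : ℤ, (m : G) = s * g ^ i := by
    intro m hm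
    obtain ⟨l, hl, i, hli⟩ := hdec m m.2
    refine ⟨l, ⟨?_, hl⟩, i, hli⟩
    rw [show l = (m : G) * (g ^ i)⁻¹ by rw [hli, mul_inv_cancel_right]]
    exact (S : Subgroup G).mul_mem ((hUS m).1 hm) ((S : Subgroup G).inv_mem ((S : Subgroup G).zpow_mem hg i))
  have hgU : ∀ (m : M), m ∈ (U : Subgroup M) → Commute (m : G) g := by
    intro m hm
    obtain ⟨s, hs, i, e⟩ := hshape m hm
    rw [e]
    exact (hgS s hs).symm.mul_left (Commute.self_zpow g i).symm
  obtain ⟨n, hn⟩ := S.2 ⟨g, hg⟩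
  have hn' : g ^ 2 ^ n = 1 := congrArg Subtype.val hn
  have hcore := Involutions.WCC.commutator_mem_core n M U ⟨g, hgM⟩ ((hUS _).2 hg)
    (Subtype.ext hn') (by
      intro i x hx
      set w := x * (⟨g, hgM⟩ : M) ^ i * x⁻¹ with hw
      obtain ⟨s, hs, j, hsj⟩ := hshape w hx
      have hwab : ∀ c ∈ (S : Subgroup G) ⊓ L, Commute s c → Commute (w : G) c := fun c hc hsc => by
        rw [hsj]; exact hsc.mul_left ((hgS c hc).zpow_left j)
      set C : Subgroup M := centralizer ({w} : Set M) with hC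
      have hxU : ((x • U : Sylow 2 M) : Subgroup M) ≤ C := by
        intro y hy
        rw [CentralSylow.mem_smul_iff] at hy
        have h1 : Commute (x⁻¹ * y * x) ((⟨g, hgM⟩ : M) ^ i) := Subtype.ext (by
          simpa using ((hgU _ hy).pow_right i).eq)
        rw [hC, mem_centralizer_singleton_iff, hw]
        calc y * (x * (⟨g, hgM⟩ : M) ^ i * x⁻¹)
            = x * ((x⁻¹ * y * x) * (⟨g, hgM⟩ : M) ^ i) * x⁻¹ := by group
          _ = x * ((⟨g, hgM⟩ : M) ^ i * (x⁻¹ * y * x)) * x⁻¹ := by rw [h1.eq]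
          _ = x * (⟨g, hgM⟩ : M) ^ i * x⁻¹ * y := by group
      have hgen : closure ({⟨a, haM⟩, ⟨b, hbM⟩} : Set M) ≤ (U : Subgroup M) ⊓ C := by
        rw [closure_le]
        rintro y (rfl | rfl) <;> refine ⟨(hUS _).2 ?_, mem_centralizer_singleton_iff.2 (Subtype.ext ?_)⟩
        · exact ha.1
        · exact (hwab a ha (hcen s hs).1).symm.eq
        · exact hb.1
        · exact (hwab b hb (hcen s hs).2).symm.eq
      obtain ⟨R, hRC, hR⟩ := CentralSylow.exists_sylow_le_of hxU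
        (U.2.to_le (hgen.trans inf_le_left)) (hgen.trans inf_le_right)
      have hRU : R = U := h.subgroup M R U ⟨a, haM⟩ ⟨b, hbM⟩
        ((Subgroup.orderOf_mk a haM).trans ha2) ((Subgroup.orderOf_mk b hbM).trans hb2)
        (fun e => hab (congrArg Subtype.val e)) (Subtype.ext hab'.eq)
        (hR (subset_closure (Or.inl rfl))) (hR (subset_closure (Or.inr rfl)))
        ((hUS _).2 ha.1) ((hUS _).2 hb.1)
      subst hRU
      obtain ⟨k, hk, hkU⟩ := CentralSylow.exists_smul_eq_in hxU hRC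
      rw [← mul_smul, Sylow.smul_eq_iff_mem_normalizer] at hkU
      obtain ⟨l, hl, p, hlp⟩ := hdec _ (k * x).2
      have hgl : Commute g l := by
        refine hgN l hl fun t ht => ?_
        have h1 : ((k * x : M) : G) * t * ((k * x : M) : G)⁻¹ ∈ (S : Subgroup G) :=
          (hUS _).1 ((mem_normalizer_iff.1 hkU ⟨t, hLM ht.2⟩).1 ((hUS _).2 ht.1))
        rw [hlp, show l * g ^ p * t * (l * g ^ p)⁻¹ = l * (g ^ p * t * (g ^ p)⁻¹) * l⁻¹ by group,
          ((hgS t ht).zpow_left p).eq, mul_inv_cancel_right] at h1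
        exact Subgroup.mem_inf.2 ⟨h1, L.mul_mem (L.mul_mem hl ht.2) (L.inv_mem hl)⟩
      have hkx : Commute (k * x : M) ((⟨g, hgM⟩ : M) ^ i) := Subtype.ext (by
        have h2 : Commute ((k * x : M) : G) (g ^ i) := by
          rw [hlp]
          exact (hgl.symm.mul_left ((Commute.refl g).zpow_left p)).pow_right i
        simpa using h2.eq)
      have hkw : Commute k w := mem_centralizer_singleton_iff.1 hk
      calc w = k * w * k⁻¹ := by rw [hkw.eq, mul_inv_cancel_right]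
        _ = (k * x) * (⟨g, hgM⟩ : M) ^ i * (k * x)⁻¹ := by rw [hw]; group
        _ = _ := by rw [hkx.eq, mul_inv_cancel_right])
  set O := (Cfsg.pPrimeCore 2 M).subgroupOf (L.subgroupOf M)
  have hO : Cfsg.pPrimeCore 2 M ⊓ L.subgroupOf M = ⊥ := by
    haveI : (Cfsg.pPrimeCore 2 M).Normal := Cfsg.pPrimeCore_normal 2 M
    let e : ↥(L.subgroupOf M) ≃* ↥L := subgroupOfEquivOfLe hLM
    haveI := e.isSimpleGroup
    rcases Subgroup.Normal.eq_bot_or_eq_top (H := O) inferInstance with e' | e'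
    · exact disjoint_iff.1 (subgroupOf_eq_bot.1 e')
    · exfalso
      have h1 : (⟨a, haM⟩ : M) ∈ Cfsg.pPrimeCore 2 M := subgroupOf_eq_top.1 e' (mem_subgroupOf.2 ha.2)
      have h2 := Subgroup.orderOf_dvd_natCard _ h1
      rw [Subgroup.orderOf_mk, ha2] at h2
      exact CfsgLib.PCore.not_dvd_card_pPrimeCore h2
  refine mem_centralizer_iff.2 fun l hl => ?_
  have h1 := hcore ⟨l, hLM hl⟩
  have h2 : (⟨l, hLM hl⟩ : M) * ⟨g, hgM⟩ * (⟨l, hLM hl⟩ : M)⁻¹ * (⟨g, hgM⟩ : M)⁻¹ ∈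
      Cfsg.pPrimeCore 2 M ⊓ L.subgroupOf M := by
    refine ⟨h1, mem_subgroupOf.2 ?_⟩
    show l * g * l⁻¹ * g⁻¹ ∈ L
    rw [show l * g * l⁻¹ * g⁻¹ = l * (g * l⁻¹ * g⁻¹) by group]
    exact mul_mem hl ((inferInstance : L.Normal).conj_mem _ (inv_mem hl) g)
  rw [hO, mem_bot] at h2
  have h3 : l * g * l⁻¹ * g⁻¹ = 1 := congrArg Subtype.val h2
  rw [mul_inv_eq_one, mul_inv_eq_iff_eq_mul] at h3
  exact h3

/-- A simple normal subgroup with rigid Sylow 2-automorphisms. -/
theorem split_of_rigid (h : FourUnique G) (L : Subgroup G) [L.Normal] [IsSimpleGroup ↥L]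
    (hR : Rigid ↥L) (hC : CentralFour ↥L) (S : Sylow 2 G) :
    ((S : Subgroup G) ⊓ L) ⊔ ((S : Subgroup G) ⊓ centralizer (L : Set G)) = S := by
  haveI : Fact (Nat.Prime 2) := ⟨Nat.prime_two⟩
  obtain ⟨W, hW⟩ := UThreeSylow.exists_sylow_subgroupOf L S
  have hWm : ∀ x : L, x ∈ (W : Subgroup L) ↔ (x : G) ∈ (S : Subgroup G) := fun x => by
    rw [hW]; exact Iff.rfl
  obtain ⟨a, b, ha, hb, ha2, hb2, hab, hcen⟩ := hC W
  set N := normalizer ((W : Subgroup L) : Set L) with hN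
  have hWN : (W : Subgroup L) ≤ N := le_normalizer
  have hodd : Odd ((W : Subgroup L).subgroupOf N).index := by
    have h1 : ¬ 2 ∣ (W : Subgroup L).index := W.not_dvd_index
    have h2 : ((W : Subgroup L).relIndex N) ∣ (W : Subgroup L).index := relIndex_dvd_index_of_le hWN
    rw [Nat.odd_iff]
    show (W : Subgroup L).relIndex N % 2 = 1
    by_contra h3
    exact h1 ((Nat.dvd_of_mod_eq_zero (by omega)).trans h2)
  haveI : ((W : Subgroup L).subgroupOf N).Normal := normal_in_normalizer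
  obtain ⟨C, hC'⟩ := exists_right_complement'_of_coprime (N := (W : Subgroup L).subgroupOf N) (by
    obtain ⟨i, hi⟩ := IsPGroup.iff_card.1 (W.2.comap_subtype (K := N))
    rw [show Nat.card ↥((W : Subgroup L).subgroupOf N) = 2 ^ i from hi]
    exact (Nat.coprime_two_left.2 hodd).pow_left i)
  set H := C.map N.subtype with hH
  have hHodd : Odd (Nat.card H) := by
    rw [hH, Subgroup.card_map_of_injective N.subtype_injective, ← hC'.symm.index_eq_card]
    exact hodd
  have hdec : ∀ x ∈ N, ∃ s ∈ (W : Subgroup L), ∃ c ∈ H, x = s * c := by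
    intro x hx
    obtain ⟨⟨y, c⟩, hyc⟩ := (hC'.existsUnique ⟨x, hx⟩).exists
    exact ⟨_, mem_subgroupOf.1 y.2, _, mem_map_of_mem _ c.2, (congrArg Subtype.val hyc).symm⟩
  set H' := H.map L.subtype with hH'
  set SL := (S : Subgroup G) ⊓ L with hSL
  have haS : (a : G) ∈ SL := ⟨(hWm a).1 ha, a.2⟩
  have hbS : (b : G) ∈ SL := ⟨(hWm b).1 hb, b.2⟩
  have hcen' : ∀ s ∈ SL, Commute s (a : G) ∧ Commute s (b : G) := fun s hs =>
    ⟨congrArg Subtype.val (hcen ⟨s, hs.2⟩ ((hWm _).2 hs.1)).1.eq,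
      congrArg Subtype.val (hcen ⟨s, hs.2⟩ ((hWm _).2 hs.1)).2.eq⟩
  have hH'N : ∀ x ∈ H', x ∈ normalizer (SL : Set G) := by
    rintro _ ⟨x, hx, rfl⟩
    refine mem_normalizer_fintype fun y hy => ?_
    have h1 := (mem_normalizer_iff.1 ((map_subtype_le C) hx : x ∈ N) ⟨y, hy.2⟩).1 ((hWm _).2 hy.1)
    exact Subgroup.mem_inf.2 ⟨(hWm _).1 h1, L.mul_mem (L.mul_mem x.2 hy.2) (L.inv_mem x.2)⟩
  have hH'S : H' ≤ normalizer ((S : Subgroup G) : Set G) := fun x hx =>
    h.normalizer_le inf_le_left (by rwa [Subgroup.orderOf_coe]) (by rwa [Subgroup.orderOf_coe])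
      (fun e => hab (Subtype.ext e)) (hcen' (a : G) haS).2 haS hbS (hH'N x hx)
  have hcop : (Nat.card H').Coprime (Nat.card (S : Subgroup G)) := by
    obtain ⟨k, hk⟩ := IsPGroup.iff_card.1 S.2
    rw [hH', Subgroup.card_map_of_injective L.subtype_injective, hk]
    exact (Nat.coprime_two_right.2 hHodd).pow_right k
  have hsolv : Group.IsSolvable H' ∨ Group.IsSolvable (S : Subgroup G) := by
    haveI := S.2.isNilpotent
    exact Or.inr inferInstance
  haveI : (centralizer (L : Set G)).Normal := inferInstance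
  refine sylow_eq_sup_inf L _ S fun s hs => ?_
  obtain ⟨c, ⟨hcS, hcH⟩, hsc⟩ := CfsgLib.Coprime.exists_centralizing_rep H' (S : Subgroup G) hH'S hcop
    hsolv SL inf_le_left hH'N hs (by
      intro x hx
      refine Subgroup.mem_inf.2 ⟨(S : Subgroup G).mul_mem ((S : Subgroup G).inv_mem hs) ((mem_normalizer_iff.1 (hH'S hx) s).1 hs), ?_⟩
      have hxL : x ∈ L := map_subtype_le H hx
      rw [show s⁻¹ * (x * s * x⁻¹) = (s⁻¹ * x * s) * x⁻¹ by group]
      exact L.mul_mem (by simpa using (inferInstance : L.Normal).conj_mem x hxL s⁻¹) (L.inv_mem hxL))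
  have hcW : ∀ y ∈ (W : Subgroup L), MulAut.conjNormal c y ∈ (W : Subgroup L) := fun y hy =>
    (hWm _).2 (by
      rw [MulAut.conjNormal_apply]
      exact mul_mem (mul_mem hcS ((hWm y).1 hy)) (inv_mem hcS))
  have hfixH : ∀ y ∈ H, MulAut.conjNormal c y = y := fun y hy => Subtype.ext (by
    rw [MulAut.conjNormal_apply,
      ← mem_centralizer_iff.1 hcH (y : G) (mem_map_of_mem _ hy), mul_inv_cancel_right])
  obtain ⟨k, hk⟩ := S.2 ⟨c, hcS⟩
  have hfix := hR W H (map_subtype_le C) hHodd hdec (MulAut.conjNormal c)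
    ⟨k, by rw [← map_pow, show c ^ 2 ^ k = 1 from congrArg Subtype.val hk, map_one]⟩ hfixH hcW
  have hcSL : ∀ y ∈ SL, Commute c y := fun y hy => by
    have h1 := congrArg Subtype.val (hfix ⟨y, hy.2⟩ ((hWm _).2 hy.1))
    rw [MulAut.conjNormal_apply] at h1
    exact mul_inv_eq_iff_eq_mul.1 h1
  have hcC : c ∈ centralizer (L : Set G) := by
    refine centralizes_of_fix h L S haS hbS (by rwa [Subgroup.orderOf_coe])
      (by rwa [Subgroup.orderOf_coe]) (fun e => hab (Subtype.ext e)) hcen' hcS hcSL fun l hl hlS => ?_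
    obtain ⟨y, hy, z, hz, he⟩ := hdec ⟨l, hl⟩ (mem_normalizer_fintype fun x hx =>
      (hWm _).2 (hlS x ⟨(hWm x).1 hx, x.2⟩).1)
    rw [show l = (y : G) * (z : G) from congrArg Subtype.val he]
    exact (hcSL _ ⟨(hWm y).1 hy, y.2⟩).mul_right (mem_centralizer_iff.1 hcH _ (mem_map_of_mem _ hz)).symm
  rw [show s = s * (s⁻¹ * c)⁻¹⁻¹ * ((s⁻¹ * c)⁻¹) by group]
  rw [show s * (s⁻¹ * c)⁻¹⁻¹ = c by group]
  exact mul_mem (mem_sup_right hcC) (mem_sup_left (inv_mem hsc.2))

end CfsgLib.Inter10
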