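import Cfsg.Agent.Lib.Inter10.OuterBasic
import Cfsg.Agent.Lib.CentralSylow.Covers
import Cfsg.Agent.Lib.CentralSylow.Ends
import Cfsg.Agent.Lib.ThreeFree.SzFacts
import Cfsg.Agent.Lib.InvChar.SLTwo

/-!
A quasisimple normal subgroup that is a Suzuki group modulo its centre has no outer automorphism of
2-power order; the double covers with an elementary abelian subgroup of order eight are of this sort.
-/

set_option autoImplicit false
set_option linter.style.haveILetI false
set_option linter.unusedSectionVars false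

namespace CfsgLib.Inter10

open Subgroup

universe u

variable {G : Type u} [Group G] [Finite G]

/-- An element acting trivially on a perfect group modulo its centre centralises it. -/
theorem centralizes_of_mod_center (L : Subgroup G) [L.Normal] [Group.IsPerfect ↥L] {c : G}
    (hc : ∀ y : L, (MulAut.conjNormal c y : L) * y⁻¹ ∈ center ↥L) : c ∈ centralizer (L : Set G) := by
  let f : ↥L →* ↥(center ↥L) :=
    { toFun := fun y => ⟨_, hc y⟩
      map_one' := Subtype.ext (by simp)
      map_mul' := fun x y => Subtype.ext (by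
        show MulAut.conjNormal c (x * y) * (x * y)⁻¹ =
          (MulAut.conjNormal c x * x⁻¹) * (MulAut.conjNormal c y * y⁻¹)
        rw [map_mul, mul_inv_rev]
        have h1 := mem_center_iff.1 (hc y) x⁻¹
        calc MulAut.conjNormal c x * MulAut.conjNormal c y * (y⁻¹ * x⁻¹)
            = MulAut.conjNormal c x * ((MulAut.conjNormal c y * y⁻¹) * x⁻¹) := by group
          _ = MulAut.conjNormal c x * (x⁻¹ * (MulAut.conjNormal c y * y⁻¹)) := by rw [h1]
          _ = _ := by group) }
  have hker : f.ker = ⊤ := by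
    refine top_le_iff.1 ?_
    rw [← Group.IsPerfect.commutator_eq_top (G := ↥L)]
    rw [_root_.commutator_def]
    refine Subgroup.commutator_le.2 fun x _ y _ => ?_
    rw [MonoidHom.mem_ker, map_commutatorElement, commutatorElement_eq_one_iff_mul_comm]
    exact Subtype.ext (mem_center_iff.1 (f y).2 _)
  refine mem_centralizer_iff.2 fun l hl => ?_
  have h1 : f ⟨l, hl⟩ = 1 := MonoidHom.mem_ker.1 (hker ▸ mem_top _)
  have h2 : MulAut.conjNormal c (⟨l, hl⟩ : L) = ⟨l, hl⟩ :=
    mul_inv_eq_one.1 (congrArg Subtype.val h1)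
  have h3 := congrArg Subtype.val h2
  rw [MulAut.conjNormal_apply] at h3
  exact (mul_inv_eq_iff_eq_mul.1 h3).symm

/-- The automorphism of `L / Z(L)` given by conjugation. -/
noncomputable def centAut (L : Subgroup G) [L.Normal] : G →* MulAut (↥L ⧸ center ↥L) where
  toFun g := QuotientGroup.congr (center ↥L) (center ↥L) (MulAut.conjNormal g)
    (Subgroup.characteristic_iff_map_eq.1 inferInstance _)
  map_one' := by
    ext x
    induction x using QuotientGroup.induction_on with
    | H x => simp
  map_mul' a b := by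
    ext x
    induction x using QuotientGroup.induction_on with
    | H x =>
      show QuotientGroup.mk (MulAut.conjNormal (a * b) x) =
        QuotientGroup.mk (MulAut.conjNormal a (MulAut.conjNormal b x))
      rw [map_mul, MulAut.mul_apply]

theorem centAut_apply (L : Subgroup G) [L.Normal] (g : G) (x : L) :
    centAut L g (QuotientGroup.mk x) = QuotientGroup.mk (MulAut.conjNormal g x) := rfl

/-- Over a Suzuki group every 2-element is inner times centralising. -/
theorem le_sup_of_suzuki (L : Subgroup G) [L.Normal] [Group.IsPerfect ↥L]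
    (hI : Cfsg.Lie.IsoSuzuki (↥L ⧸ center ↥L)) (S : Sylow 2 G) :
    (S : Subgroup G) ≤ L ⊔ centralizer (L : Set G) := by
  haveI : Fact (Nat.Prime 2) := ⟨Nat.prime_two⟩
  intro s hs
  obtain ⟨T⟩ : Nonempty (Sylow 2 (↥L ⧸ center ↥L)) := inferInstance
  obtain ⟨n, Z, t, hd⟩ := ThreeFree.szFactsHold _ hI T
  obtain ⟨k, hk⟩ := S.2 ⟨s, hs⟩
  obtain ⟨x, hx⟩ := hd.aut_two (centAut L s)
    ⟨k, by rw [← map_pow, show s ^ 2 ^ k = 1 from congrArg Subtype.val hk, map_one]⟩
  obtain ⟨l, rfl⟩ := QuotientGroup.mk_surjective x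
  have hc : (l : G)⁻¹ * s ∈ centralizer (L : Set G) := centralizes_of_mod_center L fun y => by
    rw [← QuotientGroup.eq_one_iff, QuotientGroup.mk_mul, QuotientGroup.mk_inv, mul_inv_eq_one,
      ← centAut_apply, map_mul, MulAut.mul_apply, hx, MulAut.conj_apply, map_inv,
      ← QuotientGroup.mk_inv, ← QuotientGroup.mk_mul, ← QuotientGroup.mk_mul]
    rw [MulAut.inv_apply, MulEquiv.symm_apply_eq, centAut_apply]
    congr 1
  rw [show s = (l : G) * ((l : G)⁻¹ * s) by group]
  exact mul_mem_sup l.2 hc

/-- A double cover of a group of Bender type with an elementary abelian subgroup of order eight lies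
over a Suzuki group. -/
theorem isoSuzuki_of_cover (L : Type u) [Group L] [Finite L] (hq : Cfsg.IsQuasisimple L) {z : L}
    (hz : orderOf z = 2) (hzc : z ∈ center L) (hB : BenderQ.IsBenderType (L ⧸ center L))
    (h8 : ∀ S : Sylow 2 L, HasEight (S : Subgroup L) z) : Cfsg.Lie.IsoSuzuki (L ⧸ center L) := by
  haveI : Fact (Nat.Prime 2) := ⟨Nat.prime_two⟩
  obtain ⟨hp, hs⟩ := hq
  haveI := hp
  haveI := hs
  have hz1 : z ≠ 1 := fun e => by rw [e, orderOf_one] at hz; omega
  have hW : commutator (L ⧸ center L) = ⊤ := by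
    rw [_root_.commutator_def, ← Subgroup.map_top_of_surjective _ (QuotientGroup.mk'_surjective (center L)),
      ← Subgroup.map_commutator, ← _root_.commutator_def, Group.IsPerfect.commutator_eq_top]
  rcases CentralSylow.bender_cases hB with h60 | ⟨n, hn, hM⟩ | ⟨F, i1, i2, hF, ⟨e⟩⟩
  · exfalso
    have h5 : (2 : ZMod 5) ≠ 0 := by decide
    haveI : Fact (Nat.Prime 5) := ⟨by norm_num⟩
    obtain ⟨e⟩ := CentralSylow.sl25_of_cover hp h60 fun e => hz1 (by rwa [e, mem_bot] at hzc)
    obtain ⟨S⟩ : Nonempty (Sylow 2 L) := inferInstance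
    obtain ⟨E, -, -, -, hE2, hE8⟩ := h8 S
    have hsub : (E : Set L) ⊆ {1, e.symm (-1)} := fun x hx => by
      by_cases hx1 : x = 1
      · exact Or.inl hx1
      · refine Or.inr (e.injective ?_)
        rw [e.apply_symm_apply]
        exact InvChar.eq_neg_one_of_sq h5 (fun h1 => hx1 (e.injective (h1.trans (map_one e).symm)))
          (by rw [← map_mul, hE2 x hx, map_one])
    have h2 := Set.ncard_le_ncard hsub (Set.toFinite _)
    rw [← Nat.card_coe_set_eq] at h2
    have h3 := (Set.ncard_insert_le (1 : L) {e.symm (-1)}).trans_eq (by rw [Set.ncard_singleton])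
    have : Nat.card (E : Set L) = Nat.card E := rfl
    omega
  · exact absurd (CentralSylow.eq_one_of_multiplier le_rfl hW hn hM
      (Group.IsPerfect.mem_commutator) hzc (k := 1) (by rw [pow_one, ← hz, pow_orderOf_eq_one])) hz1
  · exact ⟨F, i1, i2, 1, le_rfl, by rw [hF]; norm_num, ⟨e⟩⟩

end CfsgLib.Inter10
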