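import Cfsg.Agent.Lib.Inter10.Targets
import Cfsg.Agent.Lib.DGroup.Outer
import Cfsg.Agent.Lib.GW.Done
import Cfsg.Agent.Lib.Schur.AutAlternating
import Cfsg.Agent.Lib.PF.OddOrder

/-!
S3310: an outer involutory automorphism of `PSL₂(q)`, `q` odd, or of `A₇` fixes a nontrivial element of
odd order, and so does one of a core-free quasisimple group of 2-rank one.
-/

set_option autoImplicit false
set_option linter.style.haveILetI false
set_option linter.unusedSectionVars false

namespace CfsgLib.Inter10

open Matrix CfsgLib.AutPSL CfsgLib.DGroup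
open scoped commutatorElement

universe u

/-- `ψ` fixes a nontrivial element of odd order. -/
def FixesOdd {W : Type*} [Group W] (ψ : MulAut W) : Prop :=
  ∃ y : W, y ≠ 1 ∧ Odd (orderOf y) ∧ ψ y = y

section Transport

variable {W V : Type*} [Group W] [Group V]

theorem fixesOdd_of_congr (e : W ≃* V) {ψ : MulAut W} (h : FixesOdd (MulAut.congr e ψ)) :
    FixesOdd ψ := by
  obtain ⟨y, hy1, hyo, hy⟩ := h
  refine ⟨e.symm y, fun h => hy1 ?_, ?_, e.injective ?_⟩
  · rw [← e.apply_symm_apply y, h, map_one]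
  · rwa [show orderOf (e.symm y) = orderOf y from
      orderOf_injective e.symm.toMonoidHom e.symm.injective y]
  · rw [e.apply_symm_apply]
    exact hy

theorem congr_inner (e : W ≃* V) {ψ : MulAut W} {v : V} (h : MulAut.congr e ψ = MulAut.conj v) :
    ψ = MulAut.conj (e.symm v) := by
  apply MulEquiv.ext
  intro x
  apply e.injective
  rw [MulAut.conj_apply, map_mul, map_mul, map_inv, e.apply_symm_apply]
  have := DFunLike.congr_fun h (e x)
  rw [MulAut.conj_apply] at this
  rw [← this]
  show e (ψ x) = e (ψ (e.symm (e x)))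
  rw [e.symm_apply_apply]

theorem fixesOdd_congr (e : W ≃* V) {ψ : MulAut W} (h2 : ψ * ψ = 1)
    (hout : ∀ w : W, ψ ≠ MulAut.conj w)
    (h : ∀ β : MulAut V, β * β = 1 → (∀ v : V, β ≠ MulAut.conj v) → FixesOdd β) :
    FixesOdd ψ :=
  fixesOdd_of_congr e (h _ (by rw [← map_mul, h2, map_one]) fun _ hv => hout _ (congr_inner e hv))

end Transport

section PSL

variable {F : Type*} [Field F] [Fintype F]

theorem odd_prime_ringChar (hF : (2 : F) ≠ 0) : Odd (ringChar F) := by
  have : (ringChar F).Prime :=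
    (CharP.char_is_prime_or_zero F (ringChar F)).resolve_right fun h =>
      CharP.ringChar_ne_zero_of_finite F h
  exact this.odd_of_ne_two (DGroup.ringChar_ne_two hF)

/-- A transvection. -/
def unip : SLG 2 F := ⟨!![1, 1; 0, 1], by simp [Matrix.det_fin_two]⟩

theorem unip_coe : (unip : SLG 2 F).1 = !![1, 1; 0, 1] := rfl

theorem unip_pow (n : ℕ) : ((unip : SLG 2 F) ^ n).1 = !![1, (n : F); 0, 1] := by
  induction n with
  | zero =>
    ext i j
    fin_cases i <;> fin_cases j <;> simp
  | succ n ih =>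
    rw [pow_succ]
    show ((unip : SLG 2 F) ^ n).1 * (unip : SLG 2 F).1 = _
    rw [ih, unip_coe]
    ext i j
    fin_cases i <;> fin_cases j <;> simp [Matrix.mul_apply, Fin.sum_univ_two, add_comm]

theorem fixesOdd_fieldAut (hF : (2 : F) ≠ 0) (σ : F ≃+* F) : FixesOdd (fieldAut (n := 2) σ) := by
  refine ⟨QuotientGroup.mk unip, fun h => ?_, ?_, ?_⟩
  · have h' := Subgroup.mem_center_iff.1 ((QuotientGroup.eq_one_iff _).1 h) quarter
    have := congrArg (fun k : SLG 2 F => k.1 0 0) h'
    simp [SpecialLinearGroup.coe_mul, quarter_coe, unip_coe, Matrix.mul_apply, Fin.sum_univ_two] at this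
  · refine Odd.of_dvd_nat (odd_prime_ringChar hF) (orderOf_dvd_of_pow_eq_one ?_)
    rw [← QuotientGroup.mk_pow]
    have : (unip : SLG 2 F) ^ ringChar F = 1 := by
      refine Subtype.ext ?_
      rw [unip_pow, ringChar.Nat.cast_ringChar]
      ext i j
      fin_cases i <;> fin_cases j <;> simp
    rw [this, QuotientGroup.mk_one]
  · rw [fieldAut_mk]
    refine congrArg _ (Subtype.ext ?_)
    rw [slField_coe]
    ext i j
    fin_cases i <;> fin_cases j <;> simp [unip_coe]

theorem det_smul_one_add (a b : F) (M : Matrix (Fin 2) (Fin 2) F) :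
    (a • (1 : Matrix (Fin 2) (Fin 2) F) + b • M).det =
      a * a + a * b * (M 0 0 + M 1 1) + b * b * M.det := by
  simp [Matrix.det_fin_two]
  ring

/-- An involutory field automorphism with a cocycle is conjugate to the field automorphism. -/
theorem exists_split (hF : (2 : F) ≠ 0) {σ : F ≃+* F} (hσ : σ ≠ 1) (hσ2 : σ * σ = 1)
    {M : Matrix (Fin 2) (Fin 2) F} (hM : M * M.map σ = 1) :
    ∃ h : GL (Fin 2) F, M * h.val.map σ = h.val := by
  have hss : ∀ z, σ (σ z) = z := fun z => RingEquiv.congr_fun hσ2 z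
  obtain ⟨w, hw⟩ : ∃ w, σ w ≠ w := by
    by_contra h
    push Not at h
    exact hσ (RingEquiv.ext h)
  set β := w - σ w with hβdef
  have hβ0 : β ≠ 0 := sub_ne_zero.2 (Ne.symm hw)
  have hβσ : σ β = -β := by rw [hβdef, map_sub, hss]; ring
  have hsplit : ∀ a : F,
      M * ((a • (1 : Matrix (Fin 2) (Fin 2) F) + σ a • M).map σ) =
        a • (1 : Matrix (Fin 2) (Fin 2) F) + σ a • M := by
    intro a
    have : (a • (1 : Matrix (Fin 2) (Fin 2) F) + σ a • M).map σ =
        σ a • (1 : Matrix (Fin 2) (Fin 2) F) + a • M.map σ := by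
      ext i j
      by_cases hij : i = j <;> simp [Matrix.one_apply, hij, hss]
    rw [this, Matrix.mul_add, Matrix.mul_smul, Matrix.mul_smul, hM, Matrix.mul_one, add_comm]
  suffices ∃ a : F, (a • (1 : Matrix (Fin 2) (Fin 2) F) + σ a • M).det ≠ 0 by
    obtain ⟨a, ha⟩ := this
    exact ⟨GeneralLinearGroup.mkOfDetNeZero _ ha, hsplit a⟩
  by_contra hall
  push Not at hall
  have h1 := hall 1
  have h2 := hall β
  have h3 := hall (1 + β)
  rw [det_smul_one_add] at h1 h2 h3
  rw [map_one] at h1
  rw [hβσ] at h2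
  rw [map_add, map_one, hβσ] at h3
  set t := M 0 0 + M 1 1
  set d := M.det
  have e1 : 1 + t + d = 0 := by linear_combination h1
  have e2 : 1 - t + d = 0 := by
    have : (β * β) * (1 - t + d) = 0 := by linear_combination h2
    exact (mul_eq_zero.1 this).resolve_left (mul_ne_zero hβ0 hβ0)
  have e3 : t = 0 := by
    have : (2 : F) * t = 0 := by linear_combination e1 - e2
    exact (mul_eq_zero.1 this).resolve_left hF
  have e4 : d = -1 := by linear_combination e1 - e3
  rw [e3, e4] at h3
  have : (2 * 2 : F) * β = 0 := by linear_combination h3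
  exact mul_ne_zero (mul_ne_zero hF hF) hβ0 this

/-- A scalar with norm `-1`. -/
theorem exists_norm_neg_one (hF : (2 : F) ≠ 0) {σ : F ≃+* F} (hσ : σ ≠ 1) (hσ2 : σ * σ = 1) :
    ∃ c : F, c * σ c = -1 := by
  obtain ⟨i, hi⟩ := fixed_isSquare hF hσ2 hσ (x := -1) (by rw [map_neg, map_one])
  have : (σ i - i) * (σ i + i) = 0 := by
    have h := congrArg σ hi
    rw [map_neg, map_one, map_mul] at h
    linear_combination -h + hi
  rcases mul_eq_zero.1 this with h | h
  · exact ⟨i, by rw [sub_eq_zero.1 h, ← hi]⟩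
  · haveI : Fact (ringChar F).Prime :=
      ⟨(CharP.char_is_prime_or_zero F (ringChar F)).resolve_right fun h =>
        CharP.ringChar_ne_zero_of_finite F h⟩
    haveI : NeZero (ringChar F) := ⟨(Fact.out : (ringChar F).Prime).ne_zero⟩
    obtain ⟨p, q, hpq⟩ := CharP.sq_add_sq F (ringChar F) (-1)
    push_cast at hpq
    refine ⟨(p : F) + (q : F) * i, ?_⟩
    rw [map_add, map_mul, map_natCast, map_natCast, eq_neg_of_add_eq_zero_left h]
    linear_combination hpq + (q : F) * (q : F) * hi

/-- An involutory semilinear automorphism fixes an element of odd order. -/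
theorem fixesOdd_field_case (hF : (2 : F) ≠ 0) {g : GL (Fin 2) F} {σ : F ≃+* F} (hσ : σ ≠ 1)
    (h : conjAut g * fieldAut σ * (conjAut g * fieldAut σ) = 1) :
    FixesOdd (conjAut g * fieldAut σ) := by
  obtain ⟨hσ2, u, hu⟩ := involution_field h
  obtain ⟨r, hr⟩ := isSquare_det_of_involution hF hσ h
  have hr0 : r ≠ 0 := fun h0 => det_ne_zero g (by rw [hr, h0, mul_zero])
  have huv : g.val * g.val.map σ = (u : F) • (1 : Matrix (Fin 2) (Fin 2) F) := by
    have := congrArg (fun k : GL (Fin 2) F => k.val) hu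
    simp only [Units.val_mul, glField_coe, GeneralLinearGroup.coe_scalar] at this
    rw [this, Matrix.scalar_apply, Matrix.smul_one_eq_diagonal]
  obtain ⟨c, hc⟩ : ∃ c : F, c * σ c = (u : F) := by
    have e : (r * σ r - (u : F)) * (r * σ r + (u : F)) = 0 := by
      have := congrArg Matrix.det huv
      rw [Matrix.det_mul, det_map_ringEquiv, hr, map_mul, Matrix.det_smul, Matrix.det_one,
        Fintype.card_fin, mul_one] at this
      linear_combination this
    rcases mul_eq_zero.1 e with e | e
    · exact ⟨r, sub_eq_zero.1 e⟩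
    · obtain ⟨c₀, hc₀⟩ := exists_norm_neg_one hF hσ hσ2
      refine ⟨c₀ * r, ?_⟩
      rw [map_mul]
      linear_combination (r * σ r) * hc₀ - e
  have hc0 : c ≠ 0 := fun h0 => u.ne_zero (by rw [← hc, h0, zero_mul])
  have hσc0 : σ c ≠ 0 := (map_ne_zero σ).2 hc0
  have hM : (c⁻¹ • g.val) * (c⁻¹ • g.val).map σ = 1 := by
    have : (c⁻¹ • g.val).map σ = (σ c)⁻¹ • g.val.map σ := by
      ext i j
      simp [map_mul, map_inv₀]
    rw [this, Matrix.smul_mul, Matrix.mul_smul, smul_smul, huv, smul_smul, ← hc]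
    rw [show c⁻¹ * (σ c)⁻¹ * (c * σ c) = 1 by field_simp, one_smul]
  obtain ⟨k, hk⟩ := exists_split hF hσ hσ2 hM
  have hgk : g * glField σ k = GeneralLinearGroup.scalar (Fin 2) (Units.mk0 c hc0) * k := by
    apply Units.ext
    rw [Units.val_mul, Units.val_mul, glField_coe, GeneralLinearGroup.coe_scalar, Units.val_mk0,
      Matrix.scalar_apply, ← Matrix.smul_one_eq_diagonal, Matrix.smul_mul, Matrix.one_mul]
    calc g.val * k.val.map σ = c • ((c⁻¹ • g.val) * k.val.map σ) := by
          rw [Matrix.smul_mul, smul_smul, mul_inv_cancel₀ hc0, one_smul]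
      _ = _ := by rw [hk]
  obtain ⟨y, hy1, hyo, hy⟩ := fixesOdd_fieldAut hF σ
  have e : conjAut g * fieldAut σ * conjAut k = conjAut k * fieldAut σ := by
    rw [mul_assoc, fieldAut_mul_conjAut, ← mul_assoc, ← map_mul, hgk, map_mul, conjAut_scalar, one_mul]
  refine ⟨conjAut k y, fun h => hy1 ((conjAut k).map_eq_one_iff.1 h), ?_, ?_⟩
  · rwa [show orderOf (conjAut k y) = orderOf y from
      orderOf_injective (conjAut k).toMonoidHom (conjAut k).injective y]
  · exact (DFunLike.congr_fun e y).trans (congrArg (conjAut k) hy)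

/-- The solutions of `a² - u b² = 1`. -/
theorem exists_card_conic (hF : (2 : F) ≠ 0) {u : F} (hu0 : u ≠ 0) (hnu : ¬ IsSquare (-u))
    (h3 : 3 < Fintype.card F) :
    ∃ m : ℕ, Odd m ∧ 1 < m ∧ Nat.card {p : F × F // p.1 * p.1 - u * (p.2 * p.2) = 1} = 2 * m := by
  classical
  have hq : Odd (Fintype.card F) :=
    Nat.odd_iff.2 (FiniteField.odd_card_of_char_ne_two (DGroup.ringChar_ne_two hF))
  by_cases hu : IsSquare u
  · obtain ⟨r, rfl⟩ := hu
    have hr0 : r ≠ 0 := fun h => hu0 (by rw [h, mul_zero])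
    have h4 : Fintype.card F % 4 = 3 := by
      by_contra h
      obtain ⟨i, hi⟩ := FiniteField.isSquare_neg_one_iff.2 h
      exact hnu ⟨i * r, by linear_combination (r * r) * hi⟩
    let e : {p : F × F // p.1 * p.1 - r * r * (p.2 * p.2) = 1} ≃ Fˣ :=
      { toFun := fun p => Units.mkOfMulEqOne (p.1.1 + r * p.1.2) (p.1.1 - r * p.1.2)
          (by linear_combination p.2)
        invFun := fun t => ⟨(((t : F) + (t : F)⁻¹) / 2, ((t : F) - (t : F)⁻¹) / (2 * r)), by
          have := t.ne_zero
          field_simp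
          ring⟩
        left_inv := fun p => by
          obtain ⟨⟨a, b⟩, hp⟩ := p
          have hinv : (a + r * b)⁻¹ = a - r * b :=
            inv_eq_of_mul_eq_one_right (by linear_combination hp)
          apply Subtype.ext
          show (((a + r * b) + (a + r * b)⁻¹) / 2, ((a + r * b) - (a + r * b)⁻¹) / (2 * r)) = (a, b)
          rw [hinv, Prod.mk.injEq]
          constructor <;> field_simp <;> ring
        right_inv := fun t => by
          apply Units.ext
          show ((t : F) + (t : F)⁻¹) / 2 + r * (((t : F) - (t : F)⁻¹) / (2 * r)) = t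
          field_simp
          ring }
    refine ⟨(Fintype.card F - 1) / 2, ?_, ?_, ?_⟩
    · exact Nat.odd_iff.2 (by omega)
    · omega
    · rw [Nat.card_congr e, Nat.card_eq_fintype_card, Fintype.card_units]
      omega
  · have h4 : Fintype.card F % 4 = 1 := by
      by_contra h
      have h1 : ¬ IsSquare (-1 : F) := fun h1 => by
        have := FiniteField.isSquare_neg_one_iff.1 h1
        have := Nat.odd_iff.1 hq
        omega
      have := DGroup.isSquare_mul hF (neg_ne_zero.2 one_ne_zero) hu0 h1 hu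
      rw [neg_one_mul] at this
      exact hnu this
    have hne : ∀ m : F, 1 - u * (m * m) ≠ 0 := by
      intro m hm
      rcases eq_or_ne m 0 with rfl | hm0
      · simp at hm
      · exact hu ⟨m⁻¹, by field_simp; linear_combination -hm⟩
    let e : Option F ≃ {p : F × F // p.1 * p.1 - u * (p.2 * p.2) = 1} :=
      { toFun := fun o => o.elim ⟨(-1, 0), by ring⟩ fun m =>
          ⟨((1 + u * (m * m)) / (1 - u * (m * m)), 2 * m / (1 - u * (m * m))), by
            have := hne m
            rw [div_mul_div_comm, div_mul_div_comm, mul_div_assoc', ← sub_div,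
              div_eq_one_iff_eq (mul_ne_zero this this)]
            ring⟩
        invFun := fun p => if p.1.1 = -1 then none else some (p.1.2 / (p.1.1 + 1))
        left_inv := fun o => by
          cases o with
          | none => simp
          | some m =>
            have hm := hne m
            have key : (1 + u * (m * m)) / (1 - u * (m * m)) + 1 = 2 / (1 - u * (m * m)) := by
              rw [div_add_one hm]
              congr 1
              ring
            have hn : (1 + u * (m * m)) / (1 - u * (m * m)) ≠ -1 := fun h => by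
              rw [h, neg_add_cancel] at key
              exact div_ne_zero hF hm key.symm
            simp only [Option.elim_some, if_neg hn, key]
            rw [div_div_div_cancel_right₀ hm, mul_div_cancel_left₀ _ hF]
        right_inv := fun p => by
          obtain ⟨⟨a, b⟩, hp⟩ := p
          apply Subtype.ext
          by_cases ha : a = -1
          · subst ha
            have hb : b = 0 := by
              have : u * (b * b) = 0 := by linear_combination -hp
              exact mul_self_eq_zero.1 ((mul_eq_zero.1 this).resolve_left hu0)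
            simp [hb]
          · simp only [if_neg ha, Option.elim_some]
            have ha1 : a + 1 ≠ 0 := fun h => ha (eq_neg_of_add_eq_zero_left h)
            have hm := hne (b / (a + 1))
            have key : 1 - u * (b / (a + 1) * (b / (a + 1))) = 2 / (a + 1) := by
              field_simp
              linear_combination hp
            rw [key, Prod.mk.injEq]
            constructor
            · field_simp
              linear_combination -hp
            · field_simp }
    refine ⟨(Fintype.card F + 1) / 2, ?_, ?_, ?_⟩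
    · exact Nat.odd_iff.2 (by omega)
    · omega
    · rw [← Nat.card_congr e, Nat.card_eq_fintype_card, Fintype.card_option]
      omega

/-- An outer involutory element of `PGL₂` centralises an element of odd order. -/
theorem fixesOdd_conj_case (hF : (2 : F) ≠ 0) (h3 : 3 < Fintype.card F) {g : GL (Fin 2) F}
    (hg : ¬ IsSquare g.val.det) (h : conjAut g * conjAut g = 1) : FixesOdd (conjAut g) := by
  classical
  rw [← map_mul] at h
  obtain ⟨v, hv⟩ := (conjAut_eq_one_iff le_rfl).1 h
  have hgg := congrArg (fun k : GL (Fin 2) F => k.val) hv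
  simp only [Units.val_mul, GeneralLinearGroup.coe_scalar, Matrix.scalar_apply] at hgg
  set M := g.val with hM
  have e00 := congrFun (congrFun hgg 0) 0
  have e01 := congrFun (congrFun hgg 0) 1
  have e10 := congrFun (congrFun hgg 1) 0
  have e11 := congrFun (congrFun hgg 1) 1
  simp [Matrix.mul_apply, Fin.sum_univ_two] at e00 e01 e10 e11
  have htr : M 1 1 = -M 0 0 := by
    by_contra hne
    have hs : M 0 0 + M 1 1 ≠ 0 := fun h => hne (eq_neg_of_add_eq_zero_right h)
    have b0 : M 0 1 = 0 := by
      have : (M 0 0 + M 1 1) * M 0 1 = 0 := by linear_combination e01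
      exact (mul_eq_zero.1 this).resolve_left hs
    have c0 : M 1 0 = 0 := by
      have : (M 0 0 + M 1 1) * M 1 0 = 0 := by linear_combination e10
      exact (mul_eq_zero.1 this).resolve_left hs
    have : (M 0 0 + M 1 1) * (M 0 0 - M 1 1) = 0 := by linear_combination e00 - e11
    have had := sub_eq_zero.1 ((mul_eq_zero.1 this).resolve_left hs)
    exact hg ⟨M 0 0, by rw [Matrix.det_fin_two, b0, c0, ← had]; ring⟩
  set u := (v : F) with hu
  have hdet : M.det = -u := by
    rw [Matrix.det_fin_two]
    rw [htr]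
    linear_combination -e00
  obtain ⟨m, hmo, hm1, hmc⟩ := exists_card_conic hF v.ne_zero (hdet ▸ hg) h3
  let C : Subgroup (SLG 2 F) := Subgroup.centralizer ∅ ⊓
    { carrier := {s | ∃ a b : F, s.1 = a • (1 : Matrix (Fin 2) (Fin 2) F) + b • M}
      one_mem' := ⟨1, 0, by simp⟩
      mul_mem' := by
        rintro s t ⟨a, b, hs⟩ ⟨c, d, ht⟩
        refine ⟨a * c + b * d * u, a * d + b * c, ?_⟩
        show s.1 * t.1 = _
        rw [hs, ht]
        simp only [Matrix.add_mul, Matrix.mul_add, Matrix.smul_mul, Matrix.mul_smul, Matrix.one_mul,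
          Matrix.mul_one, hgg, ← Matrix.smul_one_eq_diagonal, smul_smul, hu]
        module
      inv_mem' := by
        rintro s ⟨a, b, hs⟩
        refine ⟨a, -b, ?_⟩
        show s.1.adjugate = _
        rw [hs]
        ext i j
        fin_cases i <;> fin_cases j <;> simp [Matrix.adjugate_fin_two, htr] }
  have hCmem : ∀ {s : SLG 2 F},
      s ∈ C ↔ ∃ a b : F, s.1 = a • (1 : Matrix (Fin 2) (Fin 2) F) + b • M := by
    intro s
    exact ⟨fun h => h.2, fun h => ⟨Subgroup.mem_centralizer_iff.2 (by simp), h⟩⟩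
  have hind : ∀ a b : F, a • (1 : Matrix (Fin 2) (Fin 2) F) + b • M = 0 → a = 0 ∧ b = 0 := by
    intro a b hab
    by_cases hb : b = 0
    · have := congrFun (congrFun hab 0) 0
      simp [hb] at this
      exact ⟨this, hb⟩
    · exfalso
      have h00 := congrFun (congrFun hab 0) 0
      have h01 := congrFun (congrFun hab 0) 1
      have h10 := congrFun (congrFun hab 1) 0
      have h11 := congrFun (congrFun hab 1) 1
      simp [hb] at h00 h01 h10 h11
      rw [htr] at h11
      have ha : (2 : F) * a = 0 := by linear_combination h00 + h11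
      have ha0 := (mul_eq_zero.1 ha).resolve_left hF
      rw [ha0, zero_add] at h00
      refine det_ne_zero g ?_
      rw [← hM, Matrix.det_fin_two, h01, htr, (mul_eq_zero.1 h00).resolve_left hb]
      ring
  have hdet' : ∀ a b : F, (a • (1 : Matrix (Fin 2) (Fin 2) F) + b • M).det = a * a - u * (b * b) := by
    intro a b
    rw [det_smul_one_add, htr, hdet]
    ring
  let f : {p : F × F // p.1 * p.1 - u * (p.2 * p.2) = 1} → C := fun p =>
    ⟨⟨p.1.1 • (1 : Matrix (Fin 2) (Fin 2) F) + p.1.2 • M, (hdet' _ _).trans p.2⟩,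
      hCmem.2 ⟨_, _, rfl⟩⟩
  have hf : Function.Bijective f := by
    constructor
    · rintro ⟨⟨a, b⟩, hp⟩ ⟨⟨c, d⟩, hq⟩ e
      have e' : a • (1 : Matrix (Fin 2) (Fin 2) F) + b • M = c • 1 + d • M :=
        congrArg (fun s : C => s.1.1) e
      obtain ⟨e1, e2⟩ := hind (a - c) (b - d) (by rw [sub_smul, sub_smul]; linear_combination (norm := module) e')
      simp [sub_eq_zero.1 e1, sub_eq_zero.1 e2]
    · rintro ⟨s, hs⟩
      obtain ⟨a, b, hab⟩ := hCmem.1 hs
      refine ⟨⟨(a, b), ?_⟩, Subtype.ext (Subtype.ext hab.symm)⟩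
      rw [← hdet', ← hab]
      exact s.2
  have hCcard : Nat.card C = 2 * m := by rw [← Nat.card_congr (Equiv.ofBijective f hf), hmc]
  obtain ⟨ℓ, hℓ, hℓm⟩ := Nat.exists_prime_and_dvd (show m ≠ 1 by omega)
  have hℓodd : Odd ℓ := hmo.of_dvd_nat hℓm
  haveI : Fact ℓ.Prime := ⟨hℓ⟩
  obtain ⟨⟨s, hs⟩, hso⟩ := exists_prime_orderOf_dvd_card' (G := C) ℓ
    (by rw [hCcard]; exact hℓm.mul_left 2)
  rw [← Subgroup.orderOf_coe] at hso
  simp only at hso
  refine ⟨QuotientGroup.mk s, fun h1 => ?_, ?_, ?_⟩
  · have hmem := (QuotientGroup.eq_one_iff _).1 h1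
    have h2 : orderOf s ∣ 2 := by
      have := orderOf_dvd_natCard (⟨s, hmem⟩ : Subgroup.center (SLG 2 F))
      rwa [CfsgLib.PSL2.card_center_sl hF, Subgroup.orderOf_mk] at this
    rw [hso] at h2
    exact absurd ((Nat.prime_dvd_prime_iff_eq hℓ Nat.prime_two).1 h2 ▸ hℓodd) (by decide)
  · refine hℓodd.of_dvd_nat (hso ▸ ?_)
    exact orderOf_map_dvd (QuotientGroup.mk' _) s
  · rw [conjAut_mk]
    refine congrArg _ (Subtype.ext ?_)
    obtain ⟨a, b, hab⟩ := hCmem.1 hs
    rw [slConj_coe, hab, ← hM]
    rw [Matrix.mul_add, Matrix.mul_smul, Matrix.mul_smul, Matrix.mul_one, Matrix.add_mul,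
      Matrix.smul_mul, Matrix.smul_mul, Matrix.mul_assoc, hM, ← Units.val_mul, mul_inv_cancel,
      Units.val_one, Matrix.mul_one]

theorem fixesOdd_psl (hF : (2 : F) ≠ 0) (h3 : 3 < Fintype.card F) (β : MulAut (PSLG 2 F))
    (h2 : β * β = 1) (hout : ∀ x, β ≠ MulAut.conj x) : FixesOdd β := by
  obtain ⟨g, σ, rfl⟩ := exists_conj_field β
  by_cases hσ : σ = 1
  · subst hσ
    rw [map_one, mul_one] at h2 hout ⊢
    refine fixesOdd_conj_case hF h3 (fun hsq => ?_) h2
    obtain ⟨x, hx⟩ := exists_conj_of_isSquare hsq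
    exact hout x hx
  · exact fixesOdd_field_case hF hσ h2

end PSL

section Seven

open Equiv

theorem conj_of_support {s t : Perm (Fin 7)} (hs : orderOf s = 2) (ht : orderOf t = 2)
    (h : s.support.card = t.support.card) : IsConj t s := by
  obtain ⟨n, hn⟩ := Perm.cycleType_prime_order (σ := s) (by rw [hs]; exact Nat.prime_two)
  obtain ⟨k, hk⟩ := Perm.cycleType_prime_order (σ := t) (by rw [ht]; exact Nat.prime_two)
  rw [hs] at hn
  rw [ht] at hk
  rw [← Perm.sum_cycleType, ← Perm.sum_cycleType, hn, hk, Multiset.sum_replicate,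
    Multiset.sum_replicate, smul_eq_mul, smul_eq_mul] at h
  rw [Perm.isConj_iff_cycleType_eq, hn, hk, show k + 1 = n + 1 by omega]

/-- An odd involution of seven letters centralises a three-element. -/
theorem exists_three_commute {s : Perm (Fin 7)} (hs : orderOf s = 2) (hodd : Perm.sign s ≠ 1) :
    ∃ c : Perm (Fin 7), Perm.sign c = 1 ∧ orderOf c = 3 ∧ s * c = c * s := by
  have main : ∀ t c : Perm (Fin 7), orderOf t = 2 → s.support.card = t.support.card →
      Perm.sign c = 1 → orderOf c = 3 → t * c = c * t →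
      ∃ c : Perm (Fin 7), Perm.sign c = 1 ∧ orderOf c = 3 ∧ s * c = c * s := by
    intro t c ht hcard hc hc3 hcomm
    obtain ⟨p, hp⟩ := isConj_iff.1 (conj_of_support hs ht hcard)
    refine ⟨p * c * p⁻¹, ?_, ?_, ?_⟩
    · rw [map_mul, map_mul, hc, mul_one, ← map_mul, mul_inv_cancel, map_one]
    · rw [← MulAut.conj_apply, show orderOf (MulAut.conj p c) = orderOf c from
        orderOf_injective (MulAut.conj p).toMonoidHom (MulAut.conj p).injective c, hc3]
    · rw [← hp]
      calc p * t * p⁻¹ * (p * c * p⁻¹) = p * (t * c) * p⁻¹ := by group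
        _ = p * (c * t) * p⁻¹ := by rw [hcomm]
        _ = _ := by group
  obtain ⟨n, hn⟩ := Perm.cycleType_prime_order (σ := s) (by rw [hs]; exact Nat.prime_two)
  rw [hs] at hn
  have hsum := Perm.sum_cycleType s
  rw [hn, Multiset.sum_replicate, smul_eq_mul] at hsum
  have hle : s.support.card ≤ 7 := (Finset.card_le_univ _).trans (by simp)
  have hsign : Perm.sign s = (-1) ^ (n + 1) := by
    rw [Perm.sign_of_cycleType, hn, Multiset.sum_replicate, Multiset.card_replicate, smul_eq_mul,
      pow_add, pow_mul', Int.units_pow_two, one_pow, one_mul]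
  have ord2 : ∀ t : Perm (Fin 7), t * t = 1 → t ≠ 1 → orderOf t = 2 := fun t h h' =>
    orderOf_eq_prime (by rw [pow_two]; exact h) h'
  have ord3 : ∀ c : Perm (Fin 7), c ^ 3 = 1 → c ≠ 1 → orderOf c = 3 := fun c h h' => by
    haveI : Fact (Nat.Prime 3) := ⟨Nat.prime_three⟩
    exact orderOf_eq_prime h h'
  obtain rfl | rfl : n = 0 ∨ n = 2 := by
    rcases show n = 0 ∨ n = 1 ∨ n = 2 by omega with rfl | rfl | rfl
    · exact Or.inl rfl
    · exact absurd hsign (by rw [show ((-1 : ℤˣ) ^ (1 + 1)) = 1 by decide]; exact hodd)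
    · exact Or.inr rfl
  · exact main (swap 0 1) (swap 2 3 * swap 3 4) (ord2 _ (by decide) (by decide))
      (by rw [← hsum]; decide) (by decide) (ord3 _ (by decide) (by decide)) (by decide)
  · exact main (swap 0 1 * swap 2 3 * swap 4 5) (swap 0 2 * swap 2 4 * (swap 1 3 * swap 3 5))
      (ord2 _ (by decide) (by decide))
      (by rw [← hsum]; decide) (by decide) (ord3 _ (by decide) (by decide)) (by decide)

theorem fixesOdd_seven (β : MulAut (alternatingGroup (Fin 7))) (h2 : β * β = 1)
    (hout : ∀ x, β ≠ MulAut.conj x) : FixesOdd β := by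
  obtain ⟨hinj, hsurj⟩ := CfsgLib.Schur.conjNormal_bijective (n := 7) (by norm_num) (by norm_num)
  obtain ⟨s, rfl⟩ := hsurj β
  have hodd : Perm.sign s ≠ 1 := by
    intro h
    refine hout ⟨s, Perm.mem_alternatingGroup.2 h⟩ ?_
    apply MulEquiv.ext
    intro x
    apply Subtype.ext
    rw [MulAut.conjNormal_apply, MulAut.conj_apply]
    rfl
  have hs : orderOf s = 2 := by
    refine orderOf_eq_prime (hinj ?_) fun h => hodd (by rw [h, map_one])
    rw [pow_two, map_mul, h2, map_one]
  obtain ⟨c, hc, hc3, hcomm⟩ := exists_three_commute hs hodd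
  refine ⟨⟨c, Perm.mem_alternatingGroup.2 hc⟩, ?_, ?_, ?_⟩
  · intro h
    have := congrArg Subtype.val h
    simp only [OneMemClass.coe_one] at this
    rw [this, orderOf_one] at hc3
    omega
  · rw [Subgroup.orderOf_mk, hc3]
    decide
  · apply Subtype.ext
    rw [MulAut.conjNormal_apply]
    show s * c * s⁻¹ = c
    rw [hcomm, mul_inv_cancel_right]

end Seven

section Main

open Subgroup

theorem map_center_iso {A : Type u} {B : Type*} [Group A] [Group B] (e : A ≃* B) :
    (center A).map e.toMonoidHom = center B := by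
  ext b
  constructor
  · rintro ⟨a, ha, rfl⟩
    refine mem_center_iff.2 fun g => ?_
    obtain ⟨g, rfl⟩ := e.surjective g
    exact ((map_mul e g a).symm.trans (congrArg e (mem_center_iff.1 ha g))).trans (map_mul e a g)
  · intro hb
    refine ⟨e.symm b, mem_center_iff.2 fun g => e.injective ?_, e.apply_symm_apply b⟩
    rw [map_mul, map_mul, e.apply_symm_apply]
    exact mem_center_iff.1 hb _

/-- An automorphism of a perfect group that is trivial modulo the centre is trivial. -/
theorem eq_one_of_mod_center {L : Type u} [Group L] [Group.IsPerfect L] (δ : MulAut L)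
    (h : ∀ a, δ a * a⁻¹ ∈ center L) : δ = 1 := by
  apply MulEquiv.ext
  intro a
  have hfix : commutator L ≤ MonoidHom.eqLocus δ.toMonoidHom (MonoidHom.id L) := by
    rw [commutator_eq_closure, Subgroup.closure_le]
    rintro _ ⟨p, q, rfl⟩
    show δ ⁅p, q⁆ = ⁅p, q⁆
    rw [map_commutatorElement]
    have hp : δ p = (δ p * p⁻¹) * p := (inv_mul_cancel_right _ _).symm
    have hq : δ q = (δ q * q⁻¹) * q := (inv_mul_cancel_right _ _).symm
    have key : ∀ z ∈ center L, ∀ x y : L, ⁅z * x, y⁆ = ⁅x, y⁆ ∧ ⁅x, z * y⁆ = ⁅x, y⁆ := by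
      intro z hz x y
      rw [mem_center_iff] at hz
      simp only [commutatorElement_def, _root_.mul_inv_rev, ← mul_assoc]
      constructor
      · rw [show z * x * y = x * y * z by rw [hz (x * y), mul_assoc]]
        rw [mul_assoc (x * y) z x⁻¹, ← hz x⁻¹, ← mul_assoc, mul_inv_cancel_right]
      · rw [show x * z * y = x * y * z by rw [mul_assoc x z y, ← hz y, ← mul_assoc]]
        rw [mul_assoc (x * y) z x⁻¹, ← hz x⁻¹, ← mul_assoc,
          show x * y * x⁻¹ * z * y⁻¹ = x * y * x⁻¹ * y⁻¹ * z by
            rw [mul_assoc _ z y⁻¹, ← hz y⁻¹, ← mul_assoc], mul_inv_cancel_right]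
    rw [hp, hq, (key _ (h p) _ _).1, (key _ (h q) _ _).2]
  exact hfix ((Group.IsPerfect.commutator_eq_top (G := L)) ▸ mem_top a)

variable {L : Type u} [Group L] [Finite L]

/-- The central quotient of a core-free quasisimple group of 2-rank one. -/
theorem quotient_center_cases (hq : Cfsg.IsQuasisimple L) (hO : Cfsg.oddCore L = ⊥)
    (h1 : Cfsg.PRankLE 2 1 L) :
    (∃ (F : Type) (_ : Field F) (_ : Fintype F), Odd (Fintype.card F) ∧ 3 < Fintype.card F ∧
        Nonempty (L ⧸ center L ≃* Matrix.ProjectiveSpecialLinearGroup (Fin 2) F)) ∨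
      Nonempty (L ⧸ center L ≃* ↥(alternatingGroup (Fin 7))) := by
  haveI := hq.1
  haveI := hq.2
  have heven : Even (Nat.card L) := by
    by_contra h
    rw [Nat.not_even_iff_odd] at h
    haveI := CfsgLib.PF.oddSolvable L h
    have hne : Nontrivial L := (QuotientGroup.mk_surjective (s := center L)).nontrivial
    exact (Group.IsSolvable.commutator_lt_top_of_nontrivial L).ne Group.IsPerfect.commutator_eq_top
  let eO : L ⧸ Cfsg.oddCore L ≃* L :=
    (QuotientGroup.quotientMulEquivOfEq hO).trans QuotientGroup.quotientBot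
  rcases CfsgLib.GWCons.RankOneCover.main CfsgLib.GW.Done.classification hq.1 h1 heven with
    ⟨F, i1, i2, ho, hc, ⟨e⟩⟩ | ⟨-, ⟨e⟩, -⟩
  · exact Or.inl ⟨F, i1, i2, ho, hc, ⟨QuotientGroup.congr (center L) (center _) (eO.symm.trans e)
      (map_center_iso _)⟩⟩
  · exact Or.inr ⟨(QuotientGroup.congr (center L) (center _) eO.symm (map_center_iso _)).trans e⟩

/-- An outer involutory automorphism of a core-free quasisimple group of 2-rank one centralises an
element of odd order. -/
theorem outerInvolGoal : OuterInvolGoal.{u} := by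
  intro L _ _ hq hO h1 φ hφ2 hφout
  haveI := hq.1
  haveI : Fact (Nat.Prime 2) := ⟨Nat.prime_two⟩
  set ψ := descendAut L φ with hψ
  have hψ2 : ψ * ψ = 1 := by rw [hψ, ← map_mul, hφ2, map_one]
  have hψout : ∀ w, ψ ≠ MulAut.conj w := by
    intro w hw
    obtain ⟨x, rfl⟩ := QuotientGroup.mk_surjective w
    refine hφout ⟨x, inv_mul_eq_one.1 (eq_one_of_mod_center _ fun a => ?_)⟩
    rw [← QuotientGroup.eq_one_iff]
    have h := DFunLike.congr_fun hw (a : L ⧸ center L)
    rw [hψ, descendAut_mk, MulAut.conj_apply] at h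
    rw [MulAut.mul_apply, QuotientGroup.mk_mul, MulAut.conj_inv_apply, QuotientGroup.mk_mul,
      QuotientGroup.mk_mul, h, QuotientGroup.mk_inv, QuotientGroup.mk_inv]
    group
  obtain ⟨y, hy1, hyo, hy⟩ : FixesOdd ψ := by
    rcases quotient_center_cases hq hO h1 with ⟨F, _, _, hodd, hc, ⟨e⟩⟩ | h7
    · refine fixesOdd_congr e hψ2 hψout (fixesOdd_psl ?_ hc)
      intro h2
      haveI : CharP F 2 := CharTwo.of_one_ne_zero_of_two_eq_zero one_ne_zero h2
      obtain ⟨n, -, hn⟩ := FiniteField.card F 2
      rw [hn] at hodd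
      exact (Nat.not_even_iff_odd.2 hodd) (Nat.even_pow.2 ⟨even_two, n.ne_zero⟩)
    · obtain ⟨e⟩ := h7
      exact fixesOdd_congr e hψ2 hψout fixesOdd_seven
  obtain ⟨x, rfl⟩ := QuotientGroup.mk_surjective y
  -- an odd order lift
  obtain ⟨k, r, hk, hr⟩ := Nat.exists_eq_two_pow_mul_odd (orderOf_pos x).ne'
  set m := orderOf (x : L ⧸ center L) with hm
  set n := (2 ^ k) ^ Nat.totient r with hn
  have hn1 : n ≡ 1 [MOD r] := Nat.ModEq.pow_totient (Nat.Coprime.pow_left k hk.coprime_two_left)
  set x' := x ^ n with hx'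
  have hx'r : x' ^ r = 1 := by
    rw [hx', ← pow_mul]
    refine orderOf_dvd_iff_pow_eq_one.1 (hr ▸ Nat.mul_dvd_mul_right ?_ r)
    exact dvd_pow_self _ (Nat.totient_pos.2 hk.pos).ne'
  have hmk : (x' : L ⧸ center L) = x := by
    have hmr : m ∣ r := by
      have := orderOf_map_dvd (QuotientGroup.mk' (center L)) x
      rw [hr] at this
      exact (Nat.Coprime.pow_right k (Nat.coprime_two_right.2 hyo)).dvd_of_dvd_mul_left this
    rw [hx', QuotientGroup.mk_pow]
    conv_rhs => rw [← pow_one (x : L ⧸ center L)]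
    rw [pow_eq_pow_iff_modEq]
    exact hn1.of_dvd hmr
  refine ⟨x', ?_, hk.of_dvd_nat (orderOf_dvd_of_pow_eq_one hx'r), ?_⟩
  · intro h
    rw [h, QuotientGroup.mk_one] at hmk
    exact hy1 hmk.symm
  · set z := x'⁻¹ * φ x' with hz
    have hzc : z ∈ center L := by
      rw [← QuotientGroup.eq, hmk, ← descendAut_mk, ← hψ, hmk, hy]
    have hzr : z ^ r = 1 := by
      have hc : Commute x' z := mem_center_iff.1 hzc x'
      have : (φ x') ^ r = 1 := by rw [← map_pow, hx'r, map_one]
      rw [show φ x' = x' * z by rw [hz, mul_inv_cancel_left], hc.mul_pow, hx'r, one_mul] at this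
      exact this
    have hN : zpowers z ≤ Cfsg.oddCore L := by
      refine CfsgLib.PCore.le_pPrimeCore_of_not_dvd ?_ ?_
      · exact ⟨fun a ha g => by
          rwa [mem_center_iff.1 (zpowers_le.2 hzc ha) g, mul_inv_cancel_right]⟩
      · rw [Nat.card_zpowers, ← even_iff_two_dvd, Nat.not_even_iff_odd]
        exact hk.of_dvd_nat (orderOf_dvd_of_pow_eq_one hzr)
    rw [hO] at hN
    have : z = 1 := mem_bot.1 (hN (mem_zpowers z))
    exact (inv_mul_eq_one.1 this).symm

end Main

end CfsgLib.Inter10
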