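import Cfsg.Agent.Lib.Inter10.OuterSmall
import Cfsg.Agent.Lib.BenderTrans.Main

/-!
Simple groups in which the centraliser of an involution centralises all the involutions commuting with
it: an involution lies in one Sylow 2-subgroup and the normaliser of one is transitive on its
involutions.
-/

set_option autoImplicit false
set_option linter.style.haveILetI false
set_option linter.unusedSectionVars false

namespace CfsgLib.Inter10

open Subgroup

universe u

variable {W : Type u} [Group W] [Finite W]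

/-- The centraliser of an involution centralises the involutions commuting with it. -/
def CentComm (W : Type u) [Group W] : Prop :=
  ∀ a b g : W, orderOf a = 2 → orderOf b = 2 → Commute a b → Commute g a → Commute g b

/-- The involutions of each Sylow 2-subgroup are central in it. -/
def InvolCentral (W : Type u) [Group W] : Prop :=
  ∀ S : Sylow 2 W, ∀ x ∈ (S : Subgroup W), x * x = 1 → ∀ s ∈ (S : Subgroup W), Commute s x

theorem CentComm.of_equiv {V : Type*} [Group V] (e : W ≃* V)
    (h : ∀ a b g : V, orderOf a = 2 → orderOf b = 2 → Commute a b → Commute g a → Commute g b) :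
    CentComm W := by
  intro a b g ha hb hab hga
  have h1 := (h (e a) (e b) (e g) (by rw [e.orderOf_eq, ha]) (by rw [e.orderOf_eq, hb])
    (hab.map e.toMonoidHom) (hga.map e.toMonoidHom)).map e.symm.toMonoidHom
  simpa using h1

/-- A 2-element normalising a Sylow 2-subgroup lies in it. -/
theorem mem_of_normalizes (S : Sylow 2 W) {a : W}
    (hn : a ∈ normalizer ((S : Subgroup W) : Set W)) (ha : IsPGroup 2 (zpowers a)) :
    a ∈ (S : Subgroup W) := by
  haveI : Fact (Nat.Prime 2) := ⟨Nat.prime_two⟩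
  have h1 : IsPGroup 2 (zpowers a ⊔ (S : Subgroup W) : Subgroup W) :=
    ha.to_sup_of_normal_right' S.2 (zpowers_le.2 hn)
  exact (le_sup_left.trans (S.3 h1 le_sup_right).le) (mem_zpowers a)

/-- A non-trivial element of a 2-group has an involution among its powers. -/
theorem exists_invol_pow {S : Sylow 2 W} {x : W} (hx : x ∈ (S : Subgroup W)) (h1 : x ≠ 1) :
    ∃ i : ℕ, orderOf (x ^ i) = 2 := by
  obtain ⟨k, hk⟩ := IsPGroup.iff_orderOf.1 S.2 ⟨x, hx⟩
  rw [Subgroup.orderOf_mk] at hk
  rcases k with _ | k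
  · exact absurd (orderOf_eq_one_iff.1 (by simpa using hk)) h1
  · refine ⟨2 ^ k, ?_⟩
    rw [orderOf_pow_of_dvd (by positivity) (hk ▸ pow_dvd_pow 2 k.le_succ), hk, pow_succ,
      Nat.mul_div_cancel_left _ (by positivity)]

section

variable (hF : FourUnique W) (hr : ¬ Cfsg.PRankLE 2 1 W) (hC : CentComm W) (hI : InvolCentral W)
include hF hr hC hI

/-- An involution lies in one Sylow 2-subgroup. -/
theorem eq_of_invol {S T : Sylow 2 W} {a : W} (ha : orderOf a = 2) (haS : a ∈ (S : Subgroup W))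
    (haT : a ∈ (T : Subgroup W)) : S = T := by
  haveI : Fact (Nat.Prime 2) := ⟨Nat.prime_two⟩
  obtain ⟨b, c, hbS, hcS, hb, hc, hbc, -⟩ := exists_four hr S
  obtain ⟨d, hdS, hd, hda⟩ : ∃ d ∈ (S : Subgroup W), orderOf d = 2 ∧ d ≠ a := by
    rcases eq_or_ne b a with rfl | h
    · exact ⟨c, hcS, hc, hbc.symm⟩
    · exact ⟨b, hbS, hb, h⟩
  have hda' : Commute a d := hI S d hdS (Involutions.mul_self_eq_one hd) a haS
  have hdT : d ∈ (T : Subgroup W) := by
    refine mem_of_normalizes T (mem_normalizer_fintype fun t ht => ?_)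
      (IsPGroup.of_card (n := 1) (by rw [Nat.card_zpowers, hd, pow_one]))
    have h1 : Commute t d := hC a d t ha hd hda' (hI T a haT (Involutions.mul_self_eq_one ha) t ht)
    rwa [← h1.eq, mul_inv_cancel_right]
  exact hF S T a d ha hd hda.symm hda' haS hdS haT hdT

/-- Fusion of non-trivial elements of a Sylow 2-subgroup takes place in its normaliser. -/
theorem mem_normalizer_of_conj {S : Sylow 2 W} {x g : W} (hx : x ∈ (S : Subgroup W)) (h1 : x ≠ 1)
    (hg : g * x * g⁻¹ ∈ (S : Subgroup W)) : g ∈ normalizer ((S : Subgroup W) : Set W) := by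
  obtain ⟨i, hi⟩ := exists_invol_pow hx h1
  refine Sylow.smul_eq_iff_mem_normalizer.1 (eq_of_invol hF hr hC hI
    (a := g * x ^ i * g⁻¹) ((Involutions.orderOf_conj_eq g _).trans hi)
    (CentralSylow.conj_mem_smul (pow_mem hx i)) ?_)
  rw [← conj_pow]
  exact pow_mem hg i

variable [IsSimpleGroup W] (hna : ¬ IsMulCommutative W)
include hna

theorem normalizer_ne_top (S : Sylow 2 W) : normalizer ((S : Subgroup W) : Set W) ≠ ⊤ := by
  haveI : Fact (Nat.Prime 2) := ⟨Nat.prime_two⟩
  obtain ⟨b, -, hbS, -, hb, -⟩ := exists_four hr S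
  intro e
  have htop : (S : Subgroup W) = ⊤ := ((normalizer_eq_top_iff.1 e).eq_bot_or_eq_top).resolve_left
    fun h0 => by
      rw [h0, mem_bot] at hbS
      rw [hbS, orderOf_one] at hb
      omega
  have hc : ∀ x y : W, x * x = 1 → Commute y x := fun x y hx => hI S x (htop ▸ mem_top x) hx y (htop ▸ mem_top y)
  have hz : b ∈ center W := mem_center_iff.2 fun y => (hc b y (Involutions.mul_self_eq_one hb)).eq
  have hct : center W = ⊤ := ((inferInstance : (center W).Normal).eq_bot_or_eq_top).resolve_left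
    fun h => by
      rw [h, mem_bot] at hz
      rw [hz, orderOf_one] at hb
      omega
  exact hna ⟨⟨fun x y => mem_center_iff.1 (hct ▸ mem_top y) x⟩⟩

theorem stronglyEmbedded (S : Sylow 2 W) :
    Cfsg.IsStronglyEmbedded (normalizer ((S : Subgroup W) : Set W)) := by
  haveI : Fact (Nat.Prime 2) := ⟨Nat.prime_two⟩
  rw [CfsgLib.Involutions.isStronglyEmbedded_iff]
  obtain ⟨b, -, hbS, -, hb, -⟩ := exists_four hr S
  refine ⟨normalizer_ne_top hF hr hC hI hna S, even_iff_two_dvd.2 ?_, fun g hg t htN ht hs => hg ?_⟩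
  · exact hb.symm.dvd.trans (Subgroup.orderOf_dvd_natCard _ (le_normalizer hbS))
  · have hz : ∀ {y : W}, orderOf y = 2 → IsPGroup 2 (zpowers y) := fun hy =>
      IsPGroup.of_card (n := 1) (by rw [Nat.card_zpowers, hy, pow_one])
    have hso : orderOf (g⁻¹ * t * g) = 2 := by
      simpa using (Involutions.orderOf_conj_eq g⁻¹ t).trans ht
    refine mem_normalizer_of_conj hF hr hC hI (mem_of_normalizes S hs (hz hso))
      (fun e => by rw [e, orderOf_one] at hso; omega) ?_
    rw [show g * (g⁻¹ * t * g) * g⁻¹ = t by group]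
    exact mem_of_normalizes S htN (hz ht)

variable {S : Sylow 2 W} {H : Subgroup W}
  (hdec : ∀ x ∈ normalizer ((S : Subgroup W) : Set W), ∃ s ∈ (S : Subgroup W), ∃ h ∈ H, x = s * h)
  (hHN : H ≤ normalizer ((S : Subgroup W) : Set W))
include hdec hHN

/-- The complement is transitive on the involutions of `S`. -/
theorem exists_conj_invol {a b : W} (ha : orderOf a = 2) (hb : orderOf b = 2)
    (haS : a ∈ (S : Subgroup W)) (hbS : b ∈ (S : Subgroup W)) : ∃ h ∈ H, h * a * h⁻¹ = b := by
  have hfix := BenderTrans.oneFix_of_stronglyEmbedded (stronglyEmbedded hF hr hC hI hna S)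
  obtain ⟨g, hg⟩ := isConj_iff.1 (hfix.isConj_involutions ha hb)
  have hgN : g ∈ normalizer ((S : Subgroup W) : Set W) :=
    mem_normalizer_of_conj hF hr hC hI haS (fun e => by rw [e, orderOf_one] at ha; omega) (hg ▸ hbS)
  obtain ⟨s, hs, h, hh, rfl⟩ := hdec g hgN
  refine ⟨h, hh, ?_⟩
  have h1 : Commute s (h * a * h⁻¹) := hI S _ ((mem_normalizer_iff.1 (hHN hh) a).1 haS)
    (by rw [conj_mul, Involutions.mul_self_eq_one ha, mul_one, mul_inv_cancel]) s hs
  rw [← hg, show s * h * a * (s * h)⁻¹ = s * (h * a * h⁻¹) * s⁻¹ by group, h1.eq, mul_inv_cancel_right]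

/-- An automorphism of 2-power order fixing the complement fixes the involutions. -/
theorem fix_invol {σ : MulAut W} (hσ : ∃ k : ℕ, σ ^ 2 ^ k = 1) (hσH : ∀ h ∈ H, σ h = h)
    (hσS : ∀ s ∈ (S : Subgroup W), σ s ∈ (S : Subgroup W)) {x : W} (hx : x ∈ (S : Subgroup W))
    (hx2 : x * x = 1) : σ x = x := by
  haveI : Fact (Nat.Prime 2) := ⟨Nat.prime_two⟩
  rcases eq_or_ne x 1 with rfl | hx1
  · exact map_one σ
  set A := SylInter.omegaZ S
  have hA : ∀ y : W, y ∈ (S : Subgroup W) → y * y = 1 → y ∈ A := fun y hy hy2 =>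
    ⟨hy, hy2, hI S y hy hy2⟩
  obtain ⟨k, hk⟩ := IsPGroup.iff_card.1 (S.2.to_le (SylInter.omegaZ_le : A ≤ _))
  have hk1 : k ≠ 0 := fun e => by
    rw [e, pow_zero, Subgroup.card_eq_one] at hk
    exact hx1 (mem_bot.1 (hk ▸ hA x hx hx2))
  obtain ⟨f, ⟨hfA, hf1⟩, hff⟩ := exists_fixed hσ (X := (A : Set W) \ {1})
    (fun y hy => ⟨hA _ (hσS y hy.1.1) (by rw [← map_mul, hy.1.2.1, map_one]),
      fun e => hy.2 (σ.injective (e.trans (map_one σ).symm))⟩) (by
      rw [Set.ncard_sdiff_singleton_of_mem (one_mem A), ← Nat.card_coe_set_eq]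
      show Odd (Nat.card A - 1)
      rw [hk]
      exact Nat.Even.sub_odd Nat.one_le_two_pow (even_two.pow_of_ne_zero hk1) odd_one)
  obtain ⟨h, hh, rfl⟩ := exists_conj_invol hF hr hC hI hna hdec hHN
    (SylInter.orderOf_of_mem_omegaZ hfA hf1) (orderOf_eq_prime (by rw [pow_two]; exact hx2) hx1)
    hfA.1 hx
  rw [map_mul, map_mul, map_inv, hσH h hh, hff]

end

/-- The centres of the Sylow 2-subgroups contain four-groups. -/
theorem centralFour_of_involCentral (hr : ¬ Cfsg.PRankLE 2 1 W) (hI : InvolCentral W) : CentralFour W :=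
  fun S => by
    obtain ⟨a, b, haS, hbS, ha, hb, hab, -⟩ := exists_four hr S
    exact ⟨a, b, haS, hbS, ha, hb, hab, fun s hs => ⟨hI S a haS (Involutions.mul_self_eq_one ha) s hs,
      hI S b hbS (Involutions.mul_self_eq_one hb) s hs⟩⟩

/-- Elementary abelian Sylow 2-subgroups are rigid. -/
theorem rigid_of_elementary [IsSimpleGroup W] (hF : FourUnique W) (hna : ¬ IsMulCommutative W)
    (hr : ¬ Cfsg.PRankLE 2 1 W) (hC : CentComm W)
    (hel : ∀ S : Sylow 2 W, ∀ x ∈ (S : Subgroup W), x * x = 1) : Rigid W ∧ CentralFour W := by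
  have hI : InvolCentral W := fun S x hx hx2 s hs => by
    have h1 := hel S _ (mul_mem hs hx)
    show s * x = x * s
    rw [← inv_eq_of_mul_eq_one_right h1, mul_inv_rev, inv_eq_of_mul_eq_one_right hx2,
      inv_eq_of_mul_eq_one_right (hel S s hs)]
  refine ⟨fun S H hHN _ hdec σ hσ hσH hσS s hs => ?_, centralFour_of_involCentral hr hI⟩
  exact fix_invol hF hr hC hI hna hdec hHN hσ hσH hσS hs (hel S s hs)

end CfsgLib.Inter10
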