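import Cfsg.Agent.Lib.Inter10.OuterBasic
import Cfsg.Agent.Lib.SylInter.Basic

/-!
Simple groups with unique four-groups and Sylow 2-subgroups of order at most eight: the Sylow
2-subgroups are elementary abelian and rigid.
-/

set_option autoImplicit false
set_option linter.style.haveILetI false
set_option linter.unusedSectionVars false

namespace CfsgLib.Inter10

open Subgroup

universe u

variable {W : Type u} [Group W] [Finite W]

/-- An automorphism of 2-power order fixes a point of an invariant set of odd size. -/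
theorem exists_fixed {σ : MulAut W} (hσ : ∃ k : ℕ, σ ^ 2 ^ k = 1) {X : Set W}
    (hX : ∀ x ∈ X, σ x ∈ X) (hodd : Odd X.ncard) : ∃ x ∈ X, σ x = x := by
  classical
  haveI : Fact (Nat.Prime 2) := ⟨Nat.prime_two⟩
  obtain ⟨k, hk⟩ := hσ
  letI : Fintype X := Fintype.ofFinite X
  have hi : Function.Injective (fun x : X => (⟨σ x, hX x x.2⟩ : X)) := fun a b hab =>
    Subtype.ext (σ.injective (congrArg Subtype.val hab))
  let e : Equiv.Perm X := Equiv.ofBijective _ ⟨hi, Finite.injective_iff_surjective.1 hi⟩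
  have hpow : ∀ (j : ℕ) (x : X), (((e ^ j) x : X) : W) = (σ ^ j) x := by
    intro j
    induction j with
    | zero => intro x; simp
    | succ j ih =>
      intro x
      rw [pow_succ', pow_succ', Equiv.Perm.mul_apply, MulAut.mul_apply, ← ih x]
      rfl
  obtain ⟨a, ha⟩ := Equiv.Perm.exists_fixed_point_of_prime (p := 2) (n := k)
    (σ := e) (by
      rw [← Nat.card_eq_fintype_card, Nat.card_coe_set_eq]
      exact hodd.not_two_dvd_nat)
    (Equiv.ext fun x => Subtype.ext (by rw [hpow, hk]; rfl))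
  exact ⟨a, a.2, congrArg Subtype.val ha⟩

/-- A group of odd order acting on four points fixes one. -/
theorem exists_fixed_of_four {H : Subgroup W} (hH : Odd (Nat.card H)) {X : Set W}
    (hX : ∀ h ∈ H, ∀ x ∈ X, h * x * h⁻¹ ∈ X) (h4 : X.ncard = 4) :
    ∃ x ∈ X, ∀ h ∈ H, h * x * h⁻¹ = x := by
  classical
  haveI : Fact (Nat.Prime 3) := ⟨Nat.prime_three⟩
  letI : MulAction H X :=
    { smul := fun h x => ⟨(h : W) * x * (h : W)⁻¹, hX h h.2 x x.2⟩
      one_smul := fun x => Subtype.ext (show (1 : W) * x * (1 : W)⁻¹ = x by simp)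
      mul_smul := fun a b x => Subtype.ext (show ((a : W) * b) * x * ((a : W) * b)⁻¹ =
        (a : W) * ((b : W) * x * (b : W)⁻¹) * (a : W)⁻¹ by group) }
  set ρ := MulAction.toPermHom H X
  have hcard : Nat.card X = 4 := by rw [Nat.card_coe_set_eq, h4]
  have hd1 : Nat.card ρ.range ∣ 24 := by
    have h1 := Subgroup.card_subgroup_dvd_card ρ.range
    rwa [Nat.card_perm, hcard] at h1
  have hd2 : Nat.card ρ.range ∣ Nat.card H := Subgroup.card_range_dvd ρ
  have hd3 : Nat.card ρ.range ∣ 3 := by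
    refine (Nat.Coprime.pow_right 3 ?_).dvd_of_dvd_mul_left (show Nat.card ρ.range ∣ 2 ^ 3 * 3 from hd1)
    exact Nat.coprime_two_right.2 (hH.of_dvd_nat hd2)
  have hP : IsPGroup 3 ρ.range := by
    obtain ⟨i, -, hi⟩ := (Nat.dvd_prime_pow Nat.prime_three).1 (show Nat.card ρ.range ∣ 3 ^ 1 from hd3)
    exact IsPGroup.of_card hi
  obtain ⟨x, hx⟩ := hP.nonempty_fixed_point_of_prime_not_dvd_card X (by rw [hcard]; decide)
  exact ⟨x, x.2, fun h hh => congrArg Subtype.val (hx ⟨ρ ⟨h, hh⟩, ⟨_, rfl⟩⟩)⟩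

theorem rankOneInter_of_fourUnique (hF : FourUnique W) : SylInter.RankOneInter W :=
  fun S T _ s t _ hs ht hne hc _ hsS htS _ hsT htT => hF S T s t hs ht hne hc hsS htS hsT htT

/-- A Sylow 2-subgroup of a group of 2-rank at least two contains two commuting involutions. -/
theorem exists_four (hr : ¬ Cfsg.PRankLE 2 1 W) (S : Sylow 2 W) :
    ∃ a b : W, a ∈ (S : Subgroup W) ∧ b ∈ (S : Subgroup W) ∧ orderOf a = 2 ∧ orderOf b = 2 ∧
      a ≠ b ∧ Commute a b := by
  haveI : Fact (Nat.Prime 2) := ⟨Nat.prime_two⟩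
  simp only [Cfsg.PRankLE, not_forall, not_le] at hr
  obtain ⟨A, hA, hA2, hA1⟩ := hr
  obtain ⟨T, hT⟩ := (show IsPGroup 2 A from fun x => ⟨1, Subtype.ext (by simpa using hA2 x x.2)⟩).exists_le_sylow
  obtain ⟨g, hg⟩ := MulAction.exists_smul_eq W T S
  obtain ⟨⟨a, ha⟩, ha1⟩ : ∃ a : A, a ≠ 1 := by
    by_contra h
    push Not at h
    haveI : Subsingleton A := ⟨fun x y => (h x).trans (h y).symm⟩
    rw [Nat.card_unique] at hA1
    omega
  obtain ⟨⟨b, hb⟩, hb1, hab⟩ : ∃ b : A, b ≠ 1 ∧ (b : W) ≠ a := by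
    by_contra h
    push Not at h
    have hsub : (A : Set W) ⊆ {1, a} := fun x hx => by
      by_cases h1 : (⟨x, hx⟩ : A) = 1
      · exact Or.inl (congrArg Subtype.val h1)
      · exact Or.inr (h ⟨x, hx⟩ h1)
    have h2 := (Set.ncard_le_ncard hsub (Set.toFinite _)).trans (Set.ncard_insert_le (1 : W) {a})
    rw [Set.ncard_singleton, ← Nat.card_coe_set_eq] at h2
    have : Nat.card (A : Set W) = Nat.card A := rfl
    omega
  haveI := hA
  have hmem : ∀ x ∈ A, g * x * g⁻¹ ∈ (S : Subgroup W) := fun x hx =>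
    hg ▸ CentralSylow.conj_mem_smul (hT hx)
  have h2 : ∀ x ∈ A, x ≠ 1 → orderOf (g * x * g⁻¹) = 2 := fun x hx hx1 => by
    rw [Involutions.orderOf_conj_eq]
    exact orderOf_eq_prime (hA2 x hx) hx1
  exact ⟨g * a * g⁻¹, g * b * g⁻¹, hmem a ha, hmem b hb,
    h2 a ha fun e => ha1 (Subtype.ext e), h2 b hb fun e => hb1 (Subtype.ext e),
    fun e => hab (by simpa using e.symm),
    (show Commute a b from congrArg Subtype.val (mul_comm' (⟨a, ha⟩ : A) ⟨b, hb⟩)).map
      (MulAut.conj g).toMonoidHom⟩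

variable [IsSimpleGroup W]

/-- A Sylow 2-subgroup of order at most eight is elementary abelian. -/
theorem omegaZ_eq_sylow (hF : FourUnique W) (hna : ¬ IsMulCommutative W) (hr : ¬ Cfsg.PRankLE 2 1 W)
    (S : Sylow 2 W) (h8 : Nat.card (S : Subgroup W) ≤ 8) : SylInter.omegaZ S = (S : Subgroup W) := by
  haveI : Fact (Nat.Prime 2) := ⟨Nat.prime_two⟩
  set A := SylInter.omegaZ S with hA
  have hmov := fun {e : W} (he : e ∈ A) (h1 : e ≠ 1) =>
    (rankOneInter_of_fourUnique hF).exists_moving hna he h1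
  obtain ⟨a, b, haS, hbS, ha2, hb2, hab, habc⟩ := exists_four hr S
  haveI : Nontrivial (S : Subgroup W) := nontrivial_iff_exists_ne 1 |>.2
    ⟨⟨a, haS⟩, fun e => by rw [show a = 1 from congrArg Subtype.val e, orderOf_one] at ha2; omega⟩
  haveI := S.2.center_nontrivial
  obtain ⟨c, hc⟩ : ∃ c : Subgroup.center (S : Subgroup W), orderOf c = 2 := by
    refine exists_prime_orderOf_dvd_card' 2 ?_
    obtain ⟨j, hj⟩ := IsPGroup.iff_card.1 (S.2.to_subgroup (Subgroup.center (S : Subgroup W)))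
    rcases j with _ | j
    · rw [pow_zero] at hj
      exact absurd hj (ne_of_gt Finite.one_lt_card)
    · exact hj ▸ dvd_pow_self 2 j.succ_ne_zero
  rw [← Subgroup.orderOf_coe, ← Subgroup.orderOf_coe] at hc
  have hcA : ((c : (S : Subgroup W)) : W) ∈ A := ⟨c.1.2, Involutions.mul_self_eq_one hc,
    fun s hs => congrArg Subtype.val (mem_center_iff.1 c.2 ⟨s, hs⟩)⟩
  set c₀ : W := ((c : (S : Subgroup W)) : W)
  have hc1 : c₀ ≠ 1 := fun e => by rw [e, orderOf_one] at hc; omega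
  obtain ⟨n, hn, hnc⟩ := hmov hcA hc1
  set d := n * c₀ * n⁻¹
  have hdA : d ∈ A := SylInter.conj_mem_omegaZ hn hcA
  have hd1 : d ≠ 1 := fun e => hc1 (conj_eq_one_iff.1 e)
  refine le_antisymm SylInter.omegaZ_le fun x hx => ?_
  by_contra hxA
  have h4 : 4 ≤ Nat.card A := by
    have h1 := SylInter.card_closure_pair_four (SylInter.orderOf_of_mem_omegaZ hdA hd1)
      (SylInter.orderOf_of_mem_omegaZ hcA hc1) hnc (SylInter.commute_of_mem_omegaZ hdA hcA)
    rw [← h1]
    exact Nat.le_of_dvd Nat.card_pos (card_dvd_of_le ((closure_le _).2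
      (Set.insert_subset hdA (Set.singleton_subset_iff.2 hcA))))
  have hidx : A.relIndex (S : Subgroup W) = 2 := by
    have h1 := relIndex_mul_relIndex ⊥ A (S : Subgroup W) bot_le SylInter.omegaZ_le
    rw [relIndex_bot_left, relIndex_bot_left] at h1
    have h2 : A.relIndex (S : Subgroup W) ≠ 1 := fun e => hxA (relIndex_eq_one.1 e hx)
    have h3 : A.relIndex (S : Subgroup W) ≠ 0 := fun e => by rw [e, mul_zero] at h1; exact Nat.card_pos.ne h1
    have h5 : 4 * A.relIndex (S : Subgroup W) ≤ 8 := (Nat.mul_le_mul_right _ h4).trans (h1.le.trans h8)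
    omega
  have hcos : ∀ y ∈ (S : Subgroup W), y ∈ A ∨ x⁻¹ * y ∈ A := by
    intro y hy
    by_cases hyA : y ∈ A
    · exact Or.inl hyA
    refine Or.inr ?_
    have h1 := Subgroup.mul_mem_iff_of_index_two (H := A.subgroupOf (S : Subgroup W)) hidx
      (a := (⟨x⁻¹, inv_mem hx⟩ : (S : Subgroup W))) (b := ⟨y, hy⟩)
    simp only [mem_subgroupOf, Subgroup.coe_mul, inv_mem_iff] at h1
    exact h1.2 (iff_of_false hxA hyA)
  have hxc : ∀ y ∈ (S : Subgroup W), Commute y x := fun y hy => by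
    rcases hcos y hy with h1 | h1
    · exact (h1.2.2 x hx).symm
    · rw [show y = x * (x⁻¹ * y) by group]
      exact (Commute.refl x).mul_left (h1.2.2 x hx).symm
  have hsq : ∀ y ∈ (S : Subgroup W), y * y = 1 ∨ y * y = x * x := fun y hy => by
    rcases hcos y hy with h1 | h1
    · exact Or.inl h1.2.1
    · refine Or.inr ?_
      set t := x⁻¹ * y with ht
      rw [show y = x * t by rw [ht, mul_inv_cancel_left],
        show x * t * (x * t) = x * (t * x) * t by group, ← (h1.2.2 x hx).eq,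
        show x * (x * t) * t = x * x * (t * t) by group, h1.2.1, mul_one]
  have hx2 : x * x ≠ 1 := fun e => hxA ⟨hx, e, hxc⟩
  have hxxA : x * x ∈ A := by
    have h1 := Subgroup.sq_mem_of_index_two hidx (⟨x, hx⟩ : (S : Subgroup W))
    simpa [mem_subgroupOf, pow_two] using h1
  obtain ⟨m, hm, hmne⟩ := hmov hxxA hx2
  rcases hsq _ ((mem_normalizer_iff.1 hm x).1 hx) with h1 | h1
  · rw [conj_mul] at h1
    exact hx2 (conj_eq_one_iff.1 h1)
  · rw [conj_mul] at h1
    exact hmne h1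

/-- Sylow 2-subgroups of order at most eight are rigid. -/
theorem rigid_of_small (hF : FourUnique W) (hna : ¬ IsMulCommutative W) (hr : ¬ Cfsg.PRankLE 2 1 W)
    (h8 : ∀ S : Sylow 2 W, Nat.card (S : Subgroup W) ≤ 8) : Rigid W ∧ CentralFour W := by
  haveI : Fact (Nat.Prime 2) := ⟨Nat.prime_two⟩
  constructor
  swap
  · intro S
    obtain ⟨a, b, haS, hbS, ha2, hb2, hab, -⟩ := exists_four hr S
    have he := omegaZ_eq_sylow hF hna hr S (h8 S)
    exact ⟨a, b, haS, hbS, ha2, hb2, hab, fun s hs =>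
      ⟨(he.symm ▸ haS : a ∈ SylInter.omegaZ S).2.2 s hs, (he.symm ▸ hbS : b ∈ SylInter.omegaZ S).2.2 s hs⟩⟩
  intro S H hHN hHodd hdec σ hσ hσH hσS
  have he := omegaZ_eq_sylow hF hna hr S (h8 S)
  have hom : ∀ s ∈ (S : Subgroup W), s ∈ SylInter.omegaZ S := fun s hs => he.symm ▸ hs
  have hmov : ∀ s ∈ (S : Subgroup W), (∀ h ∈ H, h * s * h⁻¹ = s) → s = 1 := by
    intro s hs hfix
    by_contra h1
    obtain ⟨n, hn, hne⟩ := (rankOneInter_of_fourUnique hF).exists_moving hna (hom s hs) h1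
    obtain ⟨t, ht, c, hc, rfl⟩ := hdec n hn
    refine hne ?_
    calc t * c * s * (t * c)⁻¹ = t * (c * s * c⁻¹) * t⁻¹ := by group
      _ = t * s * t⁻¹ := by rw [hfix c hc]
      _ = s := by rw [((hom s hs).2.2 t ht).eq, mul_inv_cancel_right]
  let F : Subgroup W :=
    { carrier := {s | s ∈ (S : Subgroup W) ∧ σ s = s}
      one_mem' := ⟨one_mem _, map_one σ⟩
      mul_mem' := fun {x y} hx hy => ⟨mul_mem hx.1 hy.1, by rw [map_mul, hx.2, hy.2]⟩
      inv_mem' := fun {x} hx => ⟨inv_mem hx.1, by rw [map_inv, hx.2]⟩ }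
  have hFS : F ≤ (S : Subgroup W) := fun _ h => h.1
  have hFH : ∀ h ∈ H, ∀ x ∈ F, h * x * h⁻¹ ∈ F := fun h hh x hx =>
    ⟨(mem_normalizer_iff.1 (hHN hh) x).1 hx.1, by rw [map_mul, map_mul, map_inv, hσH h hh, hx.2]⟩
  obtain ⟨k, hk⟩ := IsPGroup.iff_card.1 S.2
  obtain ⟨a, b, haS, hbS, ha2, hb2, hab, -⟩ := exists_four hr S
  have hk1 : k ≠ 0 := fun e => by
    rw [e, pow_zero, Subgroup.card_eq_one] at hk
    rw [hk, mem_bot] at haS
    rw [haS, orderOf_one] at ha2
    omega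
  obtain ⟨f, ⟨hfS, hf1⟩, hff⟩ := exists_fixed hσ (X := ((S : Subgroup W) : Set W) \ {1})
    (fun x hx => ⟨hσS x hx.1, fun e => hx.2 (σ.injective (e.trans (map_one σ).symm))⟩) (by
      rw [Set.ncard_sdiff_singleton_of_mem (one_mem _), ← Nat.card_coe_set_eq]
      show Odd (Nat.card (S : Subgroup W) - 1)
      rw [hk]
      exact Nat.Even.sub_odd Nat.one_le_two_pow (even_two.pow_of_ne_zero hk1) odd_one)
  have hf1' : f ≠ 1 := hf1
  intro s hs
  by_contra hsF
  obtain ⟨j, hj, hjF⟩ := (Nat.dvd_prime_pow Nat.prime_two).1 (hk ▸ card_dvd_of_le hFS)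
  have hlt : Nat.card F < 2 ^ k := lt_of_le_of_ne
    (hk ▸ Nat.le_of_dvd Nat.card_pos (card_dvd_of_le hFS)) fun e =>
      hsF ((Subgroup.eq_of_le_of_card_ge hFS (by rw [e, hk])).symm ▸ hs : s ∈ F).2
  have hk3 : k ≤ 3 := by
    have := h8 S
    rw [hk] at this
    exact (Nat.pow_le_pow_iff_right (by norm_num)).1 (show 2 ^ k ≤ 2 ^ 3 by simpa using this)
  rw [hjF] at hlt
  have hjk : j < k := (Nat.pow_lt_pow_iff_right (by norm_num)).1 hlt
  have hj1 : j ≠ 0 := fun e => by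
    rw [e, pow_zero, Subgroup.card_eq_one] at hjF
    exact hf1' (Subgroup.mem_bot.1 (hjF ▸ (⟨hfS, hff⟩ : f ∈ F)))
  rcases (show j = 1 ∨ j = 2 by omega) with rfl | rfl
  · refine hf1' (hmov f hfS fun h hh => ?_)
    by_contra hne
    have hsub : ({1, f, h * f * h⁻¹} : Set W) ⊆ (F : Set W) := by
      rintro x (rfl | rfl | rfl)
      · exact F.one_mem
      · exact ⟨hfS, hff⟩
      · exact hFH h hh f ⟨hfS, hff⟩
    have h1 := Set.ncard_le_ncard hsub (Set.toFinite _)
    rw [Set.ncard_insert_of_notMem (by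
        simp only [Set.mem_insert_iff, Set.mem_singleton_iff]
        rintro (e | e)
        · exact hf1' e.symm
        · exact hf1' (conj_eq_one_iff.1 e.symm)),
      Set.ncard_pair (Ne.symm hne), ← Nat.card_coe_set_eq] at h1
    have h2 : Nat.card (F : Set W) = 2 ^ 1 := hjF
    omega
  · obtain rfl : k = 3 := by omega
    obtain ⟨x, ⟨hxS, hxF⟩, hx⟩ := exists_fixed_of_four hHodd
      (X := ((S : Subgroup W) : Set W) \ (F : Set W)) (fun h hh x hx =>
        ⟨(mem_normalizer_iff.1 (hHN hh) x).1 hx.1, fun e => hx.2 (by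
          have h1 := hFH h⁻¹ (inv_mem hh) _ e
          rwa [inv_inv, show h⁻¹ * (h * x * h⁻¹) * h = x by group] at h1)⟩) (by
        rw [Set.ncard_sdiff (fun x hx => hFS hx), ← Nat.card_coe_set_eq, ← Nat.card_coe_set_eq]
        show Nat.card (S : Subgroup W) - Nat.card F = 4
        rw [hk, hjF]; norm_num)
    exact hxF ((hmov x hxS hx).symm ▸ F.one_mem)

end CfsgLib.Inter10
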