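import Cfsg.Agent.Lib.Inter10.Basic
import Cfsg.Agent.Lib.InvChar.SLTwo
import Cfsg.Agent.Lib.Schur.SLTwo

/-!
A quaternion Sylow 2-subgroup of `SL(2,5)` and an element of its normaliser permuting its three cyclic
subgroups of order four.
-/

set_option autoImplicit false
set_option linter.style.haveILetI false
set_option linter.unusedSectionVars false

namespace CfsgLib.Inter10

open Subgroup Pointwise Matrix CfsgLib.InvChar CfsgLib.Involutions

universe u

theorem two_ne_five : (2 : ZMod 5) ≠ 0 := by decide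

theorem prime_five_fact : Fact (Nat.Prime 5) := ⟨by norm_num⟩

attribute [local instance] prime_five_fact

theorem five_matrices : ∃ i0 j0 h0 : SpecialLinearGroup (Fin 2) (ZMod 5),
    i0 * i0 = -1 ∧ (i0 * i0) * (i0 * i0) = 1 ∧ j0 * j0 = -1 ∧ j0 * i0 = -1 * (i0 * j0) ∧
      h0 * i0 = j0 * h0 ∧ h0 * j0 = i0 * j0 * h0 ∧ (-1 : SpecialLinearGroup (Fin 2) (ZMod 5)) ≠ 1 :=
  ⟨sl2Mk 2 0 0 3 (by decide), sl2Mk 0 1 4 0 (by decide), sl2Mk 1 1 2 3 (by decide),
    by simp only [sl2_mul, sl2_neg_one, sl2_ext_iff]; decide,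
    by simp only [sl2_mul, sl2_one, sl2_ext_iff]; decide,
    by simp only [sl2_mul, sl2_neg_one, sl2_ext_iff]; decide,
    by simp only [sl2_mul, sl2_neg_one, sl2_ext_iff]; decide,
    by simp only [sl2_mul, sl2_ext_iff]; decide,
    by simp only [sl2_mul, sl2_ext_iff]; decide,
    by simp only [ne_eq, sl2_one, sl2_neg, sl2_ext_iff]; decide⟩

/-- The data of a quaternion subgroup with an element of order three on it. -/
structure QuatData {L : Type u} [Group L] (z i j h : L) : Prop where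
  zc : ∀ g : L, Commute g z
  zz : z * z = 1
  z1 : z ≠ 1
  ii : i * i = z
  jj : j * j = z
  ji : j * i = z * (i * j)
  hi : h * i * h⁻¹ = j
  hj : h * j * h⁻¹ = i * j

/-- In a group isomorphic to `SL(2,5)` every Sylow 2-subgroup carries the data. -/
theorem exists_quatData {L : Type u} [Group L] [Finite L]
    (e : L ≃* SpecialLinearGroup (Fin 2) (ZMod 5)) (P : Sylow 2 L) :
    Nat.card (P : Subgroup L) = 8 ∧
      ∃ z i j h : L, QuatData z i j h ∧ (P : Subgroup L) = closure {i, j} ∧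
        (∀ x : L, orderOf x = 2 → x = z) := by
  haveI : Fact (Nat.Prime 2) := ⟨Nat.prime_two⟩
  have h8 : ∀ R : Sylow 2 L, Nat.card (R : Subgroup L) = 8 := fun R => by
    rw [R.card_eq_multiplicity, Nat.card_congr e.toEquiv, CfsgLib.Schur.natCard_slTwo, ZMod.card,
      show 5 * ((5 - 1) * (5 + 1)) = 2 ^ 3 * 15 by norm_num, Nat.factorization_mul (by norm_num) (by norm_num),
      Finsupp.add_apply, Nat.Prime.factorization_pow Nat.prime_two, Finsupp.single_eq_same,
      Nat.factorization_eq_zero_of_not_dvd (by norm_num : ¬ 2 ∣ 15)]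
    norm_num
  obtain ⟨i0, j0, h0, e1, e1', e2, e3, e4, e5, e6⟩ := five_matrices
  have hd : QuatData (e.symm (-1)) (e.symm i0) (e.symm j0) (e.symm h0) := by
    refine ⟨fun g => e.injective ?_, ?_, ?_, ?_, ?_, ?_, ?_, ?_⟩
    · rw [map_mul, map_mul, e.apply_symm_apply]
      refine Subtype.ext ?_
      simp [SpecialLinearGroup.coe_mul, SpecialLinearGroup.coe_neg, SpecialLinearGroup.coe_one]
    · rw [← map_mul, ← e1]
      exact (congrArg e.symm e1').trans (map_one e.symm)
    · exact (EmbeddingLike.map_ne_one_iff (f := e.symm)).2 e6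
    · rw [← map_mul, e1]
    · rw [← map_mul, e2]
    · rw [← map_mul, ← map_mul, ← map_mul, e3]
    · rw [← map_inv, ← map_mul, ← map_mul, e4, mul_inv_cancel_right]
    · rw [← map_inv, ← map_mul, ← map_mul, ← map_mul, e5, mul_inv_cancel_right]
  have huniq : ∀ x : L, orderOf x = 2 → x = e.symm (-1) := fun x hx => by
    rw [← e.symm_apply_apply x]
    exact congrArg e.symm (eq_neg_one_of_sq two_ne_five
      ((EmbeddingLike.map_ne_one_iff (f := e)).2 (ne_one_of_involution hx))
      (by rw [← map_mul, mul_self_eq_one hx, map_one]))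
  generalize e.symm (-1) = z, e.symm i0 = i, e.symm j0 = j, e.symm h0 = h at hd huniq
  have hz2 : orderOf z = 2 := orderOf_eq_two_iff_mul.2 ⟨hd.z1, hd.zz⟩
  have h4 : ∀ x : L, x * x = z → orderOf x = 4 := fun x hx =>
    orderOf_eq_prime_pow (n := 1) (p := 2) (by rw [pow_one, pow_two, hx]; exact hd.z1)
      (by rw [show (2 : ℕ) ^ (1 + 1) = 2 + 2 by norm_num, pow_add, pow_two, hx, hd.zz])
  have hzi : z * i = i * z := (hd.zc i).eq.symm
  have hji : j * i * j⁻¹ = i⁻¹ := by
    rw [hd.ji, eq_inv_iff_mul_eq_one, show z * (i * j) * j⁻¹ * i = z * (i * i) by group, hd.ii, hd.zz]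
  have hjN : zpowers j ≤ normalizer (zpowers i : Set L) := by
    refine zpowers_le.2 (mem_normalizer_iff.2 fun x => ⟨?_, fun hx => ?_⟩)
    · rintro ⟨k, rfl⟩
      rw [← conj_zpow, hji]
      exact zpow_mem (inv_mem (mem_zpowers i)) k
    · obtain ⟨k, hk⟩ := hx
      have hx' : x = j⁻¹ * i ^ k * j := by
        rw [show i ^ k = j * x * j⁻¹ from hk]; group
      have hji' : j⁻¹ * i * j = i⁻¹ := by
        apply inv_injective
        rw [inv_inv]
        have := congrArg (fun y => j⁻¹ * y * j) hji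
        simp only [mul_assoc, inv_mul_cancel_left, inv_mul_cancel, mul_one] at this ⊢
        rw [_root_.mul_inv_rev, _root_.mul_inv_rev, inv_inv, mul_assoc]
        exact this.symm
      rw [hx', show j⁻¹ * i ^ k * j = (j⁻¹ * i * j) ^ k by
        conv_lhs => rw [show j = j⁻¹⁻¹ by rw [inv_inv]]
        rw [inv_inv, ← conj_zpow]
        simp, hji']
      exact zpow_mem (inv_mem (mem_zpowers i)) k
  have hp : ∀ x : L, x * x = z → IsPGroup 2 (zpowers x) := fun x hx =>
    IsPGroup.of_card (n := 2) (by rw [Nat.card_zpowers, h4 x hx]; norm_num)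
  have hsup : IsPGroup 2 (zpowers j ⊔ zpowers i : Subgroup L) :=
    (hp j hd.jj).to_sup_of_normal_right' (hp i hd.ii) hjN
  have hQp : IsPGroup 2 (closure {i, j} : Subgroup L) := hsup.to_le ((closure_le _).2 (by
    rintro x (rfl | rfl)
    exacts [mem_sup_right (mem_zpowers _), mem_sup_left (mem_zpowers _)]))
  obtain ⟨R, hR⟩ := hQp.exists_le_sylow
  have hjn : j ∉ zpowers i := by
    rintro ⟨k, hk⟩
    have hc : i * j = j * i := by
      rw [show j = i ^ k from hk.symm]
      exact ((Commute.refl i).zpow_right k).eq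
    rw [hd.ji] at hc
    exact hd.z1 (mul_right_cancel (show z * (i * j) = 1 * (i * j) by rw [one_mul, ← hc]))
  have hlt : 4 < Nat.card (closure {i, j} : Subgroup L) := by
    have hle : zpowers i ≤ (closure {i, j} : Subgroup L) := zpowers_le.2 (subset_closure (Or.inl rfl))
    have h1 : 4 ≤ Nat.card (closure {i, j} : Subgroup L) := by
      rw [← h4 i hd.ii, ← Nat.card_zpowers]; exact card_le_of_le hle
    refine lt_of_le_of_ne h1 fun e4' => hjn ?_
    rw [eq_of_le_of_card_ge hle (by rw [Nat.card_zpowers, h4 i hd.ii]; omega)]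
    exact subset_closure (Or.inr rfl)
  have hRQ : (R : Subgroup L) = closure {i, j} := by
    refine (eq_of_le_of_card_ge hR ?_).symm
    obtain ⟨c, hc⟩ := card_dvd_of_le hR
    rw [h8] at hc ⊢
    rcases c with _ | _ | c <;> nlinarith
  obtain ⟨g, rfl⟩ := MulAction.exists_smul_eq L R P
  refine ⟨h8 _, z, g * i * g⁻¹, g * j * g⁻¹, g * h * g⁻¹, ?_, ?_, huniq⟩
  · have hz : g * z * g⁻¹ = z := by rw [(hd.zc g).eq, mul_inv_cancel_right]
    have hcj : ∀ a b : L, g * a * g⁻¹ * (g * b * g⁻¹) = g * (a * b) * g⁻¹ := fun a b => by group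
    refine ⟨hd.zc, hd.zz, hd.z1, ?_, ?_, ?_, ?_, ?_⟩
    · rw [hcj, hd.ii, hz]
    · rw [hcj, hd.jj, hz]
    · rw [hcj, hd.ji, hcj i j]
      conv_rhs => rw [← hz, hcj]
    · rw [show g * h * g⁻¹ * (g * i * g⁻¹) * (g * h * g⁻¹)⁻¹ = g * (h * i * h⁻¹) * g⁻¹ by group, hd.hi]
    · rw [show g * h * g⁻¹ * (g * j * g⁻¹) * (g * h * g⁻¹)⁻¹ = g * (h * j * h⁻¹) * g⁻¹ by group, hd.hj,
        hcj]
  · rw [Sylow.coe_subgroup_smul, hRQ]
    show (closure {i, j} : Subgroup L).map (MulAut.conj g).toMonoidHom = _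
    rw [MonoidHom.map_closure]
    congr 1
    simp [Set.image_pair]

end CfsgLib.Inter10
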