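import Cfsg.Agent.Lib.Inter10.RankTwoMain
import Cfsg.Agent.Lib.Inter10.SLFive
import Cfsg.Agent.Lib.GWCons.RankOneCover
import Cfsg.Agent.S0483

/-!
S3310: components of 2-rank one. A twisting element (an element of order four centralising the component
and squaring to its involution) forces `SL(2,5)` and splits the Sylow 2-subgroup.
-/

set_option autoImplicit false
set_option linter.style.haveILetI false
set_option linter.unusedSectionVars false

namespace CfsgLib.Inter10

open Subgroup Pointwise CfsgLib.Involutions CfsgLib.Components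
open scoped commutatorElement

universe u

/-- The centre of a core-free quasisimple group of 2-rank one has order two, and the group is `SL(2,q)` or
the double cover of `A₇`. -/
theorem rankOne_facts {L : Type u} [Group L] [Finite L] (hq : Cfsg.IsQuasisimple L)
    (hO : Cfsg.oddCore L = ⊥) (hr : Cfsg.PRankLE 2 1 L) :
    Nat.card (center L) = 2 ∧ (Nat.card L = 5040 ∨
      ∃ q : ℕ, Odd q ∧ 3 < q ∧ Nat.card L = q * ((q - 1) * (q + 1))) := by
  have heven : Even (Nat.card L) := Nat.not_odd_iff_even.1 fun ho =>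
    quasisimple_not_isSolvable hq (CfsgLib.PF.oddSolvable L ho)
  let e0 : L ⧸ Cfsg.oddCore L ≃* L := (QuotientGroup.quotientMulEquivOfEq hO).trans QuotientGroup.quotientBot
  rcases CfsgLib.GWCons.RankOneCover.main (fun X _ _ _ S n hn hS => Cfsg.Agent.S0483.result S n hn hS)
    hq.1 hr heven with ⟨F, i1, i2, hodd, h3, ⟨e⟩⟩ | ⟨hc, ⟨e⟩, -⟩
  · have h2 : (2 : F) ≠ 0 := by
      intro h
      haveI : CharP F 2 := CharTwo.of_one_ne_zero_of_two_eq_zero one_ne_zero h
      obtain ⟨n, -, hn⟩ := FiniteField.card F 2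
      rw [hn] at hodd
      exact (Nat.not_even_iff_odd.2 hodd) (Nat.even_pow.2 ⟨even_two, n.ne_zero⟩)
    refine ⟨?_, Or.inr ⟨_, hodd, h3, ?_⟩⟩
    · rw [Nat.card_congr (Subgroup.centerCongr (e0.symm.trans e)).toEquiv]
      exact CfsgLib.PSL2.card_center_sl h2
    · rw [Nat.card_congr (e0.symm.trans e).toEquiv, CfsgLib.Schur.natCard_slTwo]
  · refine ⟨(Nat.card_congr (Subgroup.centerCongr e0.symm).toEquiv).trans hc, Or.inl ?_⟩
    rw [← Nat.card_congr e0.toEquiv, Subgroup.card_eq_card_quotient_mul_card_subgroup (center (L ⧸ Cfsg.oddCore L)),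
      hc, Nat.card_congr e.toEquiv, nat_card_alternatingGroup]
    norm_num [Nat.factorial]

/-- A simple group with one Sylow 2-subgroup over each involution is of Bender type. -/
theorem bender_of_oneSylow {W : Type u} [Group W] [Finite W] [hs : IsSimpleGroup W]
    (hns : ¬ Group.IsSolvable W) (h : OneSylow W) : BenderQ.IsBenderType W := by
  haveI : Fact (Nat.Prime 2) := ⟨Nat.prime_two⟩
  have heven : 2 ∣ Nat.card W := by
    by_contra hd
    exact hns (CfsgLib.PF.oddSolvable W (Nat.not_even_iff_odd.1 fun e => hd e.two_dvd))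
  obtain ⟨P⟩ : Nonempty (Sylow 2 W) := inferInstance
  have hPne : (P : Subgroup W) ≠ ⊥ := P.ne_bot_of_dvd_card heven
  have hPtop : (P : Subgroup W) ≠ ⊤ := fun e => by
    haveI := (IsPGroup.of_equiv (e ▸ P.2 : IsPGroup 2 (⊤ : Subgroup W)) Subgroup.topEquiv).isNilpotent
    exact hns inferInstance
  obtain ⟨g, hg⟩ : ∃ g : W, g • P ≠ P := by
    by_contra hall
    push Not at hall
    have hnorm : (P : Subgroup W).Normal := normalizer_eq_top_iff.1 (eq_top_iff.2 fun g _ =>
      Sylow.smul_eq_iff_mem_normalizer.1 (hall g))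
    rcases hnorm.eq_bot_or_eq_top with h | h
    exacts [hPne h, hPtop h]
  have hti : CentralSylow.TI W := by
    intro S T hST
    by_contra hbot
    haveI : Nontrivial ↥((S : Subgroup W) ⊓ (T : Subgroup W)) := (nontrivial_iff_ne_bot _).2 hbot
    obtain ⟨k, hk⟩ := (S.2.to_le (inf_le_left : (S : Subgroup W) ⊓ T ≤ _)).exists_card_eq
    have h2 : 2 ∣ Nat.card ↥((S : Subgroup W) ⊓ (T : Subgroup W)) := by
      rcases k with _ | k
      · rw [pow_zero] at hk
        exact absurd hk (Finite.one_lt_card (α := ↥((S : Subgroup W) ⊓ (T : Subgroup W)))).ne'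
      · exact hk ▸ dvd_pow_self 2 (Nat.succ_ne_zero k)
    obtain ⟨⟨x, hx⟩, hx2⟩ := exists_prime_orderOf_dvd_card' 2 h2
    exact hST (h S T x ((Subgroup.orderOf_mk x hx).symm.trans hx2) hx.1 hx.2)
  have hgen : CentralSylow.Gen W := by
    have hne' : (⨆ R : Sylow 2 W, (R : Subgroup W)) ≠ ⊥ := fun e =>
      hPne (le_bot_iff.1 ((le_iSup (fun R : Sylow 2 W => (R : Subgroup W)) P).trans e.le))
    have hnm : (⨆ R : Sylow 2 W, (R : Subgroup W)).Normal := by
      refine normalizer_eq_top_iff.1 (eq_top_iff.2 fun g _ => mem_normalizer_iff.2 ?_)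
      have hcl : ∀ (g x : W), x ∈ (⨆ R : Sylow 2 W, (R : Subgroup W)) →
          g * x * g⁻¹ ∈ (⨆ R : Sylow 2 W, (R : Subgroup W)) := fun g x hx => by
        have h1 : (⨆ R : Sylow 2 W, (R : Subgroup W)).map (MulAut.conj g).toMonoidHom ≤
            ⨆ R : Sylow 2 W, (R : Subgroup W) := by
          rw [Subgroup.map_iSup]
          refine iSup_le fun U => le_trans (le_of_eq ?_)
            (le_iSup (fun R : Sylow 2 W => (R : Subgroup W)) (g • U))
          rw [Sylow.coe_subgroup_smul]; rfl
        exact h1 ⟨x, hx, rfl⟩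
      exact fun x => ⟨hcl g x, fun h => by simpa [mul_assoc] using hcl g⁻¹ _ h⟩
    exact hnm.eq_bot_or_eq_top.resolve_left hne'
  have hO2 : Cfsg.pCore 2 W = ⊥ :=
    (Cfsg.pCore_normal 2 W).eq_bot_or_eq_top.resolve_right fun e =>
      hPtop (top_le_iff.1 (e ▸ CfsgLib.PCore.pCore_le_sylow P))
  have hO : Cfsg.oddCore W = ⊥ := (Cfsg.pPrimeCore_normal 2 W).eq_bot_or_eq_top.resolve_right fun e => by
    have h1 : ¬ 2 ∣ Nat.card ↥(Cfsg.pPrimeCore 2 W) := CfsgLib.PCore.not_dvd_card_pPrimeCore
    rw [e, card_top] at h1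
    exact h1 heven
  exact (CentralSylow.simple_of_stronglyEmbedded BenderQ.rankOneClass hO hO2 hgen
    (CentralSylow.stronglyEmbedded_of_ti hti (S := P) (T := g • P) hg.symm)).2.1

variable {G : Type u} [Group G] [Finite G]

/-- A twisting element of a subgroup: it centralises the subgroup and squares to its involution. -/
structure Twist (L : Subgroup G) (z c : G) : Prop where
  z2 : orderOf z = 2
  zc : ∀ g : G, Commute g z
  zL : z ∈ L
  cC : c ∈ centralizer (L : Set G)
  cc : c * c = z
  cL : c ∉ L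

theorem Twist.orderOf_four {L : Subgroup G} {z c : G} (h : Twist L z c) : orderOf c = 4 :=
  orderOf_eq_prime_pow (n := 1) (p := 2) (by rw [pow_one, pow_two, h.cc]; exact ne_one_of_involution h.z2)
    (by rw [show (2 : ℕ) ^ (1 + 1) = 2 + 2 by norm_num, pow_add, pow_two, h.cc, mul_self_eq_one h.z2])

/-- The product of an element of order four of `L` with the twisting element is an involution other
than `z`. -/
theorem Twist.involution {L : Subgroup G} {z c i : G} (h : Twist L z c) (hi : i ∈ L) (hii : i * i = z) :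
    orderOf (i * c) = 2 ∧ i * c ≠ z ∧ Commute (i * c) z := by
  have hic : i * c = c * i := mem_centralizer_iff.1 h.cC i hi
  refine ⟨orderOf_eq_two_iff_mul.2 ⟨fun e => h.cL ?_, ?_⟩, fun e => h.cL ?_, h.zc _⟩
  · rw [eq_inv_of_mul_eq_one_right e]; exact inv_mem hi
  · calc i * c * (i * c) = i * (c * i) * c := by group
      _ = i * i * (c * c) := by rw [← hic]; group
      _ = 1 := by rw [hii, h.cc, mul_self_eq_one h.z2]
  · rw [show c = i⁻¹ * z by rw [← e]; group]; exact mul_mem (inv_mem hi) h.zL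

/-- An element of order four of `L` lies in one Sylow 2-subgroup of `L` only. -/
theorem Twist.eq_of_mem {L : Subgroup G} {z c : G} (h : Twist L z c) (hF : FourUnique G)
    {P P' : Sylow 2 L} {i : L} (hii : (i : G) * i = z) (hP : i ∈ (P : Subgroup L))
    (hP' : i ∈ (P' : Subgroup L)) : P = P' := by
  haveI : Fact (Nat.Prime 2) := ⟨Nat.prime_two⟩
  have key : ∀ R : Sylow 2 L, i ∈ (R : Subgroup L) → ∃ S : Sylow 2 G,
      (R : Subgroup L).map L.subtype ≤ (S : Subgroup G) ∧ (i : G) * c ∈ (S : Subgroup G) ∧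
        z ∈ (S : Subgroup G) := by
    intro R hR
    have hn : zpowers c ≤ normalizer (((R : Subgroup L).map L.subtype : Subgroup G) : Set G) :=
      zpowers_le.2 (centralizer_le_normalizer _ (centralizer_le
        (SetLike.coe_subset_coe.2 (map_subtype_le _)) h.cC))
    have hp : IsPGroup 2 (zpowers c ⊔ (R : Subgroup L).map L.subtype : Subgroup G) :=
      (IsPGroup.of_card (n := 2) (by rw [Nat.card_zpowers, h.orderOf_four]; norm_num) :
        IsPGroup 2 (zpowers c)).to_sup_of_normal_right' (R.2.map _) hn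
    obtain ⟨S, hS⟩ := hp.exists_le_sylow
    have h1 : (i : G) ∈ (S : Subgroup G) := hS (mem_sup_right ⟨i, hR, rfl⟩)
    exact ⟨S, le_sup_right.trans hS, mul_mem h1 (hS (mem_sup_left (mem_zpowers c))), hii ▸ mul_mem h1 h1⟩
  obtain ⟨S, hS, hS1, hS2⟩ := key P hP
  obtain ⟨T, hT, hT1, hT2⟩ := key P' hP'
  obtain ⟨h1, h2, h3⟩ := h.involution i.2 hii
  obtain rfl := hF S T _ _ h1 h.z2 h2 h3 hS1 hS2 hT1 hT2
  have hp : IsPGroup 2 ↥((S : Subgroup G).subgroupOf L) := S.2.comap_subtype
  exact Sylow.ext ((P.3 hp fun v hv => mem_subgroupOf.2 (hS ⟨v, hv, rfl⟩)).symm.trans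
    (P'.3 hp fun v hv => mem_subgroupOf.2 (hT ⟨v, hv, rfl⟩)))

theorem center_eq_pair {L : Subgroup G} {z : G} (hcard : Nat.card (center L) = 2) (hz : orderOf z = 2)
    (hzc : ∀ g : G, Commute g z) (hzL : z ∈ L) : ∀ x : L, x ∈ center L ↔ (x : G) = 1 ∨ (x : G) = z := by
  intro x
  have hzm : (⟨z, hzL⟩ : L) ∈ center L := mem_center_iff.2 fun g => Subtype.ext (hzc g).eq
  refine ⟨fun hx => ?_, ?_⟩
  · by_contra hne
    push Not at hne
    obtain ⟨a, b, hab, huniv⟩ := Nat.card_eq_two_iff.1 hcard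
    have hm : ∀ v : center L, v = a ∨ v = b := fun v => by
      have := Set.mem_univ v; rw [← huniv] at this; simpa using this
    rcases hm 1 with h1 | h1 <;> rcases hm ⟨_, hzm⟩ with h2 | h2 <;> rcases hm ⟨x, hx⟩ with h3 | h3 <;>
      first
      | exact hne.1 (congrArg (fun v : center L => ((v : L) : G)) (h3.trans h1.symm))
      | exact hne.2 (congrArg (fun v : center L => ((v : L) : G)) (h3.trans h2.symm))
      | exact ne_one_of_involution hz (congrArg (fun v : center L => ((v : L) : G)) (h2.trans h1.symm))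
  · rintro (h | h)
    · rw [show x = 1 from Subtype.ext h]; exact one_mem _
    · rw [show x = ⟨z, hzL⟩ from Subtype.ext h]; exact hzm

/-- The involution of a subgroup of 2-rank one. -/
theorem eq_of_rank_one {L : Subgroup G} (hr : Cfsg.PRankLE 2 1 L) {z : G} (hz : orderOf z = 2)
    (hzc : ∀ g : G, Commute g z) (hzL : z ∈ L) {x : G} (hx : x ∈ L) (hx2 : orderOf x = 2) : x = z :=
  congrArg Subtype.val (CfsgLib.GWCons.RankOneCover.eq_of_rankLE hr ⟨x, hx⟩ ⟨z, hzL⟩
    ((Subgroup.orderOf_mk x hx).trans hx2) ((Subgroup.orderOf_mk z hzL).trans hz) (Subtype.ext (hzc x).eq))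

/-- The central quotient is of Bender type. -/
theorem Twist.bender {L : Subgroup G} {z c : G} (h : Twist L z c) (hF : FourUnique G)
    (hq : Cfsg.IsQuasisimple L) (hO : Cfsg.oddCore L = ⊥) (hr : Cfsg.PRankLE 2 1 L) :
    BenderQ.IsBenderType (L ⧸ center L) := by
  haveI : Fact (Nat.Prime 2) := ⟨Nat.prime_two⟩
  obtain ⟨hcard, -⟩ := rankOne_facts hq hO hr
  have hpair := center_eq_pair hcard h.z2 h.zc h.zL
  haveI := hq.2
  have hZp : IsPGroup 2 (center L) := IsPGroup.of_card (n := 1) (by rw [hcard, pow_one])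
  haveI := hZp.isNilpotent
  have hns : ¬ Group.IsSolvable (L ⧸ center L) := fun hs => quasisimple_not_isSolvable hq (by
    haveI := hs
    exact solvable_of_ker_le_range (center L).subtype (QuotientGroup.mk' (center L))
      (by rw [QuotientGroup.ker_mk', Subgroup.range_subtype]))
  have hone : OneSylow (L ⧸ center L) := by
    intro U U' x hx hxU hxU'
    obtain ⟨P, rfl⟩ := Sylow.mapSurjective_surjective (QuotientGroup.mk'_surjective (center L)) 2 U
    obtain ⟨P', rfl⟩ := Sylow.mapSurjective_surjective (QuotientGroup.mk'_surjective (center L)) 2 U'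
    obtain ⟨v, hv, rfl⟩ := hxU
    obtain ⟨v', hv', hvv⟩ := hxU'
    have hvP' : v ∈ (P' : Subgroup L) := by
      have := mul_mem hv' ((CfsgLib.PCore.le_pCore inferInstance hZp).trans
        (CfsgLib.PCore.pCore_le_sylow P') (QuotientGroup.eq.1 hvv))
      rwa [mul_inv_cancel_left] at this
    have hvc : v ∉ center L := fun hvc => ne_one_of_involution hx ((QuotientGroup.eq_one_iff v).2 hvc)
    have hsq : v * v ∈ center L := (QuotientGroup.eq_one_iff _).1 (by
      show QuotientGroup.mk' (center L) (v * v) = 1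
      rw [map_mul]; exact mul_self_eq_one hx)
    have hvz : (v : G) * v = z := by
      refine ((hpair _).1 hsq).resolve_left fun h1 => hvc ((hpair v).2 ?_)
      rcases eq_or_ne (v : G) 1 with e | e
      · exact Or.inl e
      · exact Or.inr (eq_of_rank_one hr h.z2 h.zc h.zL v.2 (orderOf_eq_two_iff_mul.2 ⟨e, h1⟩))
    rw [h.eq_of_mem hF hvz hv hvP']
  exact bender_of_oneSylow hns hone

/-- A twisting element forces `SL(2,5)`. -/
theorem Twist.sl25 {L : Subgroup G} {z c : G} (h : Twist L z c) (hF : FourUnique G)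
    (hq : Cfsg.IsQuasisimple L) (hO : Cfsg.oddCore L = ⊥) (hr : Cfsg.PRankLE 2 1 L) :
    Nonempty (L ≃* Matrix.SpecialLinearGroup (Fin 2) (ZMod 5)) := by
  haveI : Fact (Nat.Prime 2) := ⟨Nat.prime_two⟩
  obtain ⟨hcard, hord⟩ := rankOne_facts hq hO hr
  have hpair := center_eq_pair hcard h.z2 h.zc h.zL
  haveI := hq.2
  have hB := h.bender hF hq hO hr
  have hne : center L ≠ ⊥ := fun e => by rw [e, card_bot] at hcard; omega
  rcases CentralSylow.bender_cases hB with h60 | ⟨n, hn, hM⟩ | ⟨F, i1, i2, hF8, ⟨e⟩⟩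
  · exact CentralSylow.sl25_of_cover hq.1 h60 hne
  · exfalso
    haveI := hB.isSimple
    haveI := hq.1
    have hW : commutator (L ⧸ center L) = ⊤ := by
      rw [← map_top_of_surjective (QuotientGroup.mk' (center L)) (QuotientGroup.mk'_surjective _),
        ← Group.IsPerfect.commutator_eq_top, _root_.commutator_def, _root_.commutator_def,
        map_commutator, map_top_of_surjective _ (QuotientGroup.mk'_surjective _)]
    have hzm : (⟨z, h.zL⟩ : L) ∈ center L := (hpair _).2 (Or.inr rfl)
    exact ne_one_of_involution h.z2 (congrArg Subtype.val (CentralSylow.eq_one_of_multiplier (x := (⟨z, h.zL⟩ : L)) le_rfl hW hn hM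
      (Group.IsPerfect.commutator_eq_top (G := L) ▸ mem_top (⟨z, h.zL⟩ : L)) hzm (k := 1)
      (Subtype.ext (by simp [pow_two, mul_self_eq_one h.z2]))))
  · exfalso
    have hsz := (RootSz.szType (F := F) (m := 1) (by rw [hF8]; rfl) le_rfl).card
    rw [show (2 : ℕ) ^ (1 + 1) = 4 by rfl] at hsz
    have hc : Nat.card L = 58240 := by
      rw [Subgroup.card_eq_card_quotient_mul_card_subgroup (center L), hcard, Nat.card_congr e.toEquiv, hsz, hF8]
      norm_num
    rcases hord with h' | ⟨q, -, -, h'⟩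
    · omega
    · have h3 : 3 ∣ q * ((q - 1) * (q + 1)) := by
        rcases (show q % 3 = 0 ∨ q % 3 = 1 ∨ q % 3 = 2 by omega) with h0 | h0 | h0
        · exact Dvd.dvd.mul_right (Nat.dvd_of_mod_eq_zero h0) _
        · exact Dvd.dvd.mul_left (Dvd.dvd.mul_right (Nat.dvd_of_mod_eq_zero (by omega)) _) _
        · exact Dvd.dvd.mul_left (Dvd.dvd.mul_left (Nat.dvd_of_mod_eq_zero (by omega)) _) _
      rw [← h', hc] at h3
      norm_num at h3

end CfsgLib.Inter10
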