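import Cfsg.Agent.Lib.Inter10.SplitMain
import Cfsg.Agent.Lib.Components.FStar

/-!
S3310: all components have 2-rank one: the central involution, and the cases of a twisting element.
-/

set_option autoImplicit false
set_option linter.style.haveILetI false
set_option linter.unusedSectionVars false

namespace CfsgLib.Inter10

open Subgroup Pointwise CfsgLib.Involutions CfsgLib.Components

universe u

variable {G : Type u} [Group G] [Finite G]

/-- The involution of `O₂(G)` is central and lies in every component of 2-rank one. -/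
theorem exists_central_z (hF : FourUnique G) (hO : Cfsg.oddCore G = ⊥) {S T : Sylow 2 G} (hne : S ≠ T)
    {L₀ : Subgroup G} (hL₀ : Cfsg.IsComponent L₀) (hr₀ : Cfsg.PRankLE 2 1 L₀) :
    ∃ z : G, orderOf z = 2 ∧ (∀ g : G, Commute g z) ∧ z ∈ Cfsg.pCore 2 G ∧
      (∀ x ∈ Cfsg.pCore 2 G, orderOf x = 2 → x = z) ∧
      ∀ L : Subgroup G, Cfsg.IsComponent L → Cfsg.PRankLE 2 1 L → z ∈ L := by
  haveI : Fact (Nat.Prime 2) := ⟨Nat.prime_two⟩
  haveI := Cfsg.pCore_normal 2 G
  have hle : Cfsg.pCore 2 G ≤ (S : Subgroup G) ⊓ (T : Subgroup G) :=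
    le_inf (CfsgLib.PCore.pCore_le_sylow S) (CfsgLib.PCore.pCore_le_sylow T)
  have hr := rankInter_of_fourUnique hF S T hne
  have huniq : ∀ x ∈ Cfsg.pCore 2 G, ∀ y ∈ Cfsg.pCore 2 G, orderOf x = 2 → orderOf y = 2 → x = y := by
    intro x hx y hy hx2 hy2
    have h1 := unique_involution_of_rank_one (CfsgLib.GWCons.RankOneCover.eq_of_rankLE hr)
      ((S.2.to_le inf_le_left : IsPGroup 2 ↥((S : Subgroup G) ⊓ (T : Subgroup G))).of_equiv
        Subgroup.topEquiv.symm)
    exact congrArg (fun v : (⊤ : Subgroup ↥((S : Subgroup G) ⊓ (T : Subgroup G))) => ((v : ↥((S : Subgroup G) ⊓ (T : Subgroup G))) : G))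
      (h1 ⟨⟨x, hle hx⟩, mem_top _⟩ ⟨⟨y, hle hy⟩, mem_top _⟩
        (by rw [Subgroup.orderOf_mk, Subgroup.orderOf_mk, hx2]) (by rw [Subgroup.orderOf_mk, Subgroup.orderOf_mk, hy2]))
  have hinv : ∀ L : Subgroup G, Cfsg.IsComponent L → Cfsg.PRankLE 2 1 L →
      ∃ z ∈ L, z ∈ Cfsg.pCore 2 G ∧ orderOf z = 2 := by
    intro L hL hrL
    have hc := (rankOne_facts hL.2 (oddCore_component hO hL) hrL).1
    obtain ⟨⟨z, hzc⟩, hz⟩ := exists_prime_orderOf_dvd_card' (G := center L) 2 (by rw [hc])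
    refine ⟨z, z.2, ?_, by rw [Subgroup.orderOf_coe]; exact (Subgroup.orderOf_mk z hzc).symm.trans hz⟩
    exact CfsgLib.PCore.le_pCore_of_isSubnormal (K := (center L).map L.subtype)
      ((inferInstance : (center L).Normal).isSubnormal.trans' hL.1)
      ((IsPGroup.of_card (n := 1) (by rw [hc, pow_one]) : IsPGroup 2 (center L)).map _) ⟨z, hzc, rfl⟩
  obtain ⟨z, -, hzO, hz⟩ := hinv L₀ hL₀ hr₀
  refine ⟨z, hz, fun g => ?_, hzO, fun x hx hx2 => huniq x hx z hzO hx2 hz, fun L hL hrL => ?_⟩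
  · exact mul_inv_eq_iff_eq_mul.1 (huniq _ (Subgroup.Normal.conj_mem inferInstance z hzO g) z hzO
      ((orderOf_conj_eq g z).trans hz) hz)
  · obtain ⟨w, hwL, hwO, hw⟩ := hinv L hL hrL
    rwa [← huniq w hwO z hzO hw hz]

/-- A component is centralised by no involution but the central one. -/
theorem eq_of_centralizes_component (hF : FourUnique G) {L : Subgroup G} (hL : Cfsg.IsComponent L) {z : G}
    (hz : orderOf z = 2) (hzc : ∀ g : G, Commute g z) {u : G} (hu : orderOf u = 2)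
    (huC : u ∈ centralizer (L : Set G)) : u = z := by
  by_contra hne
  haveI : Fact (Nat.Prime 2) := ⟨Nat.prime_two⟩
  obtain ⟨S, huS, hzS⟩ := exists_sylow_pair hu hz (hzc u)
  have heven : 2 ∣ Nat.card L := by
    by_contra hd
    exact component_not_isSolvable hL (CfsgLib.PF.oddSolvable L (Nat.not_even_iff_odd.1 fun e => hd e.two_dvd))
  have hle : L ≤ (S : Subgroup G) := by
    rw [← pElemClosure_component hL.2 heven]
    refine (closure_le _).2 ?_
    rintro x ⟨hx, n, hn⟩
    exact hF.mem_sylow hu hz hne (hzc u) huS hzS ⟨n, orderOf_dvd_of_pow_eq_one hn⟩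
      (mem_centralizer_iff.1 huC x hx) (hzc x)
  haveI := (S.2.to_le hle).isNilpotent
  exact component_not_isSolvable hL inferInstance

/-- A 2-element outside `{1, z}` of a set with the only involution `z` has a power squaring to `z`. -/
theorem exists_sq_eq {H : Subgroup G} {z x : G} (hz : orderOf z = 2)
    (huniq : ∀ u ∈ H, orderOf u = 2 → u = z) (hx : x ∈ H) (h2 : ∃ a, orderOf x ∣ 2 ^ a)
    (hne : x ≠ 1) (hnz : x ≠ z) : ∃ j : ℕ, x ^ j * x ^ j = z ∧ x ^ j ≠ 1 ∧ x ^ j ≠ z := by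
  obtain ⟨a, ha⟩ := h2
  obtain ⟨b, -, hb⟩ := (Nat.dvd_prime_pow Nat.prime_two).1 ha
  rcases b with _ | _ | b
  · exact absurd (orderOf_eq_one_iff.1 (by rw [hb, pow_zero])) hne
  · exact absurd (huniq x hx (by rw [hb, zero_add, pow_one])) hnz
  refine ⟨2 ^ b, ?_, fun h => ?_, fun h => ?_⟩
  · refine huniq _ (mul_mem (pow_mem hx _) (pow_mem hx _)) ?_
    rw [← pow_add, ← two_mul, ← pow_succ', orderOf_pow' _ (pow_ne_zero _ two_ne_zero), hb,
      Nat.gcd_eq_right (pow_dvd_pow 2 (by omega)), Nat.pow_div (by omega) two_pos,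
      show b + 1 + 1 - (b + 1) = 1 by omega, pow_one]
  · have := orderOf_dvd_of_pow_eq_one h
    rw [hb, Nat.pow_dvd_pow_iff_le_right (by norm_num)] at this
    omega
  · have h1 := congrArg (fun y => y * y) h
    simp only [mul_self_eq_one hz, ← pow_add, ← two_mul, ← pow_succ'] at h1
    have := orderOf_dvd_of_pow_eq_one h1
    rw [hb, Nat.pow_dvd_pow_iff_le_right (by norm_num)] at this
    omega

theorem Twist.of_centralizer {L : Subgroup G} {z c : G} (hz : orderOf z = 2) (hzc : ∀ g : G, Commute g z)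
    (hzL : z ∈ L) (hcard : Nat.card (center L) = 2) (hc : c ∈ centralizer (L : Set G)) (hcc : c * c = z)
    (h1 : c ≠ 1) (h2 : c ≠ z) : Twist L z c := by
  refine ⟨hz, hzc, hzL, hc, hcc, fun hcL => ?_⟩
  exact ((center_eq_pair hcard hz hzc hzL ⟨c, hcL⟩).1 (mem_center_iff.2 fun g =>
    Subtype.ext (mem_centralizer_iff.1 hc g g.2))).elim h1 h2

/-- An element squaring to the involution in every Sylow 2-subgroup of a component of rank one. -/
theorem exists_sq_mem {L : Subgroup G} (hL : Cfsg.IsComponent L) (hO : Cfsg.oddCore G = ⊥)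
    (hr : Cfsg.PRankLE 2 1 L) {z : G} (hz : orderOf z = 2) (hzc : ∀ g : G, Commute g z) (hzL : z ∈ L)
    (P : Sylow 2 L) : ∃ i : L, i ∈ (P : Subgroup L) ∧ (i : G) * i = z ∧ (i : G) ≠ 1 ∧ (i : G) ≠ z := by
  haveI : Fact (Nat.Prime 2) := ⟨Nat.prime_two⟩
  obtain ⟨-, hord⟩ := rankOne_facts hL.2 (oddCore_component hO hL) hr
  have h4 : 2 ^ 2 ∣ Nat.card L := by
    rcases hord with h | ⟨q, hq, -, h⟩
    · rw [h]; norm_num
    · obtain ⟨w, rfl⟩ := hq
      rw [h, show 2 * w + 1 - 1 = 2 * w by omega]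
      exact ⟨(2 * w + 1) * (w * (w + 1)), by ring⟩
  have hP4 : 4 ≤ Nat.card (P : Subgroup L) := by
    rw [P.card_eq_multiplicity]
    exact Nat.pow_le_pow_right two_pos ((Nat.prime_two.pow_dvd_iff_le_factorization Nat.card_pos.ne').1 h4)
  set P' := (P : Subgroup L).map L.subtype with hP'
  obtain ⟨x, hxP, hx1, hxz⟩ : ∃ x ∈ P', x ≠ 1 ∧ x ≠ z := by
    by_contra hh
    push Not at hh
    have hle : P' ≤ zpowers z := fun x hx => by
      rcases eq_or_ne x 1 with e | e
      · rw [e]; exact one_mem _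
      · rw [hh x hx e]; exact mem_zpowers z
    have := card_le_of_le hle
    rw [Nat.card_zpowers, hz, hP', card_map_of_injective L.subtype_injective] at this
    omega
  obtain ⟨k, hk⟩ := IsPGroup.iff_orderOf.1 (P.2.map L.subtype) ⟨x, hxP⟩
  obtain ⟨j, hj, hj1, hjz⟩ := exists_sq_eq hz (fun u hu hu2 => eq_of_rank_one hr hz hzc hzL
    (map_subtype_le _ hu) hu2) hxP ⟨k, by rw [← hk, Subgroup.orderOf_mk]⟩ hx1 hxz
  obtain ⟨i, hi, he⟩ := pow_mem hxP j
  exact ⟨i, hi, by rw [show (i : G) = x ^ j from he]; exact hj, fun e => hj1 (he.symm.trans e), fun e => hjz (he.symm.trans e)⟩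

theorem quat_pair {P : Subgroup G} {z : G} {n : ℕ} (e : P ≃* QuaternionGroup (2 ^ (n + 1)))
    (huniq : ∀ u ∈ P, orderOf u = 2 → u = z) :
    ∃ c ∈ P, ∃ c' ∈ P, c * c = z ∧ c' * c' = z ∧ c' * c = z * (c * c') := by
  set M := 2 ^ n with hM
  have hN : 2 ^ (n + 1) = 2 * M := by rw [hM, pow_succ']
  have hMpos : 0 < M := by rw [hM]; positivity
  let a0 : QuaternionGroup (2 ^ (n + 1)) := QuaternionGroup.a (M : ZMod (2 * 2 ^ (n + 1)))
  let b0 : QuaternionGroup (2 ^ (n + 1)) := QuaternionGroup.xa 0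
  let z0 : QuaternionGroup (2 ^ (n + 1)) := QuaternionGroup.a ((2 ^ (n + 1) : ℕ) : ZMod (2 * 2 ^ (n + 1)))
  have hcast : (M : ZMod (2 * 2 ^ (n + 1))) + M = ((2 ^ (n + 1) : ℕ) : ZMod (2 * 2 ^ (n + 1))) := by
    rw [← Nat.cast_add]; exact congrArg _ (by omega)
  have hz2 : ((2 ^ (n + 1) : ℕ) : ZMod (2 * 2 ^ (n + 1))) + ((2 ^ (n + 1) : ℕ) : ZMod (2 * 2 ^ (n + 1))) = 0 := by
    rw [← Nat.cast_add, ← two_mul, ZMod.natCast_self]
  have hzne : z0 ≠ 1 := by
    intro h
    rw [QuaternionGroup.one_def] at h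
    injection h with h
    rw [ZMod.natCast_eq_zero_iff] at h
    have := Nat.le_of_dvd (by positivity) h
    omega
  have hzz : (e.symm z0 : G) = z := by
    refine huniq _ (e.symm z0).2 ?_
    rw [Subgroup.orderOf_coe, e.symm.orderOf_eq]
    refine orderOf_eq_two_iff_mul.2 ⟨hzne, ?_⟩
    rw [QuaternionGroup.a_mul_a, hz2, ← QuaternionGroup.one_def]
  have haa : a0 * a0 = z0 := by rw [QuaternionGroup.a_mul_a, hcast]
  have hbb : b0 * b0 = z0 := by rw [QuaternionGroup.xa_mul_xa, add_zero, sub_zero]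
  have hba : b0 * a0 = z0 * (a0 * b0) := by
    rw [QuaternionGroup.xa_mul_a, QuaternionGroup.a_mul_xa, QuaternionGroup.a_mul_xa, zero_add, zero_sub]
    congr 1
    linear_combination hcast + hz2
  refine ⟨_, (e.symm a0).2, _, (e.symm b0).2, ?_, ?_, ?_⟩
  · rw [← Subgroup.coe_mul, ← map_mul, haa, hzz]
  · rw [← Subgroup.coe_mul, ← map_mul, hbb, hzz]
  · rw [← Subgroup.coe_mul, ← map_mul, hba, map_mul, map_mul, Subgroup.coe_mul, Subgroup.coe_mul, hzz]

/-- A single component with a twisting element in `O₂`: conclusion (a). -/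
theorem twist_case (hF : FourUnique G) (hO : Cfsg.oddCore G = ⊥)
    (hD : ∃ S T : Sylow 2 G, S ≠ T ∧ ¬ IsCyclic ↥((S : Subgroup G) ⊓ (T : Subgroup G)))
    {L : Subgroup G} (hL : Cfsg.IsComponent L) [hLn : L.Normal] (hr : Cfsg.PRankLE 2 1 L) {z c : G}
    (ht : Twist L z c) (hcO : c ∈ Cfsg.pCore 2 G) (hlayer : Cfsg.layer G = L)
    (hzu : ∀ x ∈ Cfsg.pCore 2 G, orderOf x = 2 → x = z) : TargetA G := by
  haveI : Fact (Nat.Prime 2) := ⟨Nat.prime_two⟩
  set O2 := Cfsg.pCore 2 G with hO2def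
  haveI hO2n : O2.Normal := by rw [hO2def]; exact Cfsg.pCore_normal 2 G
  have hO2p : IsPGroup 2 O2 := CfsgLib.PCore.pCore_isPGroup
  have hO2C : O2 ≤ centralizer (L : Set G) := by
    haveI := hO2p.isNilpotent
    have h1 := component_commutator_solvable hL (inferInstance : Group.IsSolvable O2) le_normalizer_of_normal
    rw [commutator_comm] at h1
    exact le_centralizer_of_commutator_eq_bot h1
  have hOL : Cfsg.oddCore L = ⊥ := oddCore_component hO hL
  have hsplit := ht.sylow_split hF hL.2 hOL hr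
  have hi : ∀ S : Sylow 2 G, ∃ i ∈ (S : Subgroup G) ⊓ L, i * i = z ∧ z ∈ (S : Subgroup G) := by
    intro S
    obtain ⟨P, hP⟩ := exists_sylow_inf S L
    obtain ⟨i, hi, hii, -, -⟩ := exists_sq_mem hL hO hr ht.z2 ht.zc ht.zL P
    rw [hP] at hi
    exact ⟨i, mem_inf.2 ⟨mem_subgroupOf.1 hi, i.2⟩, hii, hii ▸ mul_mem hi hi⟩
  have hmem : ∀ (S : Sylow 2 G) (x : G), x ∈ centralizer (L : Set G) → (∃ a, orderOf x ∣ 2 ^ a) →
      x ∈ (S : Subgroup G) := by
    intro S x hx h2
    obtain ⟨i, hiS, hii, hzS⟩ := hi S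
    obtain ⟨a, ha⟩ := h2
    obtain ⟨b, -, hb⟩ := (Nat.dvd_prime_pow Nat.prime_two).1 ha
    have hn : zpowers x ≤ normalizer (((S : Subgroup G) ⊓ L : Subgroup G) : Set G) :=
      zpowers_le.2 (centralizer_le_normalizer _ (centralizer_le (SetLike.coe_subset_coe.2 inf_le_right) hx))
    have hp : IsPGroup 2 (zpowers x ⊔ ((S : Subgroup G) ⊓ L) : Subgroup G) :=
      (IsPGroup.of_card (n := b) (by rw [Nat.card_zpowers, hb]) : IsPGroup 2 (zpowers x)).to_sup_of_normal_right'
        (S.2.to_le inf_le_left) hn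
    obtain ⟨T, hT⟩ := hp.exists_le_sylow
    obtain ⟨h1, h2, h3⟩ := ht.involution hiS.2 hii
    have hiT : i ∈ (T : Subgroup G) := hT (mem_sup_right hiS)
    obtain rfl := hF S T (i * c) z h1 ht.z2 h2 h3 (mul_mem hiS.1 (CfsgLib.PCore.pCore_le_sylow S hcO)) hzS
      (mul_mem hiT (CfsgLib.PCore.pCore_le_sylow T hcO)) (hii ▸ mul_mem hiT hiT)
    exact hT (mem_sup_left (mem_zpowers x))
  have hCS : ∀ S : Sylow 2 G, (S : Subgroup G) ⊓ centralizer (L : Set G) ≤ O2 := by
    intro S x hx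
    have hn : ((S : Subgroup G) ⊓ centralizer (L : Set G)).Normal := ⟨fun y hy g => by
      have h1 := (inferInstance : (centralizer (L : Set G)).Normal).conj_mem y hy.2 g
      refine ⟨hmem S _ h1 ?_, h1⟩
      rw [orderOf_conj_eq]
      exact two_power_of_mem S hy.1⟩
    exact CfsgLib.PCore.le_pCore hn (S.2.to_le inf_le_left) hx
  have hSle : ∀ S : Sylow 2 G, (S : Subgroup G) ≤ L ⊔ O2 := fun S => (hsplit S).symm.le.trans
    (sup_le (inf_le_right.trans le_sup_left) ((hCS S).trans le_sup_right))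
  have hodd : Odd (L ⊔ O2).index := by
    obtain ⟨S⟩ : Nonempty (Sylow 2 G) := inferInstance
    exact Nat.not_even_iff_odd.1 fun e => S.not_dvd_index (e.two_dvd.trans (index_dvd_of_le (hSle S)))
  have hLZ : L ⊓ centralizer (L : Set G) ≤ O2 := by
    have := center_layer_le_pCore (p := 2) (G := G) hO
    rwa [hlayer] at this
  have hmeq : O2.subgroupOf L = center L := by
    refine le_antisymm (fun x hx => mem_center_iff.2 fun g => Subtype.ext
      (mem_centralizer_iff.1 (hO2C (mem_subgroupOf.1 hx)) g g.2)) fun x hx => mem_subgroupOf.2 ?_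
    exact hLZ ⟨x.2, mem_centralizer_iff.2 fun g hg => congrArg Subtype.val (mem_center_iff.1 hx ⟨g, hg⟩)⟩
  obtain ⟨S, T, hST, hnc⟩ := hD
  set D := (S : Subgroup G) ⊓ (T : Subgroup G) with hDdef
  have hO2D : O2 ≤ D := le_inf (CfsgLib.PCore.pCore_le_sylow S) (CfsgLib.PCore.pCore_le_sylow T)
  have hDO : D ≤ O2 := by
    intro x hx
    obtain ⟨l, hl, o, ho, rfl⟩ := mem_sup_of_normal_right.1 (hSle S hx.1)
    have hlS : l ∈ (S : Subgroup G) := by
      simpa using mul_mem (show l * o ∈ (S : Subgroup G) from hx.1) (inv_mem (show o ∈ (S : Subgroup G) from (hO2D ho).1))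
    have hlT : l ∈ (T : Subgroup G) := by
      simpa using mul_mem (show l * o ∈ (T : Subgroup G) from hx.2) (inv_mem (show o ∈ (T : Subgroup G) from (hO2D ho).2))
    refine mul_mem ?_ ho
    rcases eq_or_ne l 1 with e | e1
    · rw [e]; exact one_mem _
    have hzO : z ∈ O2 := ht.cc ▸ mul_mem hcO hcO
    rcases eq_or_ne l z with e | e2
    · rw [e]; exact hzO
    exfalso
    obtain ⟨j, hj, -, -⟩ := exists_sq_eq ht.z2 (fun u hu hu2 => eq_of_rank_one hr ht.z2 ht.zc ht.zL hu hu2)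
      hl (two_power_of_mem S hlS) e1 e2
    obtain ⟨h1, h2, h3⟩ := ht.involution (pow_mem hl j) hj
    exact hST (hF S T (l ^ j * c) z h1 ht.z2 h2 h3 (mul_mem (pow_mem hlS j) (hO2D hcO).1) (hO2D hzO).1
      (mul_mem (pow_mem hlT j) (hO2D hcO).2) (hO2D hzO).2)
  have hO2eq : O2 = D := le_antisymm hO2D hDO
  obtain ⟨n, ⟨eq2⟩⟩ : ∃ n : ℕ, Nonempty (↥O2 ≃* QuaternionGroup (2 ^ (n + 1))) := by
    rcases cyclic_or_quaternion (S.2.to_le (inf_le_left : D ≤ S)) (rankInter_of_fourUnique hF S T hST)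
      with h | ⟨n, ⟨e⟩⟩
    · exact absurd h hnc
    · exact ⟨n, ⟨(MulEquiv.subgroupCongr hO2eq).trans e⟩⟩
  haveI hsubn : (O2.subgroupOf (L ⊔ O2)).Normal := inferInstance
  refine ⟨⟨L ⊔ O2, inferInstance, hsubn, hodd, le_sup_right, ⟨n, ⟨eq2⟩⟩, ?_⟩, ?_⟩
  · exact Three.of_equiv ((QuotientGroup.quotientInfEquivProdNormalQuotient L O2).symm.trans
      (QuotientGroup.quotientMulEquivOfEq hmeq)) (three_of_bender (ht.bender hF hL.2 hOL hr))
  -- an elementary subgroup of order eight
  obtain ⟨e⟩ := ht.sl25 hF hL.2 hOL hr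
  obtain ⟨P, hP⟩ := exists_sylow_inf S L
  obtain ⟨-, z0, i, j, t, d, hPc, hu0⟩ := exists_quatData e P
  have hz0 : (z0 : G) = z := congrArg Subtype.val
    (hu0 ⟨z, ht.zL⟩ ((Subgroup.orderOf_mk z ht.zL).trans ht.z2)).symm
  obtain ⟨a, ha, b, hb, haa, hbb, hba⟩ := quat_pair eq2 hzu
  have hiS : (i : G) ∈ (S : Subgroup G) := mem_subgroupOf.1 (hP ▸ hPc ▸ subset_closure (Or.inl rfl))
  have hjS : (j : G) ∈ (S : Subgroup G) := mem_subgroupOf.1 (hP ▸ hPc ▸ subset_closure (Or.inr rfl))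
  have hii : (i : G) * i = z := by rw [← Subgroup.coe_mul, d.ii, hz0]
  have hjj : (j : G) * j = z := by rw [← Subgroup.coe_mul, d.jj, hz0]
  have hji : (j : G) * i = z * (i * j) := by
    rw [← Subgroup.coe_mul, d.ji, Subgroup.coe_mul, Subgroup.coe_mul, hz0]
  have hcomm : ∀ o ∈ O2, ∀ l ∈ L, l * o = o * l := fun o ho l hl => mem_centralizer_iff.1 (hO2C ho) l hl
  have hzne := ne_one_of_involution ht.z2
  have hu : ∀ (l : L) (o : G), o ∈ O2 → (l : G) * l = z → o * o = z → (l : G) * o * (l * o) = 1 := by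
    intro l o ho hl hoo
    rw [show (l : G) * o * (l * o) = l * (o * l) * o by group, ← hcomm o ho l l.2,
      show (l : G) * (l * o) * o = l * l * (o * o) by group, hl, hoo, mul_self_eq_one ht.z2]
  have hne_one : ∀ o ∈ O2, o * o = z → o ≠ 1 ∧ o ∉ L := fun o ho hoo =>
    ⟨fun e => hzne (by rw [← hoo, e, one_mul]), fun hoL => hzne (by
      rw [← hoo]
      rcases ((center_eq_pair (rankOne_facts hL.2 hOL hr).1 ht.z2 ht.zc ht.zL ⟨o, hoL⟩).1
        (hmeq ▸ mem_subgroupOf.2 ho)) with h | h <;> rw [show o = _ from h]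
      exacts [one_mul 1, mul_self_eq_one ht.z2])⟩
  set u := (i : G) * a with hudef
  set v := (j : G) * b with hvdef
  have hu1 : u ≠ 1 := fun e => (hne_one a ha haa).2 (eq_inv_of_mul_eq_one_right e ▸ inv_mem i.2)
  have huz : u ≠ z := fun e => (hne_one a ha haa).2 (by
    rw [show a = (i : G)⁻¹ * z by rw [← e, hudef]; group]; exact mul_mem (inv_mem i.2) ht.zL)
  have hv1 : v ≠ 1 := fun e => (hne_one b hb hbb).2 (eq_inv_of_mul_eq_one_right e ▸ inv_mem j.2)
  have hvz : v ≠ z := fun e => (hne_one b hb hbb).2 (by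
    rw [show b = (j : G)⁻¹ * z by rw [← e, hvdef]; group]; exact mul_mem (inv_mem j.2) ht.zL)
  have hord : ∀ {w : G}, w ≠ 1 → w * w = 1 → orderOf w = 2 := fun h1 h2 => orderOf_eq_two_iff_mul.2 ⟨h1, h2⟩
  have huo := hord hu1 (hu i a ha hii haa)
  have hvo := hord hv1 (hu j b hb hjj hbb)
  have huv : Commute u v := by
    show (i : G) * a * ((j : G) * b) = (j : G) * b * ((i : G) * a)
    rw [show (i : G) * a * ((j : G) * b) = i * (a * j) * b by group, ← hcomm a ha j j.2,
      show (j : G) * b * ((i : G) * a) = j * (b * i) * a by group, ← hcomm b hb i i.2,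
      show (i : G) * (j * a) * b = i * j * (a * b) by group, show (j : G) * (i * b) * a = j * i * (b * a) by group,
      hji, hba, show z * ((i : G) * j) * (z * (a * b)) = z * ((i : G) * j * z) * (a * b) by group,
      (ht.zc ((i : G) * j)).eq, ← mul_assoc z z, mul_self_eq_one ht.z2, one_mul]
  have hgen : ∀ x ∈ ({z, u, v} : Set G), ∀ y ∈ ({z, u, v} : Set G), x * y = y * x := by
    rintro x (rfl | rfl | rfl) y (rfl | rfl | rfl)
    exacts [rfl, (ht.zc u).eq.symm, (ht.zc v).eq.symm, (ht.zc u).eq, rfl, huv.eq, (ht.zc v).eq, huv.eq.symm, rfl]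
  haveI := isMulCommutative_closure hgen
  have hsq : ∀ x ∈ closure ({z, u, v} : Set G), x * x = 1 := by
    intro x hx
    induction hx using closure_induction with
    | mem y hy =>
      rcases hy with e | e | e <;> rw [e]
      exacts [mul_self_eq_one ht.z2, mul_self_eq_one huo, mul_self_eq_one hvo]
    | one => exact one_mul 1
    | mul p q hp hq ihp ihq =>
      rw [show p * q * (p * q) = p * (q * p) * q by group, setLike_mul_comm hq hp,
        show p * (p * q) * q = p * p * (q * q) by group, ihp, ihq, one_mul]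
    | inv p _ ihp => rw [← mul_inv_rev, ihp, inv_one]
  refine ⟨S, z, closure ({z, u, v} : Set G), (closure_le _).2 ?_, subset_closure (Or.inl rfl), inferInstance,
    hsq, ?_⟩
  · rintro x (rfl | rfl | rfl)
    exacts [hO2D (ht.cc ▸ mul_mem hcO hcO) |>.1, mul_mem hiS (hO2D ha).1, mul_mem hjS (hO2D hb).1]
  · have hK : closure ({z, u} : Set G) ≤ closure ({z, u, v} : Set G) :=
      closure_mono (Set.insert_subset_insert (Set.singleton_subset_iff.2 (Or.inl rfl)))
    have h4 := SylInter.card_closure_pair_four ht.z2 huo huz.symm (ht.zc u).symm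
    have hlt : Nat.card (closure ({z, u} : Set G)) ≠ Nat.card (closure ({z, u, v} : Set G)) := by
      intro he
      have hvK : v ∈ closure ({z, u} : Set G) :=
        (eq_of_le_of_card_ge hK he.ge).ge (subset_closure (Or.inr (Or.inr rfl)))
      -- then `v` differs from `u` by an element of `L`
      have hk : ∀ x ∈ closure ({z, u} : Set G), ∃ l ∈ L, x = l ∨ x = l * a := by
        intro x hx
        have step : ∀ y, (∃ l ∈ L, y = l ∨ y = l * a) → ∀ g, (g = z ∨ g = u) →
            ∃ l ∈ L, y * g = l ∨ y * g = l * a := by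
          rintro y ⟨l, hl, hy⟩ g hg
          rcases hg with e | e <;> rw [e] <;> rcases hy with e' | e' <;> rw [e']
          · exact ⟨l * z, mul_mem hl ht.zL, Or.inl rfl⟩
          · exact ⟨z * l, mul_mem ht.zL hl, Or.inr (by rw [(ht.zc (l * a)).eq, mul_assoc])⟩
          · exact ⟨l * i, mul_mem hl i.2, Or.inr (mul_assoc _ _ _).symm⟩
          · refine ⟨l * i * z, mul_mem (mul_mem hl i.2) ht.zL, Or.inl ?_⟩
            rw [hudef, show l * a * ((i : G) * a) = l * (a * i) * a by group, ← hcomm a ha i i.2,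
              show l * ((i : G) * a) * a = l * i * (a * a) by group, haa]
        induction hx using closure_induction_right with
        | one => exact ⟨1, one_mem _, Or.inl rfl⟩
        | mul_right y _ g hg ih => exact step y ih g hg
        | mul_inv_cancel y _ g hg ih =>
          have hg2 : g⁻¹ = g := by
            rcases hg with e | e <;> rw [e]
            exacts [inv_eq_self_of_involution ht.z2, inv_eq_self_of_involution huo]
          rw [hg2]
          exact step y ih g hg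
      obtain ⟨l, hl, h | h⟩ := hk v hvK
      · exact (hne_one b hb hbb).2 (by
          rw [show b = (j : G)⁻¹ * l by rw [← h, hvdef]; group]; exact mul_mem (inv_mem j.2) hl)
      · -- the centre of `O₂` would contain `b a⁻¹`
        have hba' : b * a⁻¹ ∈ L := by
          rw [show b * a⁻¹ = (j : G)⁻¹ * l by
            rw [show b = (j : G)⁻¹ * (l * a) by rw [← h, hvdef]; group]; group]
          exact mul_mem (inv_mem j.2) hl
        have hc1 : Commute (b * a⁻¹) a := by
          rcases ((center_eq_pair (rankOne_facts hL.2 hOL hr).1 ht.z2 ht.zc ht.zL ⟨_, hba'⟩).1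
            (hmeq ▸ mem_subgroupOf.2 (mul_mem hb (inv_mem ha)))) with h' | h' <;>
            rw [show b * a⁻¹ = _ from h']
          exacts [Commute.one_left a, (ht.zc a).symm]
        have hab : b * a = a * b := by
          have := hc1.mul_left (Commute.refl a)
          rwa [inv_mul_cancel_right] at this
        rw [hab] at hba
        exact hzne (mul_right_cancel (b := a * b) (by rw [one_mul, ← hba]))
    obtain ⟨m, hm⟩ := card_dvd_of_le hK
    rcases m with _ | _ | m
    · rw [mul_zero] at hm; exact absurd hm Nat.card_pos.ne'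
    · rw [zero_add, mul_one] at hm; exact absurd hm.symm hlt
    · rw [hm, h4, Nat.mul_add, Nat.mul_add]; omega

end CfsgLib.Inter10
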