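import Cfsg.Agent.Lib.Inter10.Basic
import Cfsg.Agent.Lib.Inter10.Targets
import Cfsg.Agent.Lib.Inter10.BenderTI
import Cfsg.Agent.Lib.Components.ComponentAction
import Cfsg.Agent.Lib.Components.PComponent
import Cfsg.Agent.Lib.CentralSylow.Simple
import Cfsg.Agent.Lib.CentralSylow.Covers
import Cfsg.Agent.Lib.CentralSylow.Ends
import Cfsg.Agent.Lib.InvChar.SLTwo
import Cfsg.Agent.Lib.PSL2.Basic
import Cfsg.Agent.Lib.BenderQ.RankOne

/-!
S3310: a component of 2-rank at least two.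
-/

set_option autoImplicit false
set_option linter.style.haveILetI false
set_option linter.unusedSectionVars false

namespace CfsgLib.Inter10

open Subgroup Pointwise CfsgLib.Involutions CfsgLib.Components
open scoped commutatorElement

universe u

variable {G : Type u} [Group G] [Finite G]

theorem rankInter_of_fourUnique (h : FourUnique G) :
    ∀ S T : Sylow 2 G, S ≠ T → Cfsg.PRankLE 2 1 ↥((S : Subgroup G) ⊓ (T : Subgroup G)) := by
  intro S T hne
  by_contra hr
  obtain ⟨s, hs, t, ht, hs2, ht2, hst, hc⟩ := exists_pair_of_not_rank hr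
  exact hne (h S T s t hs2 ht2 hst hc hs.1 ht.1 hs.2 ht.2)

theorem oddCore_component (hO : Cfsg.oddCore G = ⊥) {L : Subgroup G} (hL : Cfsg.IsComponent L) :
    Cfsg.oddCore L = ⊥ :=
  (map_eq_bot_iff_of_injective _ L.subtype_injective).1
    (le_bot_iff.1 ((CfsgLib.PCore.map_pPrimeCore_subtype_of_isSubnormal hL.1).trans (le_of_eq hO)))

/-- The centre of a core-free quasisimple group contains an involution, unless it is trivial. -/
theorem exists_central_involution {L : Type u} [Group L] [Finite L] (hO : Cfsg.oddCore L = ⊥)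
    (hc : center L ≠ ⊥) : ∃ z : L, orderOf z = 2 ∧ z ∈ center L := by
  haveI : Fact (Nat.Prime 2) := ⟨Nat.prime_two⟩
  by_cases hd : 2 ∣ Nat.card (center L)
  · obtain ⟨⟨z, hzc⟩, hz⟩ := exists_prime_orderOf_dvd_card' 2 hd
    exact ⟨z, (Subgroup.orderOf_mk z hzc).symm.trans hz, hzc⟩
  · exact absurd (le_bot_iff.1 ((CfsgLib.PCore.le_pPrimeCore_of_not_dvd inferInstance hd).trans
      (le_of_eq hO))) hc

theorem kind_of_component (hS : SimpleGoal.{u}) (hC : CoreGoal.{u}) {L : Type u} [Group L] [Finite L]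
    (hF : FourUnique L) (hO : Cfsg.oddCore L = ⊥) (hq : Cfsg.IsQuasisimple L)
    (hr : ¬ Cfsg.PRankLE 2 1 L) : Kind L := by
  by_cases hc : center L = ⊥
  · haveI := hq.2
    haveI : IsSimpleGroup L :=
      ((QuotientGroup.quotientMulEquivOfEq hc).trans QuotientGroup.quotientBot).symm.isSimpleGroup
    exact Or.inl ⟨hc, hS L (quasisimple_not_isMulCommutative hq) (rankInter_of_fourUnique hF)⟩
  · obtain ⟨z, hz, hzc⟩ := exists_central_involution hO hc
    exact Or.inr ⟨z, hz, hzc, hC L hF hO hq z hz hzc hr⟩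

/-- A Sylow 2-subgroup meets a normal subgroup in a Sylow 2-subgroup of it. -/
theorem exists_sylow_inf (S : Sylow 2 G) (L : Subgroup G) [L.Normal] :
    ∃ P : Sylow 2 L, (P : Subgroup L) = (S : Subgroup G).subgroupOf L := by
  haveI : Fact (Nat.Prime 2) := ⟨Nat.prime_two⟩
  obtain ⟨P0⟩ : Nonempty (Sylow 2 L) := inferInstance
  obtain ⟨g, hg⟩ := exists_conj_le_sylow (P0.2.map L.subtype) S
  obtain ⟨P, hP⟩ := (S.2.comap_subtype (K := L)).exists_le_sylow
  refine ⟨P, (eq_of_le_of_card_ge hP ?_).symm⟩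
  rw [P.card_eq_multiplicity, ← P0.card_eq_multiplicity]
  refine Nat.card_le_card_of_injective
    (fun x => (⟨⟨g * ((x : L) : G) * g⁻¹, (inferInstance : L.Normal).conj_mem _ (x : L).2 g⟩,
      mem_subgroupOf.2 (hg _ ⟨x, x.2, rfl⟩)⟩ : (S : Subgroup G).subgroupOf L)) fun x y h => ?_
  have h1 : g * ((x : L) : G) * g⁻¹ = g * ((y : L) : G) * g⁻¹ :=
    congrArg (fun v : (S : Subgroup G).subgroupOf L => ((v : L) : G)) h
  exact Subtype.ext (Subtype.ext (mul_left_cancel (mul_right_cancel h1)))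

/-- Sylow subgroups with one Sylow over each involution modulo a central 2-subgroup. -/
theorem eq_of_quotient_involution {L : Type u} [Group L] [Finite L] (hW : OneSylow (L ⧸ center L))
    (hZ : IsPGroup 2 (center L)) {P P' : Sylow 2 L} {l : L} (hl : l ∈ (P : Subgroup L))
    (hl' : l ∈ (P' : Subgroup L)) (hlc : l ∉ center L) : P = P' := by
  haveI : Fact (Nat.Prime 2) := ⟨Nat.prime_two⟩
  set π := QuotientGroup.mk' (center L) with hπ
  let U := P.mapSurjective (QuotientGroup.mk'_surjective (center L))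
  let U' := P'.mapSurjective (QuotientGroup.mk'_surjective (center L))
  have hU : π l ∈ (U : Subgroup (L ⧸ center L)) := ⟨l, hl, rfl⟩
  have hU' : π l ∈ (U' : Subgroup (L ⧸ center L)) := ⟨l, hl', rfl⟩
  obtain ⟨k, hk⟩ := IsPGroup.iff_orderOf.1 U.2 ⟨π l, hU⟩
  rw [Subgroup.orderOf_mk] at hk
  obtain ⟨j, rfl⟩ := Nat.exists_eq_add_one_of_ne_zero (n := k) fun e => by
    rw [e, pow_zero, orderOf_eq_one_iff] at hk
    exact hlc ((QuotientGroup.eq_one_iff l).1 hk)
  have hinv : orderOf (π l ^ 2 ^ j) = 2 := by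
    rw [orderOf_pow' _ (pow_ne_zero _ two_ne_zero), hk, Nat.gcd_eq_right (pow_dvd_pow 2 (by omega)),
      Nat.pow_div (by omega) two_pos, show j + 1 - j = 1 by omega, pow_one]
  have he := congrArg (fun R : Sylow 2 (L ⧸ center L) => (R : Subgroup (L ⧸ center L)))
    (hW U U' _ hinv (pow_mem hU _) (pow_mem hU' _))
  have hle : ∀ R : Sylow 2 L, center L ≤ (R : Subgroup L) := fun R =>
    (CfsgLib.PCore.le_pCore inferInstance hZ).trans (CfsgLib.PCore.pCore_le_sylow R)
  refine Sylow.ext ((P.3 P'.2 fun x hx => ?_).symm)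
  obtain ⟨y, hy, hxy⟩ : π x ∈ (U' : Subgroup (L ⧸ center L)) := he.le ⟨x, hx, rfl⟩
  have := mul_mem hy (hle P' (QuotientGroup.eq.1 hxy))
  rwa [mul_inv_cancel_left] at this

theorem oneSylow_szIso {W : Type u} [Group W] [Finite W] {F : Type} [Field F] [Fintype F] {m : ℕ}
    (hm : 1 ≤ m) (hF : Fintype.card F = 2 ^ (2 * m + 1)) (e : W ≃* ↥(Cfsg.Lie.Sz F (2 ^ (m + 1)))) :
    OneSylow W :=
  oneSylow_of_szType (j := 2 * m + 1) (hF ▸ (RootSz.szType hF hm).of_equiv e)

theorem oneSylow_psuIso {W : Type u} [Group W] [Finite W] {F : Type} [Field F] [Fintype F] {n : ℕ}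
    (hn : 2 ≤ n) (hF : Fintype.card F = (2 ^ n) ^ 2) (e : W ≃* Cfsg.PSU 3 F (2 ^ n)) : OneSylow W := by
  intro S T x hx hxS hxT
  haveI : Fact (Nat.Prime 2) := ⟨Nat.prime_two⟩
  have h1 := oneSylow_psu hn hF (S.mapSurjective (f := e.toMonoidHom) e.surjective)
    (T.mapSurjective (f := e.toMonoidHom) e.surjective) (e x) ((e.orderOf_eq x).trans hx)
    ⟨x, hxS, rfl⟩ ⟨x, hxT, rfl⟩
  exact Sylow.ext (map_injective (f := e.toMonoidHom) e.injective
    (congrArg (fun P : Sylow 2 (Cfsg.PSU 3 F (2 ^ n)) => (P : Subgroup (Cfsg.PSU 3 F (2 ^ n)))) h1))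

theorem two_ne_zero_five : (2 : ZMod 5) ≠ 0 := by decide

/-- A double cover with an elementary subgroup of order eight is over `Sz(8)`. -/
theorem oneSylow_of_cover {L : Type u} [Group L] [Finite L] (hq : Cfsg.IsQuasisimple L) {z : L}
    (hz : orderOf z = 2) (hzc : z ∈ center L) (hB : BenderQ.IsBenderType (L ⧸ center L))
    (h8 : ∀ S : Sylow 2 L, HasEight (S : Subgroup L) z) : OneSylow (L ⧸ center L) := by
  haveI := hq.2
  rcases CentralSylow.bender_cases hB with h60 | ⟨n, hn, hM⟩ | ⟨F, i1, i2, hF, ⟨e⟩⟩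
  · exfalso
    haveI : Fact (Nat.Prime 5) := ⟨by norm_num⟩
    obtain ⟨e⟩ := CentralSylow.sl25_of_cover hq.1 h60 fun h => ne_one_of_involution hz
      (mem_bot.1 (h ▸ hzc))
    obtain ⟨S⟩ : Nonempty (Sylow 2 L) := inferInstance
    obtain ⟨E, -, -, hc, h2, h8'⟩ := h8 S
    obtain ⟨s, -, t, -, hs, ht, hne, -⟩ := exists_pair_of_card hc h2 (by omega)
    have key : ∀ x : L, orderOf x = 2 → e x = -1 := fun x hx =>
      InvChar.eq_neg_one_of_sq two_ne_zero_five ((EmbeddingLike.map_ne_one_iff (f := e)).2 (ne_one_of_involution hx))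
        (by rw [← map_mul, mul_self_eq_one hx, map_one])
    exact hne (e.injective ((key s hs).trans (key t ht).symm))
  · exfalso
    haveI := hB.isSimple
    haveI := hq.1
    have hW : commutator (L ⧸ center L) = ⊤ := by
      rw [← map_top_of_surjective (QuotientGroup.mk' (center L)) (QuotientGroup.mk'_surjective _),
        ← Group.IsPerfect.commutator_eq_top, _root_.commutator_def, _root_.commutator_def,
        map_commutator, map_top_of_surjective _ (QuotientGroup.mk'_surjective _)]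
    exact ne_one_of_involution hz (CentralSylow.eq_one_of_multiplier le_rfl hW hn hM
      (Group.IsPerfect.commutator_eq_top (G := L) ▸ mem_top z) hzc (k := 1)
      (by rw [pow_one, pow_two, mul_self_eq_one hz]))
  · exact oneSylow_szIso (m := 1) le_rfl (by rw [hF]; rfl) e

theorem listed_small {W : Type u} [Group W] [Finite W] {F : Type} [Field F] [Fintype F]
    (hq : Fintype.card F % 8 = 3 ∨ Fintype.card F % 8 = 5)
    (e : W ≃* Matrix.ProjectiveSpecialLinearGroup (Fin 2) F) (S : Sylow 2 W) :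
    Nat.card (S : Subgroup W) ∣ 8 := by
  haveI : Fact (Nat.Prime 2) := ⟨Nat.prime_two⟩
  obtain ⟨k, hk⟩ := IsPGroup.iff_card.1 S.2
  have h := CfsgLib.PSL2.card_psl (F := F)
  rw [← Nat.card_congr e.toEquiv] at h
  have hd : 2 ^ k ∣ (Fintype.card F + 1) * (Fintype.card F * (Fintype.card F - 1)) :=
    (hk ▸ Subgroup.card_subgroup_dvd_card (S : Subgroup W)).trans (Dvd.intro_left _ h)
  rw [hk]
  refine (show (8 : ℕ) = 2 ^ 3 by rfl) ▸ pow_dvd_pow 2 ?_
  by_contra hk4
  have h16 : 16 ∣ (Fintype.card F + 1) * (Fintype.card F * (Fintype.card F - 1)) :=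
    (show 2 ^ 4 ∣ 2 ^ k from pow_dvd_pow 2 (by omega)).trans hd
  obtain ⟨a, ha⟩ : ∃ a, Fintype.card F = 8 * a + 3 ∨ Fintype.card F = 8 * a + 5 :=
    ⟨Fintype.card F / 8, by omega⟩
  rcases ha with ha | ha <;> rw [ha] at h16
  · rw [show 8 * a + 3 - 1 = 8 * a + 2 by omega,
      show (8 * a + 3 + 1) * ((8 * a + 3) * (8 * a + 2)) = 8 * ((2 * a + 1) * ((8 * a + 3) * (4 * a + 1))) by ring,
      show (16 : ℕ) = 8 * 2 by rfl] at h16
    exact (Odd.not_two_dvd_nat (Odd.mul ⟨a, by ring⟩ (Odd.mul ⟨4 * a + 1, by ring⟩ ⟨2 * a, by ring⟩)))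
      (Nat.dvd_of_mul_dvd_mul_left (by norm_num : 0 < 8) h16)
  · rw [show 8 * a + 5 - 1 = 8 * a + 4 by omega,
      show (8 * a + 5 + 1) * ((8 * a + 5) * (8 * a + 4)) = 8 * ((4 * a + 3) * ((8 * a + 5) * (2 * a + 1))) by ring,
      show (16 : ℕ) = 8 * 2 by rfl] at h16
    exact (Odd.not_two_dvd_nat (Odd.mul ⟨2 * a + 1, by ring⟩ (Odd.mul ⟨4 * a + 2, by ring⟩ ⟨a, by ring⟩)))
      (Nat.dvd_of_mul_dvd_mul_left (by norm_num : 0 < 8) h16)

/-- A rank one intersection of exponent two or of order at most four is cyclic. -/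
theorem cyclic_of_small {D : Subgroup G} (hD : IsPGroup 2 D) (hr : Cfsg.PRankLE 2 1 D)
    (h : (∀ d ∈ D, d * d = 1) ∨ Nat.card D ≤ 4) : IsCyclic D := by
  rcases cyclic_or_quaternion hD hr with hc | ⟨n, ⟨e⟩⟩
  · exact hc
  exfalso
  rcases h with h | h
  · have h1 := congrArg e (Subtype.ext (h _ (e.symm (QuaternionGroup.xa 0)).2) :
      e.symm (QuaternionGroup.xa 0) * e.symm (QuaternionGroup.xa 0) = 1)
    rw [map_mul, MulEquiv.apply_symm_apply, map_one, QuaternionGroup.xa_mul_xa, add_sub_cancel_right,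
      QuaternionGroup.one_def] at h1
    injection h1 with h1
    rw [ZMod.natCast_eq_zero_iff] at h1
    have := Nat.le_of_dvd (by positivity) h1
    have := Nat.one_le_two_pow (n := n + 1)
    omega
  · rw [Nat.card_congr e.toEquiv, Nat.card_eq_fintype_card, QuaternionGroup.card] at h
    have : 2 ^ 1 ≤ 2 ^ (n + 1) := Nat.pow_le_pow_right (by norm_num) (by omega)
    omega

/-- In a simple group of the list, a noncyclic intersection of two Sylow 2-subgroups forces one of the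
groups in which an involution lies in one Sylow 2-subgroup. -/
theorem cyclic_or_oneSylow {W : Type u} [Group W] [Finite W] (hW : Listed W) (hF : FourUnique W) :
    OneSylow W ∨ ∀ S T : Sylow 2 W, S ≠ T → IsCyclic ↥((S : Subgroup W) ⊓ (T : Subgroup W)) := by
  haveI : Fact (Nat.Prime 2) := ⟨Nat.prime_two⟩
  have small : (∀ S : Sylow 2 W, Nat.card (S : Subgroup W) ∣ 8) →
      ∀ S T : Sylow 2 W, S ≠ T → IsCyclic ↥((S : Subgroup W) ⊓ (T : Subgroup W)) := by
    intro h S T hne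
    refine cyclic_of_small (S.2.to_le inf_le_left) (rankInter_of_fourUnique hF S T hne) (Or.inr ?_)
    have h1 := card_dvd_of_le (inf_le_left : (S : Subgroup W) ⊓ (T : Subgroup W) ≤ S)
    have h2 : Nat.card ↥((S : Subgroup W) ⊓ (T : Subgroup W)) ≠ Nat.card (S : Subgroup W) := fun e =>
      hne (Sylow.ext ((S.3 T.2 (le_trans (eq_of_le_of_card_ge inf_le_left e.ge).ge inf_le_right)).symm))
    have h3 := Nat.le_of_dvd (by norm_num) (h S)
    obtain ⟨c, hc⟩ := h1
    rcases c with _ | _ | c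
    · rw [mul_zero] at hc; exact absurd hc Nat.card_pos.ne'
    · rw [zero_add, mul_one] at hc; exact absurd hc.symm h2
    · rw [hc, Nat.mul_add, Nat.mul_add] at h3; omega
  rcases hW with ⟨n, F, i1, i2, hn, hFc, ⟨e⟩⟩ | ⟨m, F, i1, i2, hm, hFc, ⟨e⟩⟩ |
    ⟨n, F, i1, i2, hn, hFc, ⟨e⟩⟩ | ⟨F, i1, i2, hq, -, ⟨e⟩⟩ | hJ
  · refine Or.inr fun S T hne => cyclic_of_small (S.2.to_le inf_le_left) (rankInter_of_fourUnique hF S T hne)
      (Or.inl fun d hd => ?_)
    obtain ⟨k, hk⟩ := S.2 ⟨d, hd.1⟩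
    exact RootSz.psl_sq e hFc (by omega) (congrArg Subtype.val hk)
  · exact Or.inl (oneSylow_szIso hm hFc e)
  · exact Or.inl (oneSylow_psuIso hn (by rw [hFc, ← pow_mul, mul_comm, pow_mul]; rfl) e)
  · exact Or.inr (small fun S => listed_small hq e S)
  · refine Or.inr (small fun S => ?_)
    obtain ⟨k, hk⟩ := IsPGroup.iff_card.1 S.2
    have hd := hk ▸ Subgroup.card_subgroup_dvd_card (S : Subgroup W)
    rw [hJ.2] at hd
    rw [hk]
    by_contra h
    have h4 : 4 ≤ k := by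
      by_contra h4
      exact h ((show (8 : ℕ) = 2 ^ 3 by rfl) ▸ pow_dvd_pow 2 (by omega : k ≤ 3))
    exact absurd ((pow_dvd_pow 2 h4).trans hd) (by norm_num)

end CfsgLib.Inter10
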