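import Cfsg.Agent.Lib.Inter10.RankTwo
import Cfsg.Agent.Lib.SylInter.Local

/-!
S3310: with a component of 2-rank at least two, conclusion (a).
-/

set_option autoImplicit false
set_option linter.style.haveILetI false
set_option linter.unusedSectionVars false

namespace CfsgLib.Inter10

open Subgroup Pointwise CfsgLib.Involutions CfsgLib.Components
open scoped commutatorElement

universe u

variable {G : Type u} [Group G] [Finite G]

theorem exists_sylow_pair {s t : G} (hs : orderOf s = 2) (ht : orderOf t = 2) (hc : Commute s t) :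
    ∃ S : Sylow 2 G, s ∈ (S : Subgroup G) ∧ t ∈ (S : Subgroup G) := by
  haveI : IsMulCommutative (closure ({s, t} : Set G)) := isMulCommutative_closure fun a ha b hb => by
    rcases ha with rfl | rfl <;> rcases hb with rfl | rfl
    exacts [rfl, hc.eq, hc.eq.symm, rfl]
  have hp : IsPGroup 2 (closure ({s, t} : Set G)) := by
    rintro ⟨x, hx⟩
    refine ⟨1, Subtype.ext ?_⟩
    show x ^ 2 ^ 1 = 1
    rw [pow_one, pow_two]
    induction hx using closure_induction with
    | mem y hy => rcases hy with rfl | rfl <;> exact mul_self_eq_one ‹_›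
    | one => exact one_mul 1
    | mul a b ha hb iha ihb =>
      rw [show a * b * (a * b) = a * (b * a) * b by group, setLike_mul_comm hb ha,
        show a * (a * b) * b = a * a * (b * b) by group, iha, ihb, one_mul]
    | inv a _ iha => rw [← mul_inv_rev, iha, inv_one]
  obtain ⟨S, hS⟩ := hp.exists_le_sylow
  exact ⟨S, hS (subset_closure (Or.inl rfl)), hS (subset_closure (Or.inr rfl))⟩

/-- The 2-elements centralising a four-group lie in its Sylow 2-subgroup. -/
theorem FourUnique.mem_sylow (h : FourUnique G) {S : Sylow 2 G} {s t x : G} (hs : orderOf s = 2)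
    (ht : orderOf t = 2) (hne : s ≠ t) (hc : Commute s t) (hsS : s ∈ (S : Subgroup G))
    (htS : t ∈ (S : Subgroup G)) (hx : ∃ a, orderOf x ∣ 2 ^ a) (hxs : Commute x s) (hxt : Commute x t) :
    x ∈ (S : Subgroup G) :=
  SylInter.mem_sylow_of_normalizer S hx (h.mem_normalizer hs ht hne hc hsS htS hxs hxt)

theorem two_power_of_mem (S : Sylow 2 G) {x : G} (hx : x ∈ (S : Subgroup G)) : ∃ a, orderOf x ∣ 2 ^ a := by
  haveI : Fact (Nat.Prime 2) := ⟨Nat.prime_two⟩
  obtain ⟨k, hk⟩ := IsPGroup.iff_orderOf.1 S.2 ⟨x, hx⟩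
  exact ⟨k, by rw [← hk, Subgroup.orderOf_mk]⟩

/-- A component of 2-rank at least two is the only component, and the 2-elements centralising it lie
in `O₂(G)`. -/
theorem component_rankTwo (hF : FourUnique G) {L : Subgroup G} (hL : Cfsg.IsComponent L) {s t : G}
    (hsL : s ∈ L) (htL : t ∈ L) (hs : orderOf s = 2) (ht : orderOf t = 2) (hne : s ≠ t) (hc : Commute s t) :
    (∀ L' : Subgroup G, Cfsg.IsComponent L' → L' = L) ∧ L.Normal ∧
      ∀ S : Sylow 2 G, (S : Subgroup G) ⊓ centralizer (L : Set G) ≤ Cfsg.pCore 2 G := by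
  haveI : Fact (Nat.Prime 2) := ⟨Nat.prime_two⟩
  obtain ⟨S₀, hs₀, ht₀⟩ := exists_sylow_pair hs ht hc
  have hmem : ∀ x ∈ centralizer (L : Set G), (∃ a, orderOf x ∣ 2 ^ a) → x ∈ (S₀ : Subgroup G) :=
    fun x hx h2 => hF.mem_sylow hs ht hne hc hs₀ ht₀ h2 (mem_centralizer_iff.1 hx s hsL).symm
      (mem_centralizer_iff.1 hx t htL).symm
  have huniq : ∀ L' : Subgroup G, Cfsg.IsComponent L' → L' = L := by
    intro L' hL'
    by_contra hne'
    have hC : L' ≤ centralizer (L : Set G) :=
      le_centralizer_of_commutator_eq_bot (commutator_components_eq_bot hL' hL hne')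
    by_cases hd : 2 ∣ Nat.card L'
    · have hle : L' ≤ (S₀ : Subgroup G) := by
        rw [← pElemClosure_component hL'.2 hd]
        refine (closure_le _).2 ?_
        rintro x ⟨hx, n, hn⟩
        exact hmem x (hC hx) ⟨n, orderOf_dvd_of_pow_eq_one hn⟩
      haveI := (S₀.2.to_le hle).isNilpotent
      exact component_not_isSolvable hL' inferInstance
    · exact component_not_isSolvable hL' (CfsgLib.PF.oddSolvable L'
        (Nat.not_even_iff_odd.1 fun e => hd e.two_dvd))
  have hn : L.Normal := ⟨fun x hx g => by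
    have := huniq _ (isComponent_conj g hL)
    rw [← this]
    exact ⟨x, hx, rfl⟩⟩
  refine ⟨huniq, hn, fun S => ?_⟩
  haveI := hn
  have hPn : ((S₀ : Subgroup G) ⊓ centralizer (L : Set G)).Normal := ⟨fun x hx g => by
    have h1 := (inferInstance : (centralizer (L : Set G)).Normal).conj_mem x hx.2 g
    refine ⟨hmem _ h1 ?_, h1⟩
    rw [orderOf_conj_eq]
    exact two_power_of_mem S₀ hx.1⟩
  intro x hx
  exact CfsgLib.PCore.le_pCore hPn (S₀.2.to_le inf_le_left) ⟨hmem x hx.2 (two_power_of_mem S hx.1), hx.2⟩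

theorem rankTwo_case (hS85 : SimpleGoal.{u}) (hC : CoreGoal.{u}) (hOut : OuterGoal.{u})
    {Y : Type u} [Group Y] [Finite Y] (hF : FourUnique Y) (hO : Cfsg.oddCore Y = ⊥)
    (hD : ∃ S T : Sylow 2 Y, S ≠ T ∧ ¬ IsCyclic ↥((S : Subgroup Y) ⊓ (T : Subgroup Y)))
    {L : Subgroup Y} (hL : Cfsg.IsComponent L) (hr : ¬ Cfsg.PRankLE 2 1 L) : TargetA Y := by
  haveI : Fact (Nat.Prime 2) := ⟨Nat.prime_two⟩
  obtain ⟨s, hsL, t, htL, hs, ht, hne, hc⟩ := exists_pair_of_not_rank hr
  obtain ⟨huniq, hn, hCS⟩ := component_rankTwo hF hL hsL htL hs ht hne hc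
  haveI := hn
  set O2 := Cfsg.pCore 2 Y with hO2def
  haveI hO2n : O2.Normal := by rw [hO2def]; exact Cfsg.pCore_normal 2 Y
  have hO2p : IsPGroup 2 O2 := CfsgLib.PCore.pCore_isPGroup
  have hO2C : O2 ≤ centralizer (L : Set Y) := by
    haveI := hO2p.isNilpotent
    have h1 := component_commutator_solvable hL (inferInstance : Group.IsSolvable O2) le_normalizer_of_normal
    rw [commutator_comm] at h1
    exact le_centralizer_of_commutator_eq_bot h1
  have hOL : Cfsg.oddCore L = ⊥ := oddCore_component hO hL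
  have hkind : Kind L := kind_of_component hS85 hC (hF.subgroup L) hOL hL.2 hr
  have hout := hOut Y hF hO L hn hL.2 hkind hr
  have hlayer : Cfsg.layer Y = L :=
    le_antisymm (sSup_le fun K hK => (huniq K hK).le) (component_le_layer hL)
  have hLZ : L ⊓ centralizer (L : Set Y) ≤ O2 := by
    have := center_layer_le_pCore (p := 2) (G := Y) hO
    rwa [hlayer] at this
  have hmeq : O2.subgroupOf L = center L := by
    refine le_antisymm (fun x hx => mem_center_iff.2 fun g => Subtype.ext
      (mem_centralizer_iff.1 (hO2C (mem_subgroupOf.1 hx)) g g.2)) fun x hx => mem_subgroupOf.2 ?_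
    exact hLZ ⟨x.2, mem_centralizer_iff.2 fun g hg => congrArg Subtype.val (mem_center_iff.1 hx ⟨g, hg⟩)⟩
  have hZp : IsPGroup 2 (center L) := hmeq ▸ hO2p.comap_subtype
  have hSle : ∀ S : Sylow 2 Y, (S : Subgroup Y) ≤ L ⊔ O2 := fun S => (hout S).symm.le.trans
    (sup_le (inf_le_right.trans le_sup_left) ((hCS S).trans le_sup_right))
  have hodd : Odd (L ⊔ O2).index := by
    obtain ⟨S⟩ : Nonempty (Sylow 2 Y) := inferInstance
    exact Nat.not_even_iff_odd.1 fun e => S.not_dvd_index (e.two_dvd.trans (index_dvd_of_le (hSle S)))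
  have hpair : ∀ S : Sylow 2 Y, ∃ a ∈ (S : Subgroup Y) ⊓ L, ∃ b ∈ (S : Subgroup Y) ⊓ L,
      orderOf a = 2 ∧ orderOf b = 2 ∧ a ≠ b ∧ Commute a b := by
    intro S
    obtain ⟨S₀, hs₀, ht₀⟩ := exists_sylow_pair hs ht hc
    obtain ⟨g, rfl⟩ := MulAction.exists_smul_eq Y S₀ S
    exact ⟨g * s * g⁻¹, ⟨CentralSylow.conj_mem_smul hs₀, hn.conj_mem s hsL g⟩, g * t * g⁻¹,
      ⟨CentralSylow.conj_mem_smul ht₀, hn.conj_mem t htL g⟩, (orderOf_conj_eq g s).trans hs,
      (orderOf_conj_eq g t).trans ht, fun e => hne (mul_left_cancel (mul_right_cancel e)),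
      hc.map (MulAut.conj g).toMonoidHom⟩
  -- distinct Sylow subgroups meet `L` in distinct Sylow subgroups
  have hinf : ∀ (S T : Sylow 2 Y) (P : Sylow 2 L), S ≠ T → (P : Subgroup L) = (S : Subgroup Y).subgroupOf L →
      (P : Subgroup L) = (T : Subgroup Y).subgroupOf L → False := by
    intro S T P hST hPS hPT
    obtain ⟨a, ha, b, hb, ha2, hb2, hab, habc⟩ := hpair S
    have key : ∀ x ∈ (S : Subgroup Y) ⊓ L, x ∈ (T : Subgroup Y) := fun x hx => by
      have h1 : (⟨x, hx.2⟩ : L) ∈ (P : Subgroup L) := hPS ▸ mem_subgroupOf.2 hx.1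
      rw [hPT] at h1
      exact mem_subgroupOf.1 h1
    exact hST (hF S T a b ha2 hb2 hab habc ha.1 hb.1 (key a ha) (key b hb))
  obtain ⟨S, T, hST, hnc⟩ := hD
  set D := (S : Subgroup Y) ⊓ (T : Subgroup Y) with hDdef
  have hO2D : O2 ≤ D := le_inf (CfsgLib.PCore.pCore_le_sylow S) (CfsgLib.PCore.pCore_le_sylow T)
  have hDsplit : ∀ x ∈ D, ∃ l ∈ L, ∃ o ∈ O2, x = l * o ∧ l ∈ (S : Subgroup Y) ∧ l ∈ (T : Subgroup Y) := by
    intro x hx
    obtain ⟨l, hl, o, ho, rfl⟩ := mem_sup_of_normal_right.1 (hSle S hx.1)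
    refine ⟨l, hl, o, ho, rfl, ?_, ?_⟩
    · simpa using mul_mem (show l * o ∈ (S : Subgroup Y) from hx.1) (inv_mem (show o ∈ (S : Subgroup Y) from (hO2D ho).1))
    · simpa using mul_mem (show l * o ∈ (T : Subgroup Y) from hx.2) (inv_mem (show o ∈ (T : Subgroup Y) from (hO2D ho).2))
  -- the quotient is a group of Bender type with one Sylow subgroup over each involution
  have hW : BenderQ.IsBenderType (L ⧸ center L) ∧ OneSylow (L ⧸ center L) ∧
      ∃ S₁ : Sylow 2 Y, ∃ z : Y, HasEight (S₁ : Subgroup Y) z := by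
    rcases hkind with ⟨hc1, hlist⟩ | ⟨z, hz, hzc, hB, h8⟩
    · let e0 : L ⧸ center L ≃* L := (QuotientGroup.quotientMulEquivOfEq hc1).trans QuotientGroup.quotientBot
      haveI := hL.2.2
      haveI : IsSimpleGroup L := e0.symm.isSimpleGroup
      have hO2ne : O2 ≠ ⊥ := by
        intro hb
        have hSL : ∀ x ∈ D, x ∈ L := fun x hx => by
          obtain ⟨l, hl, o, ho, rfl, -, -⟩ := hDsplit x hx
          rw [hb, mem_bot] at ho
          rwa [ho, mul_one]
        obtain ⟨P, hP⟩ := exists_sylow_inf S L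
        obtain ⟨P', hP'⟩ := exists_sylow_inf T L
        have hPP : P ≠ P' := fun e => hinf S T P hST hP (e ▸ hP')
        have hDeq : D.subgroupOf L = (P : Subgroup L) ⊓ (P' : Subgroup L) := by
          rw [hP, hP', hDdef]; rfl
        have hcy : IsCyclic ↥((P : Subgroup L) ⊓ (P' : Subgroup L)) := by
          rcases cyclic_or_oneSylow hlist (hF.subgroup L) with h | h
          · have : (P : Subgroup L) ⊓ (P' : Subgroup L) = ⊥ := by
              by_contra hbot
              haveI : Nontrivial ↥((P : Subgroup L) ⊓ (P' : Subgroup L)) :=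
                (nontrivial_iff_ne_bot _).2 hbot
              obtain ⟨k, hk⟩ := (P.2.to_le (inf_le_left : (P : Subgroup L) ⊓ P' ≤ _)).exists_card_eq
              have h2 : 2 ∣ Nat.card ↥((P : Subgroup L) ⊓ (P' : Subgroup L)) := by
                rcases k with _ | k
                · rw [pow_zero] at hk
                  exact absurd hk (Finite.one_lt_card (α := ↥((P : Subgroup L) ⊓ (P' : Subgroup L)))).ne'
                · exact hk ▸ dvd_pow_self 2 (Nat.succ_ne_zero k)
              obtain ⟨⟨x, hx⟩, hx2⟩ := exists_prime_orderOf_dvd_card' 2 h2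
              exact hPP (h P P' x ((Subgroup.orderOf_mk x hx).symm.trans hx2) hx.1 hx.2)
            rw [this]
            infer_instance
          · exact h P P' hPP
        rw [← hDeq] at hcy
        exact hnc (isCyclic_of_surjective (subgroupOfEquivOfLe hSL).toMonoidHom
          (subgroupOfEquivOfLe hSL).surjective)
      obtain ⟨z, hz2, hzO⟩ : ∃ z : Y, orderOf z = 2 ∧ z ∈ O2 := by
        haveI : Nontrivial O2 := (nontrivial_iff_ne_bot _).2 hO2ne
        obtain ⟨k, hk⟩ := hO2p.exists_card_eq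
        have h2 : 2 ∣ Nat.card O2 := by
          rcases k with _ | k
          · rw [pow_zero] at hk
            exact absurd hk (Finite.one_lt_card (α := O2)).ne'
          · exact hk ▸ dvd_pow_self 2 (Nat.succ_ne_zero k)
        obtain ⟨⟨z, hz⟩, hz2⟩ := exists_prime_orderOf_dvd_card' 2 h2
        exact ⟨z, (Subgroup.orderOf_mk z hz).symm.trans hz2, hz⟩
      have hzL : z ∉ L := fun hzL => ne_one_of_involution hz2 (by
        have h1 : (⟨z, hzL⟩ : L) ∈ center L := hmeq ▸ mem_subgroupOf.2 hzO
        rw [hc1, mem_bot] at h1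
        exact congrArg Subtype.val h1)
      have h1s : OneSylow L := by
        intro P P' x hx hxP hxP'
        obtain ⟨S₁, hS₁⟩ := (P.2.map L.subtype).exists_le_sylow
        obtain ⟨T₁, hT₁⟩ := (P'.2.map L.subtype).exists_le_sylow
        have hx2 : orderOf (x : Y) = 2 := by rwa [Subgroup.orderOf_coe]
        have heq := hF S₁ T₁ (x : Y) z hx2 hz2 (fun e => hzL (e ▸ x.2))
          (mem_centralizer_iff.1 (hO2C hzO) x x.2)
          (hS₁ ⟨x, hxP, rfl⟩) (CfsgLib.PCore.pCore_le_sylow S₁ hzO) (hT₁ ⟨x, hxP', rfl⟩)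
          (CfsgLib.PCore.pCore_le_sylow T₁ hzO)
        subst heq
        have hp : IsPGroup 2 ↥((S₁ : Subgroup Y).subgroupOf L) := S₁.2.comap_subtype
        exact Sylow.ext ((P.3 hp fun v hv => mem_subgroupOf.2 (hS₁ ⟨v, hv, rfl⟩)).symm.trans
          (P'.3 hp fun v hv => mem_subgroupOf.2 (hT₁ ⟨v, hv, rfl⟩)))
      refine ⟨?_, h1s.of_equiv e0, ?_⟩
      · have hti : CentralSylow.TI L := by
          intro P P' hPP
          by_contra hbot
          haveI : Nontrivial ↥((P : Subgroup L) ⊓ (P' : Subgroup L)) := (nontrivial_iff_ne_bot _).2 hbot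
          obtain ⟨k, hk⟩ := (P.2.to_le (inf_le_left : (P : Subgroup L) ⊓ P' ≤ _)).exists_card_eq
          have h2 : 2 ∣ Nat.card ↥((P : Subgroup L) ⊓ (P' : Subgroup L)) := by
            rcases k with _ | k
            · rw [pow_zero] at hk
              exact absurd hk (Finite.one_lt_card (α := ↥((P : Subgroup L) ⊓ (P' : Subgroup L)))).ne'
            · exact hk ▸ dvd_pow_self 2 (Nat.succ_ne_zero k)
          obtain ⟨⟨x, hx⟩, hx2⟩ := exists_prime_orderOf_dvd_card' 2 h2
          exact hPP (h1s P P' x ((Subgroup.orderOf_mk x hx).symm.trans hx2) hx.1 hx.2)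
        obtain ⟨P⟩ : Nonempty (Sylow 2 L) := inferInstance
        have hPne : (P : Subgroup L) ≠ ⊥ := P.ne_bot_of_dvd_card (by
          have h := orderOf_dvd_natCard (G := L) ⟨s, hsL⟩
          rwa [Subgroup.orderOf_mk, hs] at h)
        have hPtop : (P : Subgroup L) ≠ ⊤ := fun e => by
          haveI := (IsPGroup.of_equiv (e ▸ P.2 : IsPGroup 2 (⊤ : Subgroup L)) Subgroup.topEquiv).isNilpotent
          exact component_not_isSolvable hL inferInstance
        obtain ⟨g, hg⟩ : ∃ g : L, g • P ≠ P := by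
          by_contra hall
          push Not at hall
          have hnorm : (P : Subgroup L).Normal := normalizer_eq_top_iff.1 (eq_top_iff.2 fun g _ =>
            Sylow.smul_eq_iff_mem_normalizer.1 (hall g))
          rcases hnorm.eq_bot_or_eq_top with h | h
          exacts [hPne h, hPtop h]
        have hgen : CentralSylow.Gen L := by
          have hne' : (⨆ R : Sylow 2 L, (R : Subgroup L)) ≠ ⊥ := fun e =>
            hPne (le_bot_iff.1 ((le_iSup (fun R : Sylow 2 L => (R : Subgroup L)) P).trans e.le))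
          have hnm : (⨆ R : Sylow 2 L, (R : Subgroup L)).Normal := by
            refine normalizer_eq_top_iff.1 (eq_top_iff.2 fun g _ => mem_normalizer_iff.2 ?_)
            have hcl : ∀ (g x : L), x ∈ (⨆ R : Sylow 2 L, (R : Subgroup L)) →
                g * x * g⁻¹ ∈ (⨆ R : Sylow 2 L, (R : Subgroup L)) := fun g x hx => by
              have h1 : (⨆ R : Sylow 2 L, (R : Subgroup L)).map (MulAut.conj g).toMonoidHom ≤
                  ⨆ R : Sylow 2 L, (R : Subgroup L) := by
                rw [Subgroup.map_iSup]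
                refine iSup_le fun U => le_trans (le_of_eq ?_)
                  (le_iSup (fun R : Sylow 2 L => (R : Subgroup L)) (g • U))
                rw [Sylow.coe_subgroup_smul]; rfl
              exact h1 ⟨x, hx, rfl⟩
            exact fun x => ⟨hcl g x, fun h => by simpa [mul_assoc] using hcl g⁻¹ _ h⟩
          exact hnm.eq_bot_or_eq_top.resolve_left hne'
        have hO2L : Cfsg.pCore 2 L = ⊥ :=
          (Cfsg.pCore_normal 2 L).eq_bot_or_eq_top.resolve_right fun e =>
            hPtop (top_le_iff.1 (e ▸ CfsgLib.PCore.pCore_le_sylow P))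
        exact BenderQ.IsBenderType.of_equiv e0 (CentralSylow.simple_of_stronglyEmbedded
          BenderQ.rankOneClass hOL hO2L hgen
          (CentralSylow.stronglyEmbedded_of_ti hti (S := P) (T := g • P) hg.symm)).2.1
      · obtain ⟨S₁, hs₁, ht₁⟩ := exists_sylow_pair hs ht hc
        have hz1 := CfsgLib.PCore.pCore_le_sylow S₁ hzO
        have hgen : ∀ x ∈ ({z, s, t} : Set Y), ∀ y ∈ ({z, s, t} : Set Y), x * y = y * x := by
          have h1 := mem_centralizer_iff.1 (hO2C hzO) s hsL
          have h2 := mem_centralizer_iff.1 (hO2C hzO) t htL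
          rintro x (rfl | rfl | rfl) y (rfl | rfl | rfl)
          exacts [rfl, h1.symm, h2.symm, h1, rfl, hc.eq, h2, hc.eq.symm, rfl]
        haveI := isMulCommutative_closure hgen
        have hsq : ∀ e ∈ closure ({z, s, t} : Set Y), e * e = 1 := by
          intro x hx
          induction hx using closure_induction with
          | mem y hy => rcases hy with rfl | rfl | rfl <;> exact mul_self_eq_one ‹_›
          | one => exact one_mul 1
          | mul a b ha hb iha ihb =>
            rw [show a * b * (a * b) = a * (b * a) * b by group, setLike_mul_comm hb ha,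
              show a * (a * b) * b = a * a * (b * b) by group, iha, ihb, one_mul]
          | inv a _ iha => rw [← mul_inv_rev, iha, inv_one]
        refine ⟨S₁, z, closure ({z, s, t} : Set Y), (closure_le _).2 ?_, subset_closure (Or.inl rfl),
          inferInstance, hsq, ?_⟩
        · rintro x (rfl | rfl | rfl)
          exacts [hz1, hs₁, ht₁]
        · have hK : closure ({s, t} : Set Y) ≤ closure ({z, s, t} : Set Y) :=
            closure_mono (Set.subset_insert _ _)
          have hKL : closure ({s, t} : Set Y) ≤ L := (closure_le _).2 (by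
            rintro x (rfl | rfl) <;> assumption)
          have h4 := SylInter.card_closure_pair_four hs ht hne hc
          have hlt : Nat.card (closure ({s, t} : Set Y)) ≠ Nat.card (closure ({z, s, t} : Set Y)) := fun e =>
            hzL (hKL ((eq_of_le_of_card_ge hK e.ge).ge (subset_closure (Or.inl rfl))))
          obtain ⟨c, hc'⟩ := card_dvd_of_le hK
          rcases c with _ | _ | c
          · rw [mul_zero] at hc'; exact absurd hc' Nat.card_pos.ne'
          · rw [zero_add, mul_one] at hc'; exact absurd hc'.symm hlt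
          · rw [hc', h4, Nat.mul_add, Nat.mul_add]; omega
    · refine ⟨hB, oneSylow_of_cover hL.2 hz hzc hB h8, ?_⟩
      obtain ⟨P⟩ : Nonempty (Sylow 2 L) := inferInstance
      obtain ⟨S₁, hS₁⟩ := (P.2.map L.subtype).exists_le_sylow
      obtain ⟨E, hEP, hzE, hEc, hE2, hE8⟩ := h8 P
      haveI := hEc
      refine ⟨S₁, z, E.map L.subtype, (map_mono hEP).trans hS₁, ⟨z, hzE, rfl⟩, inferInstance, ?_, ?_⟩
      · rintro _ ⟨e, he, rfl⟩
        rw [← map_mul, hE2 e he, map_one]
      · rwa [card_map_of_injective L.subtype_injective]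
  -- the intersection lies in `O₂`
  have hDO : D ≤ O2 := by
    intro x hx
    obtain ⟨l, hl, o, ho, rfl, hlS, hlT⟩ := hDsplit x hx
    refine mul_mem ?_ ho
    by_contra hlO
    obtain ⟨P, hP⟩ := exists_sylow_inf S L
    obtain ⟨P', hP'⟩ := exists_sylow_inf T L
    have := eq_of_quotient_involution hW.2.1 hZp (P := P) (P' := P') (l := ⟨l, hl⟩)
      (hP ▸ mem_subgroupOf.2 hlS) (hP' ▸ mem_subgroupOf.2 hlT)
      fun h => hlO (mem_subgroupOf.1 (hmeq.symm ▸ h))
    exact hinf S T P hST hP (this ▸ hP')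
  have hO2eq : O2 = D := le_antisymm hO2D hDO
  obtain ⟨n, hnq⟩ : ∃ n : ℕ, Nonempty (↥O2 ≃* QuaternionGroup (2 ^ (n + 1))) := by
    rcases cyclic_or_quaternion (S.2.to_le (inf_le_left : D ≤ S)) (rankInter_of_fourUnique hF S T hST)
      with h | ⟨n, ⟨e⟩⟩
    · exact absurd h hnc
    · exact ⟨n, ⟨(MulEquiv.subgroupCongr hO2eq).trans e⟩⟩
  haveI hsubn : (O2.subgroupOf (L ⊔ O2)).Normal := inferInstance
  refine ⟨⟨L ⊔ O2, inferInstance, hsubn, hodd, le_sup_right, ⟨n, hnq⟩, ?_⟩, hW.2.2⟩
  exact Three.of_equiv ((QuotientGroup.quotientInfEquivProdNormalQuotient L O2).symm.trans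
    (QuotientGroup.quotientMulEquivOfEq hmeq)) (three_of_bender hW.1)

end CfsgLib.Inter10
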