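import Cfsg.Agent.Lib.Inter10.RankOne
import Cfsg.Agent.Lib.Involutions.WeaklyClosedCentral

/-!
S3310: a normal `SL(2,5)` with a twisting element and its centraliser contain the Sylow 2-subgroups.
-/

set_option autoImplicit false
set_option linter.style.haveILetI false
set_option linter.unusedSectionVars false

namespace CfsgLib.Inter10

open Subgroup Pointwise CfsgLib.Involutions

universe u

section quat

variable {L : Type u} [Group L] {z i j h : L} (d : QuatData z i j h)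
include d

/-- Up to the central involution. -/
theorem QuatData.cls {x : L} (hx : x ∈ closure ({i, j} : Set L)) :
    (x = 1 ∨ x = z) ∨ (x = i ∨ x = z * i) ∨ (x = j ∨ x = z * j) ∨ (x = i * j ∨ x = z * (i * j)) := by
  have zi : z * z = 1 := d.zz
  have e1 : i * j * i = j := by
    rw [mul_assoc, d.ji, ← mul_assoc, (d.zc i).eq, mul_assoc z i, ← mul_assoc i i j, d.ii, ← mul_assoc, zi,
      one_mul]
  have e2 : i * j * j = z * i := by rw [mul_assoc, d.jj, (d.zc i).eq]
  have inv_i : i⁻¹ = z * i := inv_eq_of_mul_eq_one_right (by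
    rw [← mul_assoc, (d.zc i).eq, mul_assoc, d.ii, zi])
  have inv_j : j⁻¹ = z * j := inv_eq_of_mul_eq_one_right (by
    rw [← mul_assoc, (d.zc j).eq, mul_assoc, d.jj, zi])
  have ki : ∀ y, (y = 1 ∨ y = z) ∨ (y = i ∨ y = z * i) ∨ (y = j ∨ y = z * j) ∨ (y = i * j ∨ y = z * (i * j)) →
      (y * i = 1 ∨ y * i = z) ∨ (y * i = i ∨ y * i = z * i) ∨ (y * i = j ∨ y * i = z * j) ∨
        (y * i = i * j ∨ y * i = z * (i * j)) := by
    rintro y ((rfl | rfl) | (rfl | rfl) | (rfl | rfl) | (rfl | rfl))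
    · exact Or.inr (Or.inl (Or.inl (one_mul _)))
    · exact Or.inr (Or.inl (Or.inr rfl))
    · exact Or.inl (Or.inr d.ii)
    · exact Or.inl (Or.inl (by rw [mul_assoc, d.ii, zi]))
    · exact Or.inr (Or.inr (Or.inr (Or.inr d.ji)))
    · exact Or.inr (Or.inr (Or.inr (Or.inl (by rw [mul_assoc, d.ji, ← mul_assoc, zi, one_mul]))))
    · exact Or.inr (Or.inr (Or.inl (Or.inl e1)))
    · exact Or.inr (Or.inr (Or.inl (Or.inr (by rw [mul_assoc, e1]))))
  have kj : ∀ y, (y = 1 ∨ y = z) ∨ (y = i ∨ y = z * i) ∨ (y = j ∨ y = z * j) ∨ (y = i * j ∨ y = z * (i * j)) →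
      (y * j = 1 ∨ y * j = z) ∨ (y * j = i ∨ y * j = z * i) ∨ (y * j = j ∨ y * j = z * j) ∨
        (y * j = i * j ∨ y * j = z * (i * j)) := by
    rintro y ((rfl | rfl) | (rfl | rfl) | (rfl | rfl) | (rfl | rfl))
    · exact Or.inr (Or.inr (Or.inl (Or.inl (one_mul _))))
    · exact Or.inr (Or.inr (Or.inl (Or.inr rfl)))
    · exact Or.inr (Or.inr (Or.inr (Or.inl rfl)))
    · exact Or.inr (Or.inr (Or.inr (Or.inr (mul_assoc _ _ _))))
    · exact Or.inl (Or.inr d.jj)
    · exact Or.inl (Or.inl (by rw [mul_assoc, d.jj, zi]))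
    · exact Or.inr (Or.inl (Or.inr e2))
    · exact Or.inr (Or.inl (Or.inl (by rw [mul_assoc, e2, ← mul_assoc, zi, one_mul])))
  have kz : ∀ y, (y = 1 ∨ y = z) ∨ (y = i ∨ y = z * i) ∨ (y = j ∨ y = z * j) ∨ (y = i * j ∨ y = z * (i * j)) →
      (y * z = 1 ∨ y * z = z) ∨ (y * z = i ∨ y * z = z * i) ∨ (y * z = j ∨ y * z = z * j) ∨
        (y * z = i * j ∨ y * z = z * (i * j)) := by
    intro y hy
    rw [(d.zc y).eq]
    rcases hy with (rfl | rfl) | (rfl | rfl) | (rfl | rfl) | (rfl | rfl) <;>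
      simp [← mul_assoc, zi]
  induction hx using closure_induction_right with
  | one => exact Or.inl (Or.inl rfl)
  | mul_right y _ g hg ih =>
    rcases hg with rfl | rfl
    exacts [ki y ih, kj y ih]
  | mul_inv_cancel y _ g hg ih =>
    rcases hg with rfl | rfl
    · rw [inv_i, ← mul_assoc]; exact ki _ (kz y ih)
    · rw [inv_j, ← mul_assoc]; exact kj _ (kz y ih)

/-- Conjugation by an element of the quaternion group fixes the generators up to `z`. -/
theorem QuatData.conj_cls {q : L} (hq : q ∈ closure ({i, j} : Set L)) :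
    (q * i * q⁻¹ = i ∨ q * i * q⁻¹ = z * i) ∧ (q * j * q⁻¹ = j ∨ q * j * q⁻¹ = z * j) := by
  have hz : ∀ a b : L, z * a * b * (z * a)⁻¹ = a * b * a⁻¹ := fun a b => by
    rw [← (d.zc a).eq, show a * z * b * (a * z)⁻¹ = a * (z * b * z⁻¹) * a⁻¹ by group, ← (d.zc b).eq,
      mul_inv_cancel_right]
  have hji : j * i * j⁻¹ = z * i := by rw [d.ji, ← mul_assoc, mul_inv_cancel_right]
  have hij : i * j * i⁻¹ = z * j := by
    rw [mul_inv_eq_iff_eq_mul, mul_assoc, d.ji, ← mul_assoc, d.zz, one_mul]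
  have hkey : ∀ a, (a = 1 ∨ a = i ∨ a = j ∨ a = i * j) →
      (a * i * a⁻¹ = i ∨ a * i * a⁻¹ = z * i) ∧ (a * j * a⁻¹ = j ∨ a * j * a⁻¹ = z * j) := by
    rintro a (rfl | rfl | rfl | rfl)
    · simp
    · exact ⟨Or.inl (mul_inv_cancel_right _ _), Or.inr hij⟩
    · exact ⟨Or.inr hji, Or.inl (mul_inv_cancel_right _ _)⟩
    · refine ⟨Or.inr ?_, Or.inr ?_⟩
      · rw [show i * j * i * (i * j)⁻¹ = i * (j * i * j⁻¹) * i⁻¹ by group, hji, ← mul_assoc, (d.zc i).eq,
          mul_inv_cancel_right]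
      · rw [show i * j * j * (i * j)⁻¹ = i * j * i⁻¹ by group, hij]
  have h1 : z * i * z⁻¹ = i ∧ z * j * z⁻¹ = j :=
    ⟨by rw [← (d.zc i).eq, mul_inv_cancel_right], by rw [← (d.zc j).eq, mul_inv_cancel_right]⟩
  rcases d.cls hq with (rfl | rfl) | (rfl | rfl) | (rfl | rfl) | (rfl | rfl)
  · exact hkey _ (Or.inl rfl)
  · exact ⟨Or.inl h1.1, Or.inl h1.2⟩
  · exact hkey _ (Or.inr (Or.inl rfl))
  · rw [hz, hz]; exact hkey _ (Or.inr (Or.inl rfl))
  · exact hkey _ (Or.inr (Or.inr (Or.inl rfl)))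
  · rw [hz, hz]; exact hkey _ (Or.inr (Or.inr (Or.inl rfl)))
  · exact hkey _ (Or.inr (Or.inr (Or.inr rfl)))
  · rw [hz, hz]; exact hkey _ (Or.inr (Or.inr (Or.inr rfl)))

end quat

variable {G : Type u} [Group G] [Finite G]

/-- A 2-element centralising a Sylow 2-subgroup of a normal core-free subgroup of rank one centralises it. -/
theorem mem_centralizer_of_sylow {L : Subgroup G} [hLn : L.Normal] (hOL : Cfsg.oddCore L = ⊥) {z : G}
    (hzc : ∀ g : G, Commute g z) (hz : orderOf z = 2) (huniq : ∀ x ∈ L, orderOf x = 2 → x = z)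
    {S : Sylow 2 G} {f : G} (hf : f ∈ (S : Subgroup G))
    (hfQ : ∀ x ∈ (S : Subgroup G) ⊓ L, Commute f x) : f ∈ centralizer (L : Set G) := by
  haveI : Fact (Nat.Prime 2) := ⟨Nat.prime_two⟩
  obtain ⟨P, hP⟩ := exists_sylow_inf S L
  set M : Subgroup G := L ⊔ zpowers f with hMdef
  have hfM : f ∈ M := mem_sup_right (mem_zpowers f)
  have hLM : L ≤ M := le_sup_left
  have hdec : ∀ m ∈ M, ∃ l ∈ L, ∃ k : ℤ, m = l * f ^ k := by
    intro m hm
    obtain ⟨l, hl, y, ⟨k, rfl⟩, rfl⟩ := mem_sup_of_normal_left.1 hm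
    exact ⟨l, hl, k, rfl⟩
  obtain ⟨R, hR⟩ := (S.2.comap_subtype (K := M)).exists_le_sylow
  have hRS : (R : Subgroup M) = (S : Subgroup G).subgroupOf M := by
    refine le_antisymm (fun x hx => ?_) hR
    obtain ⟨l, hl, k, hk⟩ := hdec x x.2
    have hlR : (⟨l, hLM hl⟩ : M) ∈ (R : Subgroup M) := by
      have h1 := mul_mem hx (inv_mem (hR (show (⟨f ^ k, zpow_mem hfM k⟩ : M) ∈ (S : Subgroup G).subgroupOf M
        from zpow_mem hf k)))
      convert h1 using 1
      exact Subtype.ext (by simp [hk])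
    have hp : IsPGroup 2 ↥((R : Subgroup M).map M.subtype |>.subgroupOf L) := (R.2.map _).comap_subtype
    have hPle : (P : Subgroup L) ≤ ((R : Subgroup M).map M.subtype).subgroupOf L := fun v hv => by
      rw [hP] at hv
      exact mem_subgroupOf.2 ⟨⟨v, hLM v.2⟩, hR hv, rfl⟩
    have h2 : (⟨l, hl⟩ : L) ∈ (P : Subgroup L) :=
      (P.3 hp hPle).le (mem_subgroupOf.2 ⟨_, hlR, rfl⟩)
    rw [hP] at h2
    show (x : G) ∈ (S : Subgroup G)
    rw [hk]
    exact mul_mem h2 (zpow_mem hf k)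
  -- every power of `f` is weakly closed
  have key : ∀ a : ℕ, ∀ k : ℕ, (f ^ k) ^ 2 ^ a = 1 → ∀ l ∈ L, l * f ^ k * l⁻¹ ∈ (S : Subgroup G) →
      l * f ^ k * l⁻¹ = f ^ k := by
    intro a
    induction a with
    | zero =>
      intro k hk l _ _
      rw [pow_zero, pow_one] at hk
      rw [hk, mul_one, mul_inv_cancel]
    | succ a ih =>
      intro k hk l hl hy
      set x := f ^ k with hxdef
      set y := l * x * l⁻¹ with hydef
      have hxS : x ∈ (S : Subgroup G) := pow_mem hf k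
      set q := y * x⁻¹ with hqdef
      have hqS : q ∈ (S : Subgroup G) := mul_mem hy (inv_mem hxS)
      have hqQ : q ∈ (S : Subgroup G) ⊓ L := ⟨hqS, by
        rw [hqdef, hydef, show l * x * l⁻¹ * x⁻¹ = l * (x * l⁻¹ * x⁻¹) by group]
        exact mul_mem hl (hLn.conj_mem _ (inv_mem hl) x)⟩
      have hqx : Commute q x := ((hfQ q hqQ).pow_left k).symm
      have hy' : y = q * x := by rw [hqdef, inv_mul_cancel_right]
      have h2 := ih (k * 2) (by rw [pow_mul, ← pow_mul (f ^ k), ← pow_succ']; exact hk) l hl (by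
        have := pow_mem hy 2
        rwa [hydef, conj_pow, hxdef, ← pow_mul] at this)
      rw [pow_mul, ← hxdef, ← conj_pow, ← hydef, hy', hqx.mul_pow] at h2
      have hq2 : q ^ 2 = 1 := mul_right_cancel (h2.trans (one_mul _).symm)
      have hqz : q = 1 ∨ q = z := by
        rcases eq_or_ne q 1 with h | h
        · exact Or.inl h
        · exact Or.inr (huniq q hqQ.2 (orderOf_eq_prime hq2 h))
      have hqc : ∀ g : G, Commute g q := fun g => by
        rcases hqz with h | h <;> rw [h]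
        exacts [Commute.one_right g, hzc g]
      have hyQ : ∀ v ∈ (S : Subgroup G) ⊓ L, Commute y v := fun v hv => by
        rw [hy']; exact (hqc v).symm.mul_left ((hfQ v hv).pow_left k)
      -- two Sylow subgroups of `L` centralising `x`
      set l' : L := ⟨l, hl⟩ with hl'
      have hPK : (P : Subgroup L) ≤ (centralizer ({x} : Set G)).subgroupOf L := fun v hv => by
        rw [hP] at hv
        exact mem_subgroupOf.2 (mem_centralizer_singleton_iff.2 (((hfQ v ⟨hv, v.2⟩).pow_left k).eq.symm))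
      have hPK' : ((l'⁻¹ • P : Sylow 2 L) : Subgroup L) ≤ (centralizer ({x} : Set G)).subgroupOf L := by
        intro v hv
        rw [CentralSylow.mem_smul_iff, inv_inv, hP, mem_subgroupOf] at hv
        refine mem_subgroupOf.2 (mem_centralizer_singleton_iff.2 ?_)
        have h3 := (hyQ _ ⟨hv, (l' * v * l'⁻¹).2⟩).eq
        rw [hydef, Subgroup.coe_mul, Subgroup.coe_mul, Subgroup.coe_inv] at h3
        have h4 := congrArg (fun w => l⁻¹ * w * l) h3
        simp only [hl', mul_assoc, inv_mul_cancel_left, inv_mul_cancel, mul_one] at h4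
        exact h4.symm
      obtain ⟨c, hc, hcP⟩ := CentralSylow.exists_smul_eq_in hPK hPK'
      set n : L := l' * c with hndef
      have hnN : n ∈ normalizer ((P : Subgroup L) : Set L) := Sylow.smul_eq_iff_mem_normalizer.1 (by
        rw [hndef, mul_smul, hcP, smul_inv_smul])
      have hcx : (c : G) * x = x * c := mem_centralizer_singleton_iff.1 (mem_subgroupOf.1 hc)
      have hn1 : (n : G) * x * (n : G)⁻¹ = q * x := by
        rw [← hy', hydef, hndef, Subgroup.coe_mul]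
        show l * c * x * (l * c)⁻¹ = _
        rw [show l * (c : G) * x * (l * c)⁻¹ = l * (c * x * (c : G)⁻¹) * l⁻¹ by group, hcx, mul_inv_cancel_right]
      have hn2 : Commute ((n : G) ^ 2) x := by
        refine mul_inv_eq_iff_eq_mul.1 ?_
        calc (n : G) ^ 2 * x * ((n : G) ^ 2)⁻¹ = (n : G) * (n * x * (n : G)⁻¹) * (n : G)⁻¹ := by
              rw [pow_two]; group
          _ = (n : G) * (q * x) * (n : G)⁻¹ := by rw [hn1]
          _ = (n : G) * q * (n : G)⁻¹ * ((n : G) * x * (n : G)⁻¹) := by group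
          _ = q * (q * x) := by rw [(hqc n).eq, mul_inv_cancel_right, hn1]
          _ = x := by rw [← mul_assoc, ← pow_two, hq2, one_mul]
      obtain ⟨b, m, hm, hbm⟩ := Nat.exists_eq_pow_mul_and_not_dvd (orderOf_pos n).ne' 2 (by norm_num)
      have hmP : n ^ m ∈ (P : Subgroup L) := SylInter.mem_sylow_of_normalizer P
        ⟨b, orderOf_dvd_of_pow_eq_one (by rw [← pow_mul, mul_comm, ← hbm, pow_orderOf_eq_one])⟩
        (pow_mem hnN m)
      have hmx : Commute ((n : G) ^ m) x := by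
        have := mem_centralizer_singleton_iff.1 (mem_subgroupOf.1 (hPK hmP))
        rwa [SubmonoidClass.coe_pow] at this
      obtain ⟨r, rfl⟩ : Odd m := Nat.not_even_iff_odd.1 fun h => hm (even_iff_two_dvd.1 h)
      have hnx : Commute (n : G) x := by
        have h4 := ((hn2.pow_left r).inv_left).mul_left hmx
        rwa [← pow_mul, pow_succ, inv_mul_cancel_left] at h4
      rw [hy', ← hn1, hnx.eq, mul_inv_cancel_right]
  obtain ⟨a, ha⟩ := S.2 ⟨f, hf⟩
  have hfa : f ^ 2 ^ a = 1 := congrArg Subtype.val ha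
  refine mem_centralizer_iff.2 fun l hl => ?_
  have hcore := WCC.commutator_mem_core a M R ⟨f, hfM⟩ (hRS ▸ mem_subgroupOf.2 hf) (Subtype.ext hfa) (by
    intro k m hm
    rw [hRS, mem_subgroupOf] at hm
    obtain ⟨l₀, hl₀, t, ht⟩ := hdec m m.2
    have he : ((m * ⟨f, hfM⟩ ^ k * m⁻¹ : M) : G) = l₀ * f ^ k * l₀⁻¹ := by
      simp only [Subgroup.coe_mul, Subgroup.coe_inv, SubmonoidClass.coe_pow, ht]
      rw [show l₀ * f ^ t * f ^ k * (l₀ * f ^ t)⁻¹ = l₀ * (f ^ t * f ^ k * (f ^ t)⁻¹) * l₀⁻¹ by group]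
      rw [((Commute.refl f).zpow_left t |>.pow_right k).eq, mul_inv_cancel_right]
    rw [he] at hm
    refine Subtype.ext ?_
    rw [he, SubmonoidClass.coe_pow]
    exact key a k (by rw [← pow_mul, mul_comm, pow_mul, hfa, one_pow]) l₀ hl₀ hm) ⟨l, hLM hl⟩
  have hN : ((Cfsg.pPrimeCore 2 M).map M.subtype).subgroupOf L ≤ Cfsg.pPrimeCore 2 L := by
    haveI := Cfsg.pPrimeCore_normal 2 M
    refine CfsgLib.PCore.le_pPrimeCore ⟨fun v hv g => ?_⟩ ?_
    · obtain ⟨w, hw, hwv⟩ := mem_subgroupOf.1 hv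
      refine mem_subgroupOf.2 ⟨⟨g, hLM g.2⟩ * w * (⟨g, hLM g.2⟩ : M)⁻¹,
        Subgroup.Normal.conj_mem inferInstance w hw _, ?_⟩
      simp only [map_mul, map_inv, hwv]
      rfl
    · have h1 : Nat.card ↥(((Cfsg.pPrimeCore 2 M).map M.subtype).subgroupOf L) ∣
          Nat.card ↥(Cfsg.pPrimeCore 2 M) :=
        by
        rw [← card_map_of_injective L.subtype_injective, subgroupOf_map_subtype]
        exact (card_dvd_of_le inf_le_left).trans (card_map_of_injective M.subtype_injective).dvd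
      exact CfsgLib.PCore.pPrimeCore_coprime.coprime_dvd_left h1
  have hmem : l * f * l⁻¹ * f⁻¹ ∈ L := by
    rw [show l * f * l⁻¹ * f⁻¹ = l * (f * l⁻¹ * f⁻¹) by group]
    exact mul_mem hl (hLn.conj_mem _ (inv_mem hl) f)
  have h5 := hN (mem_subgroupOf.2 ⟨_, hcore, rfl⟩ :
    (⟨l * f * l⁻¹ * f⁻¹, hmem⟩ : L) ∈ ((Cfsg.pPrimeCore 2 M).map M.subtype).subgroupOf L)
  rw [show Cfsg.pPrimeCore 2 L = ⊥ from hOL, mem_bot] at h5
  exact commutatorElement_eq_one_iff_mul_comm.1 (congrArg Subtype.val h5)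

end CfsgLib.Inter10
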