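import Cfsg.Agent.Lib.Inter10.Split

/-!
S3310: with a twisting element the Sylow 2-subgroup is the product of its parts in the component and in
the centraliser of the component.
-/

set_option autoImplicit false
set_option linter.style.haveILetI false
set_option linter.unusedSectionVars false

namespace CfsgLib.Inter10

open Subgroup Pointwise CfsgLib.Involutions

universe u

variable {G : Type u} [Group G] [Finite G]

theorem Twist.sylow_split {L : Subgroup G} [hLn : L.Normal] {z c : G} (h : Twist L z c) (hF : FourUnique G)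
    (hq : Cfsg.IsQuasisimple L) (hO : Cfsg.oddCore L = ⊥) (hr : Cfsg.PRankLE 2 1 L) (S : Sylow 2 G) :
    ((S : Subgroup G) ⊓ L) ⊔ ((S : Subgroup G) ⊓ centralizer (L : Set G)) = S := by
  haveI : Fact (Nat.Prime 2) := ⟨Nat.prime_two⟩
  refine le_antisymm (sup_le inf_le_left inf_le_left) fun g hg => ?_
  -- a twisting element inside `S`
  obtain ⟨c, hcS, hct⟩ : ∃ c ∈ (S : Subgroup G), Twist L z c := by
    have hcp : IsPGroup 2 (zpowers c) :=
      IsPGroup.of_card (n := 2) (by rw [Nat.card_zpowers, h.orderOf_four]; norm_num)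
    obtain ⟨T, hT⟩ := hcp.exists_le_sylow
    obtain ⟨a, rfl⟩ := MulAction.exists_smul_eq G T S
    refine ⟨a * c * a⁻¹, CentralSylow.conj_mem_smul (hT (mem_zpowers c)), h.z2, h.zc, h.zL, ?_, ?_, ?_⟩
    · exact (inferInstance : (centralizer (L : Set G)).Normal).conj_mem c h.cC a
    · rw [show a * c * a⁻¹ * (a * c * a⁻¹) = a * (c * c) * a⁻¹ by group, h.cc, (h.zc a).eq, mul_inv_cancel_right]
    · intro hcL
      exact h.cL (by simpa [mul_assoc] using hLn.conj_mem _ hcL a⁻¹)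
  obtain ⟨e⟩ := h.sl25 hF hq hO hr
  obtain ⟨P, hP⟩ := exists_sylow_inf S L
  obtain ⟨-, z0, i, j, t, d, hPc, huniq⟩ := exists_quatData e P
  have hz0 : (⟨z, h.zL⟩ : L) = z0 := huniq _ ((Subgroup.orderOf_mk z h.zL).trans h.z2)
  subst hz0
  have hmem : ∀ v : L, v ∈ closure ({i, j} : Set L) ↔ (v : G) ∈ (S : Subgroup G) := fun v => by
    rw [← hPc, hP, mem_subgroupOf]
  have hiS : (i : G) ∈ (S : Subgroup G) := (hmem i).1 (subset_closure (Or.inl rfl))
  have hjS : (j : G) ∈ (S : Subgroup G) := (hmem j).1 (subset_closure (Or.inr rfl))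
  have hzS : z ∈ (S : Subgroup G) := by
    have := mul_mem hiS hiS
    rwa [show (i : G) * i = z from congrArg Subtype.val d.ii] at this
  have htc : Commute (t : G) c := mem_centralizer_iff.1 hct.cC t t.2
  -- the element of order three normalises `S`
  have htN : (t : G) ∈ normalizer ((S : Subgroup G) : Set G) := by
    obtain ⟨h1, h2, h3⟩ := hct.involution j.2 (congrArg Subtype.val d.jj)
    refine Sylow.smul_eq_iff_mem_normalizer.1 (hF ((t : G) • S) S _ z h1 h.z2 h2 h3 ?_ ?_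
      (mul_mem hjS hcS) hzS)
    · rw [CentralSylow.mem_smul_iff]
      have e1 : (t : G) * i * (t : G)⁻¹ = j := congrArg Subtype.val d.hi
      have e2 : (t : G)⁻¹ * (j * c) * t = i * c := by
        rw [← e1, show (t : G)⁻¹ * ((t : G) * i * (t : G)⁻¹ * c) * t = i * ((t : G)⁻¹ * c * t) by group,
          mul_assoc (t : G)⁻¹, ← htc.eq, inv_mul_cancel_left]
      rw [e2]
      exact mul_mem hiS hcS
    · rw [CentralSylow.mem_smul_iff, mul_assoc, ← (h.zc (t : G)).eq, inv_mul_cancel_left]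
      exact hzS
  -- conjugation by an element of `S` on the generators
  let cg : G → L → L := fun x v => ⟨x * v * x⁻¹, hLn.conj_mem v v.2 x⟩
  have cg_mul : ∀ (x : G) (v w : L), cg x (v * w) = cg x v * cg x w := fun x v w => Subtype.ext (by
    show x * ((v : G) * w) * x⁻¹ = x * v * x⁻¹ * (x * w * x⁻¹); group)
  have cg_comp : ∀ (x y : G) (v : L), cg (x * y) v = cg x (cg y v) := fun x y v => Subtype.ext (by
    show x * y * v * (x * y)⁻¹ = x * (y * v * y⁻¹) * x⁻¹; group)
  have cg_z : ∀ x : G, cg x ⟨z, h.zL⟩ = ⟨z, h.zL⟩ := fun x => Subtype.ext (by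
    show x * z * x⁻¹ = z
    rw [(h.zc x).eq, mul_inv_cancel_right])
  let K : L → L → Prop := fun a v => v = a ∨ v = ⟨z, h.zL⟩ * a
  have hzz : ∀ a : L, (⟨z, h.zL⟩ : L) * (⟨z, h.zL⟩ * a) = a := fun a => by
    rw [← mul_assoc, d.zz, one_mul]
  have K_map : ∀ x a b, K b (cg x a) → ∀ v, K a v → K b (cg x v) := by
    rintro x a b hb v (rfl | rfl)
    · exact hb
    · rw [cg_mul, cg_z]
      rcases hb with e | e <;> rw [e]
      exacts [Or.inr rfl, Or.inl (hzz b)]
  have t_map : ∀ v, (K i v → K j (t * v * t⁻¹)) ∧ (K j v → K (i * j) (t * v * t⁻¹)) ∧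
      (K (i * j) v → K i (t * v * t⁻¹)) := by
    have hz' : ∀ a : L, t * ((⟨z, h.zL⟩ : L) * a) * t⁻¹ = ⟨z, h.zL⟩ * (t * a * t⁻¹) := fun a => by
      rw [← mul_assoc, (d.zc t).eq]; group
    have e3 : t * (i * j) * t⁻¹ = i := by
      rw [show t * (i * j) * t⁻¹ = t * i * t⁻¹ * (t * j * t⁻¹) by group, d.hi, d.hj, ← mul_assoc, d.ji,
        mul_assoc _ _ j, mul_assoc i j j, d.jj, (d.zc i).eq, hzz]
    refine fun v => ⟨?_, ?_, ?_⟩ <;> rintro (rfl | rfl)
    exacts [Or.inl d.hi, Or.inr (by rw [hz', d.hi]), Or.inl d.hj, Or.inr (by rw [hz', d.hj]), Or.inl e3,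
      Or.inr (by rw [hz', e3])]
  have q_map : ∀ (x : L), x ∈ closure ({i, j} : Set L) → ∀ v,
      (K i v → K i (x * v * x⁻¹)) ∧ (K j v → K j (x * v * x⁻¹)) ∧ (K (i * j) v → K (i * j) (x * v * x⁻¹)) := by
    intro x hx v
    obtain ⟨hi, hj⟩ := d.conj_cls hx
    have hz' : ∀ a b : L, K b (x * a * x⁻¹) → K b (x * ((⟨z, h.zL⟩ : L) * a) * x⁻¹) := fun a b hab => by
      rw [← mul_assoc, (d.zc x).eq, show (⟨z, h.zL⟩ : L) * x * a * x⁻¹ = ⟨z, h.zL⟩ * (x * a * x⁻¹) by group]
      rcases hab with e | e <;> rw [e]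
      exacts [Or.inr rfl, Or.inl (hzz b)]
    have hij : K (i * j) (x * (i * j) * x⁻¹) := by
      rw [show x * (i * j) * x⁻¹ = x * i * x⁻¹ * (x * j * x⁻¹) by group]
      rcases hi with e | e <;> rcases hj with e' | e' <;> rw [e, e']
      · exact Or.inl rfl
      · exact Or.inr (by rw [← mul_assoc, (d.zc i).eq, mul_assoc])
      · exact Or.inr (mul_assoc _ _ _)
      · exact Or.inl (by rw [mul_assoc, ← mul_assoc i, (d.zc i).eq, mul_assoc, hzz])
    refine ⟨?_, ?_, ?_⟩ <;> rintro (rfl | rfl)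
    exacts [hi, hz' _ _ hi, hj, hz' _ _ hj, hij, hz' _ _ hij]
  have next_map : ∀ x ∈ (S : Subgroup G), ∀ a b, K b (cg x a) →
      ∃ q ∈ closure ({i, j} : Set L), cg x (t * a * t⁻¹) = q * (t * cg x a * t⁻¹) * q⁻¹ := by
    intro x hx a b _
    have hq0 : x * t * x⁻¹ * (t : G)⁻¹ ∈ (S : Subgroup G) ∧ x * t * x⁻¹ * (t : G)⁻¹ ∈ L := by
      refine ⟨?_, mul_mem (hLn.conj_mem t t.2 x) (inv_mem t.2)⟩
      rw [show x * t * x⁻¹ * (t : G)⁻¹ = x * (t * x⁻¹ * (t : G)⁻¹) by group]
      exact mul_mem hx ((mem_set_normalizer_iff.1 htN _).1 (inv_mem hx))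
    refine ⟨⟨_, hq0.2⟩, (hmem _).2 hq0.1, Subtype.ext ?_⟩
    show x * (t * a * (t : G)⁻¹) * x⁻¹ = x * t * x⁻¹ * (t : G)⁻¹ * (t * (x * a * x⁻¹) * (t : G)⁻¹) *
      (x * t * x⁻¹ * (t : G)⁻¹)⁻¹
    group
  have cycle : ∀ x ∈ (S : Subgroup G), ¬ K j (cg x i) := by
    intro x hx hij
    have hjk : K (i * j) (cg x j) := by
      obtain ⟨q, hq, e1⟩ := next_map x hx i j hij
      rw [d.hi] at e1
      exact e1 ▸ (q_map q hq _).2.2 ((t_map _).2.1 hij)
    have hki : K i (cg x (i * j)) := by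
      obtain ⟨q, hq, e1⟩ := next_map x hx j (i * j) hjk
      rw [d.hj] at e1
      exact e1 ▸ (q_map q hq _).1 ((t_map _).2.2 hjk)
    have hn : ∀ n : ℕ, (n % 3 = 0 → K i (cg (x ^ n) i)) ∧ (n % 3 = 1 → K j (cg (x ^ n) i)) ∧
        (n % 3 = 2 → K (i * j) (cg (x ^ n) i)) := by
      intro n
      induction n with
      | zero => exact ⟨fun _ => Or.inl (Subtype.ext (by simp [cg])), fun h => by simp at h, fun h => by simp at h⟩
      | succ n ih =>
        rw [pow_succ', cg_comp]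
        refine ⟨fun h => ?_, fun h => ?_, fun h => ?_⟩
        · exact K_map x _ _ hki _ (ih.2.2 (by omega))
        · exact K_map x _ _ hij _ (ih.1 (by omega))
        · exact K_map x _ _ hjk _ (ih.2.1 (by omega))
    obtain ⟨a, ha⟩ := S.2 ⟨x, hx⟩
    have h1 : cg (x ^ 2 ^ a) i = i := Subtype.ext (by
      show x ^ 2 ^ a * (i : G) * (x ^ 2 ^ a)⁻¹ = i
      rw [show x ^ 2 ^ a = 1 from congrArg Subtype.val ha]; group)
    have hji : j * i ≠ i * j := fun e' => d.z1 (mul_right_cancel (b := i * j) (by rw [one_mul, ← d.ji, e']))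
    have hcase : K j i ∨ K (i * j) i := by
      have h3 : 2 ^ a % 3 ≠ 0 := fun h0 => by
        have := Nat.prime_three.dvd_of_dvd_pow (Nat.dvd_of_mod_eq_zero h0)
        omega
      rcases (show 2 ^ a % 3 = 1 ∨ 2 ^ a % 3 = 2 by omega) with h2 | h2
      · have h4 := (hn _).2.1 h2
        rw [h1] at h4
        exact Or.inl h4
      · have h4 := (hn _).2.2 h2
        rw [h1] at h4
        exact Or.inr h4
    have zc : ∀ a b : L, Commute a b → Commute a (⟨z, h.zL⟩ * b) := fun a b hab => (d.zc a).mul_right hab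
    rcases hcase with (e | e) | (e | e)
    · exact hji (by rw [← e])
    · exact hji (by rw [e]; exact (zc j j (Commute.refl j)).eq)
    · have hj1 : j = 1 := mul_left_cancel (e.symm.trans (mul_one i).symm)
      exact hji (by rw [hj1, one_mul, mul_one])
    · have hj1 : j = ⟨z, h.zL⟩ := by
        have h5 : i * j = i * ⟨z, h.zL⟩ := by rw [(d.zc i).eq]; nth_rewrite 2 [e]; rw [hzz]
        exact mul_left_cancel h5
      exact hji (by rw [hj1, (d.zc i).eq])
  -- the image of `i` and `j`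
  have hcl : K i (cg g i) := by
    have hgi : cg g i ∈ closure ({i, j} : Set L) := (hmem _).2 (mul_mem (mul_mem hg hiS) (inv_mem hg))
    rcases d.cls hgi with (e | e) | hK | hK | hK
    · exfalso
      have : (i : G) = 1 := conj_eq_one_iff.1 (congrArg Subtype.val e)
      exact d.z1 (by rw [← d.ii, show i = 1 from Subtype.ext this, one_mul])
    · exfalso
      have h1 : g * i * g⁻¹ = z := congrArg Subtype.val e
      have h2 : (i : G) = z := by
        have h3 : (i : G) = g⁻¹ * z * g := by rw [← h1]; group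
        rwa [mul_assoc, ← (h.zc g).eq, inv_mul_cancel_left] at h3
      have hi' : i = ⟨z, h.zL⟩ := Subtype.ext h2
      exact d.z1 (by rw [← d.ii, hi', d.zz])
    · exact hK
    · exact absurd hK (cycle g hg)
    · exfalso
      obtain ⟨q, hq, e1⟩ := next_map g hg i (i * j) hK
      rw [d.hi] at e1
      have hji : K i (cg g j) := e1 ▸ (q_map q hq _).1 ((t_map _).2.2 hK)
      obtain ⟨q', hq', e2⟩ := next_map g hg j i hji
      rw [d.hj] at e2
      have hkj : K j (cg g (i * j)) := e2 ▸ (q_map q' hq' _).2.1 ((t_map _).1 hji)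
      refine cycle (g * g) (mul_mem hg hg) ?_
      rw [cg_comp]
      exact K_map g _ _ hkj _ hK
  have hclj : K j (cg g j) := by
    obtain ⟨q, hq, e1⟩ := next_map g hg i i hcl
    rw [d.hi] at e1
    exact e1 ▸ (q_map q hq _).2.1 ((t_map _).1 hcl)
  -- adjust by an element of the quaternion group
  obtain ⟨q, hq, hqi, hqj⟩ : ∃ q ∈ closure ({i, j} : Set L), q * cg g i * q⁻¹ = i ∧ q * cg g j * q⁻¹ = j := by
    have hz' : ∀ x a : L, x * ((⟨z, h.zL⟩ : L) * a) * x⁻¹ = ⟨z, h.zL⟩ * (x * a * x⁻¹) := fun x a => by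
      rw [← mul_assoc, (d.zc x).eq]; group
    have hji : j * i * j⁻¹ = ⟨z, h.zL⟩ * i := by rw [d.ji, ← mul_assoc, mul_inv_cancel_right]
    have hij : i * j * i⁻¹ = ⟨z, h.zL⟩ * j := by
      rw [mul_inv_eq_iff_eq_mul, mul_assoc, d.ji, hzz]
    have hi1 : i ∈ closure ({i, j} : Set L) := subset_closure (Or.inl rfl)
    have hj1 : j ∈ closure ({i, j} : Set L) := subset_closure (Or.inr rfl)
    rcases hcl with e1 | e1 <;> rcases hclj with e2 | e2
    · exact ⟨1, one_mem _, by simp [e1], by simp [e2]⟩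
    · exact ⟨i, hi1, by rw [e1, mul_inv_cancel_right], by rw [e2, hz', hij, hzz]⟩
    · exact ⟨j, hj1, by rw [e1, hz', hji, hzz], by rw [e2, mul_inv_cancel_right]⟩
    · refine ⟨i * j, mul_mem hi1 hj1, ?_, ?_⟩
      · rw [e1, hz', show i * j * i * (i * j)⁻¹ = i * (j * i * j⁻¹) * i⁻¹ by group, hji, hz',
          mul_inv_cancel_right, hzz]
      · rw [e2, hz', show i * j * j * (i * j)⁻¹ = i * j * i⁻¹ by group, hij, hzz]
  have hqS := (hmem q).1 hq
  set f := (q : G) * g with hf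
  have hfS : f ∈ (S : Subgroup G) := mul_mem hqS hg
  have hfi : cg f i = i := by rw [hf, cg_comp]; exact (Subtype.ext rfl : cg (q : G) (cg g i) = q * cg g i * q⁻¹).trans hqi
  have hfj : cg f j = j := by rw [hf, cg_comp]; exact (Subtype.ext rfl : cg (q : G) (cg g j) = q * cg g j * q⁻¹).trans hqj
  have hfP : ∀ x ∈ closure ({i, j} : Set L), Commute f x := by
    intro x hx
    induction hx using closure_induction with
    | mem y hy =>
      rcases hy with rfl | rfl
      exacts [mul_inv_eq_iff_eq_mul.1 (congrArg Subtype.val hfi), mul_inv_eq_iff_eq_mul.1 (congrArg Subtype.val hfj)]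
    | one => exact Commute.one_right f
    | mul a b _ _ ha hb => exact ha.mul_right hb
    | inv a _ ha => exact ha.inv_right
  have hfC := mem_centralizer_of_sylow hO h.zc h.z2 (fun x hx hx2 => eq_of_rank_one hr h.z2 h.zc h.zL hx hx2)
    hfS fun x hx => hfP ⟨x, hx.2⟩ ((hmem _).2 hx.1)
  rw [show g = (q : G)⁻¹ * f by rw [hf, inv_mul_cancel_left]]
  exact mul_mem (mem_sup_left (mem_inf.2 ⟨inv_mem hqS, inv_mem q.2⟩)) (mem_sup_right (mem_inf.2 ⟨hfS, hfC⟩))

end CfsgLib.Inter10
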